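import Cfsg.Agent.Kondo67.Normalise

/-!
# The centraliser of a transposition inside the complement
-/

set_option autoImplicit false

namespace Cfsg.Kondo67

open Subgroup Finset Equiv

variable {G : Type*} [Group G] {ι : Type} [Fintype ι] [DecidableEq ι]

theorem two_group_max [Finite G] {H Q K : Subgroup G} (hHQ : H ≤ Q) (hQK : Q ≤ K)
    (hQ : IsPGroup 2 Q) (hodd : ¬2 ∣ H.relIndex K) : Q = H := by
  obtain ⟨k, -, hk⟩ := exists_conj_le hQK (hHQ.trans hQK) hQ hodd
  have hle : cj k Q ≤ H := fun x hx => by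
    have h := hk _ (mem_cj.1 hx)
    rwa [show k * (k⁻¹ * x * k) * k⁻¹ = x by group] at h
  refine (Subgroup.eq_of_le_of_card_ge hHQ ?_).symm
  rw [← card_cj k Q]
  exact Nat.card_le_card_of_injective _ (Subgroup.inclusion_injective hle)

theorem eq_one_of_odd_of_two {H : Type*} [Group H] [Finite H] {Q K : Subgroup H}
    (hQ : IsPGroup 2 Q) (hK : Odd (Nat.card K)) {x : H} (hxQ : x ∈ Q) (hxK : x ∈ K) : x = 1 := by
  obtain ⟨k, hk⟩ := hQ ⟨x, hxQ⟩
  have h1 : x ^ 2 ^ k = 1 := congrArg Subtype.val hk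
  have h2 : x ^ Nat.card K = 1 :=
    congrArg Subtype.val (pow_card_eq_one' (G := K) (x := ⟨x, hxK⟩))
  have h3 : orderOf x ∣ Nat.gcd (2 ^ k) (Nat.card K) :=
    Nat.dvd_gcd (orderOf_dvd_of_pow_eq_one h1) (orderOf_dvd_of_pow_eq_one h2)
  rw [Nat.Coprime.gcd_eq_one] at h3
  · exact orderOf_eq_one_iff.1 (Nat.dvd_one.1 h3)
  · exact (Nat.coprime_two_left.2 hK).pow_left k

/-- A pair with a Sylow 2-subgroup of its centraliser. -/
structure Pair (ι : Type) [Fintype ι] [DecidableEq ι] where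
  /-- First point. -/
  a : ι
  /-- Second point. -/
  b : ι
  hab : a ≠ b
  /-- The Sylow subgroup. -/
  T : Subgroup (Perm ι)
  swap_mem : Equiv.swap a b ∈ T
  T_le : T ≤ centralizer ({Equiv.swap a b} : Set (Perm ι))
  T_two : IsPGroup 2 T
  T_odd : ¬2 ∣ T.relIndex (centralizer ({Equiv.swap a b} : Set (Perm ι)))

namespace Pair

theorem exists_pair {a b : ι} (hab : a ≠ b) : ∃ π : Pair ι, π.a = a ∧ π.b = b := by
  obtain ⟨T, h1, h2, h3, h4⟩ :=
    exists_two_sylow (K := centralizer ({Equiv.swap a b} : Set (Perm ι)))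
      (P := zpowers (Equiv.swap a b))
      ((zpowers_le).2 (mem_centralizer_singleton_iff.2 rfl))
      (IsPGroup.of_card (n := 1) (by
        rw [Nat.card_zpowers, pow_one]
        exact orderOf_eq_prime (by rw [sq, Equiv.swap_mul_self]) (by
          simpa [Equiv.swap_eq_one_iff] using hab)))
  exact ⟨⟨a, b, hab, T, h1 (mem_zpowers _), h2, h3, h4⟩, rfl, rfl⟩

variable (π : Pair ι)

/-- The transposition. -/
def τ : Perm ι := Equiv.swap π.a π.b

theorem τ_sq : π.τ * π.τ = 1 := Equiv.swap_mul_self _ _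

theorem τ_ne_one : π.τ ≠ 1 := by simpa [τ, Equiv.swap_eq_one_iff] using π.hab

theorem τ_fix {c : ι} (ha : c ≠ π.a) (hb : c ≠ π.b) : π.τ c = c :=
  Equiv.swap_apply_of_ne_of_ne ha hb

theorem τ_mem : π.τ ∈ π.T := π.swap_mem

theorem cent_preserves {σ : Perm ι} (hσ : σ ∈ centralizer ({π.τ} : Set (Perm ι))) :
    (σ π.a = π.a ∧ σ π.b = π.b) ∨ (σ π.a = π.b ∧ σ π.b = π.a) := by
  have h : σ * π.τ = π.τ * σ := mem_centralizer_singleton_iff.1 hσ
  have h1 : σ π.b = π.τ (σ π.a) := by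
    rw [← Equiv.Perm.mul_apply, ← h]; simp [τ]
  by_cases ha : σ π.a = π.a
  · exact Or.inl ⟨ha, by rw [h1, ha]; simp [τ]⟩
  by_cases hb : σ π.a = π.b
  · exact Or.inr ⟨hb, by rw [h1, hb]; simp [τ]⟩
  · rw [π.τ_fix ha hb] at h1
    exact absurd (σ.injective h1) π.hab.symm

/-- Elements commuting with the transposition. -/
def big : Subgroup (W ι) where
  carrier := {x | x.perm ∈ centralizer ({π.τ} : Set (Perm ι)) ∧ x.vec π.a = x.vec π.b}
  one_mem' := ⟨one_mem _, rfl⟩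
  mul_mem' {x y} hx hy := by
    refine ⟨mul_mem hx.1 hy.1, ?_⟩
    have hs : x.perm.symm ∈ centralizer ({π.τ} : Set (Perm ι)) := inv_mem hx.1
    simp only [W.mul_vec, Pi.add_apply, Function.comp_apply, hx.2]
    rcases π.cent_preserves hs with ⟨h1, h2⟩ | ⟨h1, h2⟩ <;> rw [h1, h2, hy.2]
  inv_mem' {x} hx := by
    refine ⟨inv_mem hx.1, ?_⟩
    simp only [W.inv_vec, Function.comp_apply]
    rcases π.cent_preserves hx.1 with ⟨h1, h2⟩ | ⟨h1, h2⟩ <;> rw [h1, h2, hx.2]

/-- A Sylow 2-subgroup of `big`. -/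
def cw : Subgroup (W ι) := π.big ⊓ π.T.comap W.permHom

theorem mem_cw {x : W ι} : x ∈ π.cw ↔ x.perm ∈ π.T ∧ x.vec π.a = x.vec π.b :=
  ⟨fun h => ⟨h.2, h.1.2⟩, fun h => ⟨⟨π.T_le h.1, h.2⟩, h.1⟩⟩

theorem pm_mem_cw {σ : Perm ι} (h : σ ∈ π.T) : W.pm σ ∈ π.cw := π.mem_cw.2 ⟨h, rfl⟩

theorem em_mem_cw {v : ι → ZMod 2} (h : v π.a = v π.b) : W.em v ∈ π.cw :=
  π.mem_cw.2 ⟨one_mem _, h⟩

theorem δ_mem_cw {c : ι} (ha : c ≠ π.a) (hb : c ≠ π.b) : W.em (δ c) ∈ π.cw :=
  π.em_mem_cw (by simp [δ_apply, Ne.symm ha, Ne.symm hb])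

theorem cw_two : IsPGroup 2 π.cw := by
  haveI : Fact (Nat.Prime 2) := ⟨Nat.prime_two⟩
  have : IsPGroup 2 ↥(π.T.comap W.permHom) :=
    π.T_two.comap_of_ker_isPGroup _ (IsPGroup.of_card W.card_base)
  exact this.to_le inf_le_right

theorem cw_odd : ¬2 ∣ π.cw.relIndex π.big := by
  rw [cw, inf_comm, Subgroup.inf_relIndex_right, relIndex_comap,
    show π.big.map W.permHom = centralizer ({π.τ} : Set (Perm ι)) from ?_]
  · exact π.T_odd
  · ext σ
    constructor
    · rintro ⟨x, hx, rfl⟩; exact hx.1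
    · exact fun h => ⟨W.pm σ, ⟨h, rfl⟩, rfl⟩

theorem mem_big_of_commute {x x1 : W ι} (h1 : x1.perm = π.τ) (h2 : x1.vec π.a = x1.vec π.b)
    (h : x * x1 = x1 * x) : x ∈ π.big := by
  have hp : x.perm * π.τ = π.τ * x.perm := by
    have := congrArg W.perm h
    simpa [h1] using this
  have hc : x.perm ∈ centralizer ({π.τ} : Set (Perm ι)) := mem_centralizer_singleton_iff.2 hp
  refine ⟨hc, ?_⟩
  have hv := congrFun (congrArg W.vec h) π.a
  simp only [W.mul_vec, Pi.add_apply, Function.comp_apply, h1] at hv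
  have hτa : π.τ.symm π.a = π.b := by simp [τ]
  rw [hτa] at hv
  have hsym : x1.vec (x.perm.symm π.a) = x1.vec π.a := by
    rcases π.cent_preserves (inv_mem hc) with ⟨e1, -⟩ | ⟨e1, -⟩
    · rw [show x.perm.symm π.a = π.a from e1]
    · rw [show x.perm.symm π.a = π.b from e1, h2]
  rw [hsym, add_comm] at hv
  exact add_left_cancel hv

theorem commute_pm {x : W ι} (hx : x ∈ π.big) : x * W.pm π.τ = W.pm π.τ * x := by
  ext i
  · simp only [W.mul_vec, W.pm_vec, Pi.add_apply, Function.comp_apply, Pi.zero_apply, add_zero,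
      W.pm_perm, zero_add]
    rcases eq_or_ne i π.a with rfl | ha
    · simp [τ, hx.2]
    rcases eq_or_ne i π.b with rfl | hb
    · simp [τ, hx.2]
    · simp [τ, Equiv.swap_apply_of_ne_of_ne ha hb]
  · have h := mem_centralizer_singleton_iff.1 hx.1
    exact congrArg (fun σ : Perm ι => σ i) h

/-- Central elements of `cw`. -/
theorem centre_cw {x : W ι} (hx : x ∈ π.cw) (hc : ∀ y ∈ π.cw, x * y = y * x) :
    x ∈ W.tw π.τ π.τ_sq ∧ ∀ σ ∈ π.T, x.vec ∘ σ.symm = x.vec := by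
  have hfix : ∀ c, c ≠ π.a → c ≠ π.b → x.perm c = c := by
    intro c ha hb
    have h := hc _ (π.δ_mem_cw ha hb)
    rw [← mul_inv_eq_iff_eq_mul, W.conj_em, δ_comp] at h
    have h2 := congrFun (W.em_injective h) c
    simp only [δ_apply] at h2
    by_contra hne
    rw [if_neg (Ne.symm hne)] at h2
    simp at h2
  have hpr := π.cent_preserves (π.T_le (π.mem_cw.1 hx).1)
  refine ⟨⟨fun i => ?_, fun i => ?_⟩, fun σ hσ => ?_⟩
  · rcases eq_or_ne i π.a with rfl | ha
    · simp [τ, (π.mem_cw.1 hx).2]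
    rcases eq_or_ne i π.b with rfl | hb
    · simp [τ, (π.mem_cw.1 hx).2]
    · rw [π.τ_fix ha hb]
  · rcases eq_or_ne i π.a with rfl | ha
    · rcases hpr with h | h
      · exact Or.inl h.1
      · exact Or.inr (by simp [τ, h.1])
    rcases eq_or_ne i π.b with rfl | hb
    · rcases hpr with h | h
      · exact Or.inl h.2
      · exact Or.inr (by simp [τ, h.2])
    · exact Or.inl (hfix i ha hb)
  · have h := hc _ (π.pm_mem_cw hσ)
    have := congrArg W.vec h
    simpa using this.symm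

/-- Invariant vectors away from the pair. -/
structure Inv (v : ι → ZMod 2) : Prop where
  a : v π.a = 0
  b : v π.b = 0
  inv : ∀ σ ∈ π.T, v ∘ σ.symm = v

theorem Inv.apply {v : ι → ZMod 2} (h : π.Inv v) {σ : Perm ι} (hσ : σ ∈ π.T) (i : ι) :
    v (σ i) = v i := by
  have := congrFun (h.inv σ hσ) (σ i)
  simpa using this.symm

theorem inv_commute {v : ι → ZMod 2} (h : π.Inv v) {y : W ι} (hy : y ∈ π.cw) :
    W.em v * y = y * W.em v := by
  have := W.conj_em y v
  rw [h.inv _ (π.mem_cw.1 hy).1] at this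
  exact (mul_inv_eq_iff_eq_mul.1 this).symm

theorem tp_T {σ : Perm ι} (hσ : σ ∈ π.T) :
    tp π.a π.b ∘ σ.symm = tp π.a π.b := by
  rw [tp, show (δ π.a + δ π.b) ∘ σ.symm = δ π.a ∘ σ.symm + δ π.b ∘ σ.symm from rfl, δ_comp,
    δ_comp]
  rcases π.cent_preserves (π.T_le hσ) with ⟨h1, h2⟩ | ⟨h1, h2⟩ <;> rw [h1, h2]
  exact add_comm _ _

theorem tp_commute {y : W ι} (hy : y ∈ π.cw) :
    W.em (tp π.a π.b) * y = y * W.em (tp π.a π.b) := by
  have := W.conj_em y (tp π.a π.b)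
  rw [π.tp_T (π.mem_cw.1 hy).1] at this
  exact (mul_inv_eq_iff_eq_mul.1 this).symm

theorem tp_apply_a : tp π.a π.b π.a = 1 := by simp [tp, δ_apply, π.hab]

theorem tp_apply_b : tp π.a π.b π.b = 1 := by simp [tp, δ_apply, π.hab.symm]

theorem tp_apply {c : ι} (ha : c ≠ π.a) (hb : c ≠ π.b) : tp π.a π.b c = 0 := by
  simp [tp, δ_apply, ha, hb]

/-- The complementary vector. -/
def rest : ι → ZMod 2 := (fun _ => 1) + tp π.a π.b

theorem rest_inv : π.Inv π.rest where
  a := by simp [rest, π.tp_apply_a, CharTwo.add_self_eq_zero]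
  b := by simp [rest, π.tp_apply_b, CharTwo.add_self_eq_zero]
  inv σ hσ := by
    rw [rest, show ((fun _ => (1 : ZMod 2)) + tp π.a π.b) ∘ σ.symm =
      (fun _ => (1 : ZMod 2)) + tp π.a π.b ∘ σ.symm from rfl, π.tp_T hσ]

/-- An additive function on `cw` vanishes on the invariant vectors away from the pair. -/
theorem vanish (hev : 2 ∣ Fintype.card ι) (χ : W ι → ZMod 2)
    (hχ : ∀ x ∈ π.cw, ∀ y ∈ π.cw, χ (x * y) = χ x + χ y)
    {v : ι → ZMod 2} (hv : π.Inv v) : χ (W.em v) = 0 := by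
  classical
  haveI : Fact (Nat.Prime 2) := ⟨Nat.prime_two⟩
  have h1 : χ 1 = 0 := by
    have := hχ 1 (one_mem _) 1 (one_mem _)
    rw [one_mul, CharTwo.add_self_eq_zero] at this
    exact this
  induction hn : wt v using Nat.strong_induction_on generalizing v with
  | _ n ih =>
    rcases Nat.eq_zero_or_pos n with h0 | h0
    · rw [wt_eq_zero (hn.trans h0), W.em_zero, h1]
    obtain ⟨c, hc⟩ : ∃ c, v c ≠ 0 := by
      by_contra h
      push Not at h
      have : v = 0 := funext h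
      rw [this] at hn
      simp [wt] at hn
      omega
    have hca : c ≠ π.a := fun h => hc (h ▸ hv.a)
    have hcb : c ≠ π.b := fun h => hc (h ▸ hv.b)
    set O : Finset ι := Finset.univ.filter fun i => ∃ σ ∈ π.T, σ c = i with hO
    have hmem : ∀ i, i ∈ O ↔ ∃ σ ∈ π.T, σ c = i := fun i => by simp [O]
    have hvO : ∀ i ∈ O, v i ≠ 0 ∧ i ≠ π.a ∧ i ≠ π.b := by
      intro i hi
      obtain ⟨σ, hσ, rfl⟩ := (hmem i).1 hi
      rw [hv.apply π hσ]
      have h2 : v (σ c) ≠ 0 := by rwa [hv.apply π hσ]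
      exact ⟨hc, fun h => h2 (h ▸ hv.a), fun h => h2 (h ▸ hv.b)⟩
    have heven : 2 ∣ O.card := by
      have hcard : O.card = Nat.card (MulAction.orbit π.T c) := by
        rw [← Nat.card_eq_finsetCard]
        refine Nat.card_congr (Equiv.subtypeEquivRight fun i => ?_)
        rw [hmem, MulAction.mem_orbit_iff]
        exact ⟨fun ⟨σ, h, h'⟩ => ⟨⟨σ, h⟩, h'⟩, fun ⟨σ, h⟩ => ⟨σ.1, σ.2, h⟩⟩
      obtain ⟨k, hk⟩ := π.T_two.card_orbit c
      rw [hcard, hk]
      rcases Nat.eq_zero_or_pos k with rfl | hk0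
      · exfalso
        obtain ⟨σ, hσ, hne⟩ := exists_move_fix hev π.τ_sq π.T_le π.T_odd
          (π.τ_fix hca hcb)
        rw [pow_zero, Nat.card_eq_one_iff_unique] at hk
        exact hne (congrArg Subtype.val
          (hk.1.elim ⟨σ c, ⟨σ, hσ⟩, rfl⟩ ⟨c, MulAction.mem_orbit_self c⟩))
      · exact dvd_pow_self 2 (by omega)
    set o : ι → ZMod 2 := fun i => if i ∈ O then 1 else 0
    have ho : π.Inv o := by
      refine ⟨if_neg fun h => (hvO _ h).2.1 rfl, if_neg fun h => (hvO _ h).2.2 rfl,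
        fun σ hσ => funext fun i => ?_⟩
      have : σ.symm i ∈ O ↔ i ∈ O := by
        simp only [hmem]
        constructor
        · rintro ⟨ρ, hρ, h⟩
          exact ⟨σ * ρ, mul_mem hσ hρ, by simp [h]⟩
        · rintro ⟨ρ, hρ, h⟩
          exact ⟨σ⁻¹ * ρ, mul_mem (inv_mem hσ) hρ, by simp [h, Equiv.Perm.inv_def]⟩
      simp [o, Function.comp_apply, this]
    have hpair : ∀ i ∈ O, χ (W.em (δ i + δ c)) = 0 := by
      intro i hi
      obtain ⟨σ, hσ, rfl⟩ := (hmem i).1 hi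
      obtain ⟨-, ha, hb⟩ := hvO _ hi
      have hconj : W.pm σ * W.em (δ c) * (W.pm σ)⁻¹ = W.em (δ (σ c)) := by
        rw [W.conj_em, W.pm_perm, δ_comp]
      have hσm := π.pm_mem_cw hσ
      have hinv : χ (W.pm σ)⁻¹ = χ (W.pm σ) := by
        have := hχ _ hσm _ (inv_mem hσm)
        rw [mul_inv_cancel, h1] at this
        exact (CharTwo.add_eq_zero.1 this.symm).symm
      rw [W.em_add, hχ _ (π.δ_mem_cw ha hb) _ (π.δ_mem_cw hca hcb), ← hconj,
        hχ _ (mul_mem hσm (π.δ_mem_cw hca hcb)) _ (inv_mem hσm),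
        hχ _ hσm _ (π.δ_mem_cw hca hcb), hinv]
      have e1 := CharTwo.add_self_eq_zero (R := ZMod 2) (χ (W.pm σ))
      have e2 := CharTwo.add_self_eq_zero (R := ZMod 2) (χ (W.em (δ c)))
      linear_combination e1 + e2
    have hsum : ∀ s ⊆ O, χ (W.em (∑ i ∈ s, (δ i + δ c))) = 0 ∧
        W.em (∑ i ∈ s, (δ i + δ c)) ∈ π.cw := by
      intro s
      induction s using Finset.induction_on with
      | empty => intro _; rw [Finset.sum_empty, W.em_zero]; exact ⟨h1, one_mem _⟩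
      | insert i s his ihs =>
        intro hs
        rw [Finset.insert_subset_iff] at hs
        have hm : W.em (δ i + δ c) ∈ π.cw := by
          rw [W.em_add]
          exact mul_mem (π.δ_mem_cw (hvO i hs.1).2.1 (hvO i hs.1).2.2) (π.δ_mem_cw hca hcb)
        rw [Finset.sum_insert his, W.em_add]
        exact ⟨by rw [hχ _ hm _ (ihs hs.2).2, hpair i hs.1, (ihs hs.2).1, add_zero],
          mul_mem hm (ihs hs.2).2⟩
    have hoeq : ∑ i ∈ O, (δ i + δ c) = o := by
      obtain ⟨k, hk⟩ := heven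
      rw [Finset.sum_add_distrib, Finset.sum_const, hk, mul_nsmul, two_nsmul, add_self, nsmul_zero,
        add_zero]
      ext j
      simp [Finset.sum_apply, δ_apply, o]
    have hv' : π.Inv (v + o) := by
      refine ⟨by simp [hv.a, ho.a], by simp [hv.b, ho.b], fun σ hσ => ?_⟩
      rw [show (v + o) ∘ σ.symm = v ∘ σ.symm + o ∘ σ.symm from rfl, hv.inv σ hσ, ho.inv σ hσ]
    have hlt : wt (v + o) < n := by
      rw [← hn]
      refine Finset.card_lt_card ⟨fun i hi => ?_, fun h => ?_⟩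
      · simp only [Finset.mem_filter, Finset.mem_univ, true_and] at hi ⊢
        intro hvi
        by_cases hiO : i ∈ O
        · exact (hvO i hiO).1 hvi
        · exact hi (by simp [o, hiO, hvi])
      · have hcO : c ∈ O := (hmem c).2 ⟨1, one_mem _, rfl⟩
        have := h (Finset.mem_filter.2 ⟨Finset.mem_univ c, hc⟩)
        simp [o, hcO, (zmod_two _).resolve_left hc, CharTwo.add_self_eq_zero] at this
    have hfin : χ (W.em (v + o)) = 0 := ih _ hlt hv' rfl
    have hcalc : W.em v = W.em (v + o) * W.em o := by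
      rw [← W.em_add, add_assoc, add_self, add_zero]
    rw [hcalc, hχ _ (π.em_mem_cw (by simp [hv'.a, hv'.b])) _ (π.em_mem_cw (by simp [ho.a, ho.b])),
      hfin, ← hoeq, (hsum O subset_rfl).1, add_zero]

end Pair

/-- The orbit of the all one vector, with enough symmetry. -/
theorem eq_one_of_weight {κ : Perm ι} (hev : 2 ∣ Fintype.card ι) (hκ : κ * κ = 1)
    {T : Subgroup (Perm ι)} (hT : T ≤ centralizer ({κ} : Set (Perm ι)))
    (hodd : ¬2 ∣ T.relIndex (centralizer ({κ} : Set (Perm ι)))) {x : ι → ZMod 2}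
    (hw : w x = Fintype.card ι) (hxκ : ∀ i, x (κ i) = x i) (hxT : ∀ σ ∈ T, x ∘ σ.symm = x) :
    x = fun _ => 1 := by
  rcases Nat.mod_two_eq_zero_or_one (wt x) with h | h
  · exact wt_eq_card (by unfold w at hw; omega)
  exfalso
  obtain ⟨c, rfl⟩ := eq_compl_of_wt (x := x) (by unfold w at hw; omega)
  have key : ∀ π : Perm ι, (∀ i, ((fun _ => (1 : ZMod 2)) + δ c : ι → ZMod 2) (π i) =
      ((fun _ => (1 : ZMod 2)) + δ c : ι → ZMod 2) i) → π c = c := by
    intro π hπ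
    by_contra hne
    simpa [δ_apply, hne, CharTwo.add_self_eq_zero] using hπ c
  obtain ⟨σ, hσ, hne⟩ := exists_move_fix hev hκ hT hodd (key κ hxκ)
  exact hne (key σ fun i => by
    have := congrFun (hxT σ hσ) (σ i)
    simpa using this.symm)

end Cfsg.Kondo67
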