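import Cfsg.Agent.Kondo67.Swap
import Mathlib.Algebra.Group.ConjFinite

/-!
# The classes of involutions
-/

set_option autoImplicit false

namespace Cfsg.Kondo67

open Subgroup Finset Equiv

variable {G : Type*} [Group G] {ι : Type} [Fintype ι] [DecidableEq ι]

namespace Setup

variable (D : Setup G ι)

/-- The flip at a pair. -/
theorem exists_flip [Finite G] (hN : D.Normal2) (π : Pair ι) :
    ∃ (F : G) (c : W ι), c.perm = π.τ ∧ c.vec π.a = c.vec π.b ∧
      (∀ i, i ≠ π.a → i ≠ π.b → c.vec i = 0) ∧ cn F (D.dd π) = D.ρ c ∧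
      ∀ x : W ι, x.perm π.a = π.a → x.perm π.b = π.b → x.vec π.a = 0 → x.vec π.b = 0 →
        cn F (D.ρ x) = D.ρ x := by
  by_cases h : ∃ p, p ≠ π.a ∧ p ≠ π.b
  · obtain ⟨p, hpa, hpb⟩ := h
    exact D.flip_rest π hN hpa hpb
  push Not at h
  have hall : ∀ i, i = π.a ∨ i = π.b := fun i => (_root_.em (i = π.a)).imp id (h i)
  obtain ⟨f, -, -, c, -, hc, -, -, hcp, -, hfd, -⟩ := D.exists_cycle π hN.1
  refine ⟨f, c, hcp, (π.mem_cw.1 hc).2, fun i ha hb => absurd (h i ha) hb, hfd,
    fun x ha hb hva hvb => ?_⟩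
  have hx : x = 1 := by
    ext i
    · rcases hall i with rfl | rfl
      · exact hva
      · exact hvb
    · rcases hall i with rfl | rfl
      · exact ha
      · exact hb
  rw [hx, map_one, cn_one]

/-- Every involution of the complement is conjugate into the base. -/
theorem exists_base_conj [Finite G] (hN : D.Normal2) : ∀ m, ∀ x : W ι, x.perm.support.card = m →
    x * x = 1 → ∃ (g : G) (e : ι → ZMod 2), cn g (D.ρ x) = D.ρ (W.em e) := by
  intro m
  induction m using Nat.strong_induction_on with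
  | _ m ih =>
    intro x hm hx
    by_cases h1 : x.perm = 1
    · exact ⟨1, x.vec, by rw [← W.eq_em h1]; simp [cn]⟩
    obtain ⟨a, ha⟩ : ∃ a, x.perm a ≠ a := by
      by_contra h; push Not at h; exact h1 (Equiv.ext h)
    obtain ⟨π, hπa, hπb⟩ := Pair.exists_pair (Ne.symm ha)
    obtain ⟨F, c, hcp, hcab, hc0, hFd, hFx⟩ := D.exists_flip hN π
    have hinvol : ∀ i, x.perm (x.perm i) = i := fun i => by
      rw [← Equiv.Perm.mul_apply, show x.perm * x.perm = 1 from congrArg W.perm hx,
        Equiv.Perm.one_apply]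
    have hpa : x.perm π.a = π.b := by rw [hπa, hπb]
    have hpb : x.perm π.b = π.a := by rw [← hpa, hinvol]
    set k := x.vec π.a with hk
    have hkb : x.vec π.b = k := by rw [hk, ← hpa, W.sq_vec hx]
    set x' : W ι := ⟨fun i => if i = π.a ∨ i = π.b then 0 else x.vec i, π.τ * x.perm⟩ with hx'
    have hx'a : x'.perm π.a = π.a := by simp [hx', hpa, Pair.τ]
    have hx'b : x'.perm π.b = π.b := by simp [hx', hpb, Pair.τ]
    have hτsymm : π.τ.symm = π.τ := by simp [Pair.τ]
    have hdecomp : ∀ u : W ι, u.perm = π.τ → u.vec π.a = k → u.vec π.b = k →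
        (∀ i, i ≠ π.a → i ≠ π.b → u.vec i = 0) → x = u * x' := by
      intro u hup hua hub hu0
      ext i
      · simp only [W.mul_vec, Pi.add_apply, Function.comp_apply, hup, hτsymm, hx']
        rcases eq_or_ne i π.a with rfl | hia
        · simp [Pair.τ, hua, hk]
        rcases eq_or_ne i π.b with rfl | hib
        · simp [Pair.τ, hub, hkb]
        · rw [π.τ_fix hia hib, hu0 i hia hib]; simp [hia, hib]
      · simp only [W.mul_perm, hup, hx']
        rw [← mul_assoc, π.τ_sq, one_mul]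
    have hlt : x'.perm.support.card < m := by
      rw [← hm]
      refine Finset.card_lt_card ⟨fun i hi => ?_, fun h => ?_⟩
      · simp only [Equiv.Perm.mem_support] at hi ⊢
        intro hfix
        apply hi
        have hia : i ≠ π.a := fun e => π.hab ((e ▸ hfix).symm.trans hpa)
        have hib : i ≠ π.b := fun e => π.hab.symm ((e ▸ hfix).symm.trans hpb)
        simp [hx', hfix, π.τ_fix hia hib]
      · have := h (Equiv.Perm.mem_support.2 (show x.perm π.a ≠ π.a by rw [hpa]; exact π.hab.symm))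
        exact Equiv.Perm.mem_support.1 this hx'a
    have hdx : ∀ g : G, cn g (D.ρ x) = D.ρ (W.em (tp π.a π.b) * x') →
        ∃ (g : G) (e : ι → ZMod 2), cn g (D.ρ x) = D.ρ (W.em e) := by
      intro g hg
      have hsq : (W.em (tp π.a π.b) * x') * (W.em (tp π.a π.b) * x') = 1 := by
        apply D.ρ_injective
        rw [map_mul D.ρ (W.em (tp π.a π.b) * x') (W.em (tp π.a π.b) * x'), ← hg, ← cn_map_mul,
          ← map_mul, hx, map_one, cn_one]
      obtain ⟨g', e, he⟩ := ih _ hlt (W.em (tp π.a π.b) * x') (by simp) hsq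
      exact ⟨g' * g, e, by rw [cn_mul, hg, he]⟩
    have hFx' : cn F (D.ρ x') = D.ρ x' :=
      hFx x' hx'a hx'b (by simp [hx']) (by simp [hx'])
    have hFinv : cn F⁻¹ (D.ρ c * D.ρ x') = D.ρ (W.em (tp π.a π.b) * x') := by
      rw [cn_map_mul, cn_inv_eq hFd, cn_inv_eq hFx', map_mul]
      rfl
    by_cases hck : c.vec π.a = k
    · refine hdx F⁻¹ ?_
      rw [hdecomp c hcp hck (hcab ▸ hck) hc0, map_mul, hFinv]
    · set u := W.em (tp π.a π.b) * c with hu
      have hadd : 1 + c.vec π.a = k := by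
        rcases zmod_two (c.vec π.a) with h | h <;> rcases zmod_two k with h' | h' <;>
          simp [h, h', CharTwo.add_self_eq_zero] at hck ⊢
      have hux : x = u * x' := by
        refine hdecomp u (by simp [hu, hcp]) ?_ ?_ (fun i hia hib => ?_)
        · simp [hu, π.tp_apply_a, Equiv.Perm.one_def, hadd]
        · simp [hu, π.tp_apply_b, Equiv.Perm.one_def, ← hcab, hadd]
        · simp [hu, π.tp_apply hia hib, Equiv.Perm.one_def, hc0 i hia hib]
      have hεc : cn (D.ee π) (D.ρ u) = D.ρ c := by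
        rw [cn, D.ee_conj_move π (by simp [hu, hcp, Pair.τ]), hu, map_mul, dd, ← mul_assoc,
          ← map_mul, ← W.em_add, add_self, W.em_zero, map_one, one_mul]
      have hεx : cn (D.ee π) (D.ρ x') = D.ρ x' := D.ee_conj_fix π hx'a
      refine hdx (F⁻¹ * D.ee π) ?_
      rw [cn_mul, hux, map_mul, cn_map_mul, hεc, hεx, hFinv]

include D in
/-- There are exactly half as many classes of involutions as points. -/
theorem card_classes [Finite G] :
    Nat.card {c : ConjClasses G // ∃ x ∈ c.carrier, orderOf x = 2} = Fintype.card ι / 2 := by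
  classical
  haveI : Fact (Nat.Prime 2) := ⟨Nat.prime_two⟩
  obtain ⟨D', -, hN⟩ := D.exists_normal2
  obtain ⟨n, hn⟩ := D.card_even
  rw [hn, Nat.mul_div_cancel_left _ two_pos]
  have hex : ∀ k : Fin n, ∃ e : ι → ZMod 2, wt e = 2 * (k.1 + 1) := fun k => by
    obtain ⟨s, -, hs⟩ := Finset.exists_subset_card_eq (s := (Finset.univ : Finset ι))
      (n := 2 * (k.1 + 1)) (by rw [Finset.card_univ, hn]; omega)
    refine ⟨fun i => if i ∈ s then 1 else 0, ?_⟩
    rw [← hs, wt]; congr 1; ext i; simp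
  choose v hv using hex
  have hw : ∀ k, w (v k) = 2 * (k.1 + 1) := fun k => by rw [w, hv]; omega
  have hord : ∀ k, orderOf (D'.ρ (W.em (v k))) = 2 := by
    intro k
    refine orderOf_eq_prime (by rw [sq, ← map_mul, ← W.em_add, add_self, W.em_zero, map_one])
      fun h => ?_
    have h0 := W.em_injective (D'.ρ_injective (h.trans (map_one D'.ρ).symm))
    have := hw k
    rw [h0] at this
    simp [w, wt] at this
  let φ : Fin n → {c : ConjClasses G // ∃ x ∈ c.carrier, orderOf x = 2} := fun k =>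
    ⟨ConjClasses.mk (D'.ρ (W.em (v k))), _, ConjClasses.mem_carrier_mk, hord k⟩
  suffices Function.Bijective φ by
    rw [← Nat.card_congr (Equiv.ofBijective φ this), Nat.card_fin]
  refine ⟨fun k k' h => ?_, fun ⟨C, x, hxC, hx⟩ => ?_⟩
  · obtain ⟨g, hg⟩ := isConj_iff.1 (ConjClasses.mk_eq_mk_iff_isConj.1 (congrArg Subtype.val h))
    obtain ⟨g', hg', hact⟩ := D'.exists_N_conj hg
    have := D'.w_act hN.1 hg' (v k)
    rw [hact, hw, hw] at this
    exact Fin.ext (by omega)
  · obtain ⟨T, -, -, -, hTodd⟩ := D'.exists_S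
    have hx2 : x * x = 1 := by rw [← sq, ← hx]; exact pow_orderOf_eq_one x
    obtain ⟨g, -, hg⟩ := exists_conj_le (le_top : zpowers x ≤ ⊤) le_top
      (IsPGroup.of_card (n := 1) (by rw [Nat.card_zpowers, hx, pow_one]))
      (by rwa [Subgroup.relIndex_top_right] : ¬2 ∣ (T.map D'.ρ).relIndex ⊤)
    obtain ⟨y, -, hy⟩ := hg x (mem_zpowers x)
    have hy2 : y * y = 1 := D'.ρ_injective (by
      rw [map_mul, hy, map_one]
      calc g * x * g⁻¹ * (g * x * g⁻¹) = g * (x * x) * g⁻¹ := by group
        _ = 1 := by rw [hx2]; group)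
    obtain ⟨g2, e, he⟩ := D'.exists_base_conj hN _ y rfl hy2
    have hne : e ≠ 0 := by
      rintro rfl
      rw [W.em_zero, map_one, hy, ← cn, ← cn_mul] at he
      have : x = 1 := by
        have := cn_inv_eq he
        rw [cn_one] at this
        exact this.symm
      rw [this, orderOf_one] at hx
      exact one_ne_zero (by omega : (1 : ℕ) = 0)
    have hwe : 0 < w e ∧ w e ≤ 2 * n ∧ 2 ∣ w e := by
      refine ⟨?_, ?_, ?_⟩
      · have : wt e ≠ 0 := fun h => hne (wt_eq_zero h)
        unfold w; omega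
      · have : wt e ≤ 2 * n := hn ▸ (Finset.card_le_univ _ : wt e ≤ Fintype.card ι)
        unfold w; omega
      · unfold w; omega
    let k : Fin n := ⟨w e / 2 - 1, by omega⟩
    obtain ⟨g3, hg3, hg3'⟩ := D'.exists_act hN.1 (e := e) (e' := v k) (by
      rw [hw]; simp only [k]; omega)
    refine ⟨k, Subtype.ext ?_⟩
    show ConjClasses.mk (D'.ρ (W.em (v k))) = C
    rw [← ConjClasses.mem_carrier_iff_mk_eq.1 hxC]
    refine ConjClasses.mk_eq_mk_iff_isConj.2 (IsConj.symm (isConj_iff.2 ⟨g3 * g2 * g, ?_⟩))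
    rw [show g3 * g2 * g * x * (g3 * g2 * g)⁻¹ = g3 * (g2 * (g * x * g⁻¹) * g2⁻¹) * g3⁻¹ by group,
      ← hy, show g2 * D'.ρ y * g2⁻¹ = D'.ρ (W.em e) from he, D'.act_spec hg3, hg3']

end Setup

end Cfsg.Kondo67
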