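import Cfsg.Agent.Kondo67.Centre

/-!
# An element of odd order cycling the four group at a pair
-/

set_option autoImplicit false

namespace Cfsg.Kondo67

open Subgroup Finset Equiv

variable {G : Type*} [Group G] {ι : Type} [Fintype ι] [DecidableEq ι]

namespace Setup

variable (D : Setup G ι) (π : Pair ι)

/-- The Sylow 2-subgroup of the centraliser of a transposition in the complement. -/
def C : Subgroup G := π.cw.map D.ρ

/-- The vector of the pair in `G`. -/
def dd : G := D.ρ (W.em (tp π.a π.b))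

/-- The flip at the first point. -/
def ee : G := D.ρ (W.em (δ π.a))

theorem C_two : IsPGroup 2 (D.C π) := π.cw_two.map _

theorem C_le_cent : D.C π ≤ centralizer ({D.t} : Set G) := by
  rintro _ ⟨x, -, rfl⟩; exact D.ρ_mem x

theorem ρ_mem_C {x : W ι} : D.ρ x ∈ D.C π ↔ x ∈ π.cw :=
  ⟨fun ⟨y, hy, h⟩ => D.ρ_injective h ▸ hy, fun h => ⟨x, h, rfl⟩⟩

theorem ee_mul_self : D.ee π * D.ee π = 1 := by
  rw [ee, ← map_mul, ← W.em_add, add_self, W.em_zero, map_one]

theorem ee_inv : (D.ee π)⁻¹ = D.ee π := inv_eq_of_mul_eq_one_right (D.ee_mul_self π)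

theorem ee_conj_fix {x : W ι} (hxa : x.perm π.a = π.a) :
    D.ee π * D.ρ x * (D.ee π)⁻¹ = D.ρ x := by
  rw [D.ee_inv, ee, ← map_mul, ← map_mul]
  congr 1
  have h := W.conj_em x (δ π.a)
  rw [δ_comp, hxa] at h
  rw [mul_assoc, mul_inv_eq_iff_eq_mul.1 h, ← mul_assoc, ← W.em_add, add_self, W.em_zero, one_mul]

theorem ee_conj_move {x : W ι} (hxa : x.perm π.a = π.b) :
    D.ee π * D.ρ x * (D.ee π)⁻¹ = D.dd π * D.ρ x := by
  rw [D.ee_inv, ee, dd, ← map_mul, ← map_mul, ← map_mul]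
  congr 1
  have h := W.conj_em x (δ π.a)
  rw [δ_comp, hxa] at h
  rw [mul_assoc, mul_inv_eq_iff_eq_mul.1 h, ← mul_assoc, ← W.em_add]
  rfl

theorem dd_mul_self : D.dd π * D.dd π = 1 := by
  rw [dd, ← map_mul, ← W.em_add, add_self, W.em_zero, map_one]

theorem cj_ee : cj (D.ee π) (D.C π) = D.C π := by
  have hd : D.dd π ∈ D.C π :=
    (D.ρ_mem_C π).2 (π.em_mem_cw (π.tp_apply_a.trans π.tp_apply_b.symm))
  have key : ∀ x ∈ D.C π, D.ee π * x * (D.ee π)⁻¹ ∈ D.C π := by
    rintro _ ⟨x, hx, rfl⟩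
    rcases π.cent_preserves (π.T_le (π.mem_cw.1 hx).1) with ⟨h, -⟩ | ⟨h, -⟩
    · rw [D.ee_conj_fix π h]; exact (D.ρ_mem_C π).2 hx
    · rw [D.ee_conj_move π h]; exact mul_mem hd ((D.ρ_mem_C π).2 hx)
  refine mem_normalizer_iff_cj.1 (Subgroup.mem_normalizer_iff.2 fun x => ⟨key x, fun h => ?_⟩)
  have h2 := key _ h
  have : D.ee π * (D.ee π * x * (D.ee π)⁻¹) * (D.ee π)⁻¹
      = (D.ee π * D.ee π) * x * (D.ee π * D.ee π)⁻¹ := by group
  rwa [this, D.ee_mul_self, one_mul, inv_one, mul_one] at h2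

/-- Sylow property of `C` in the centraliser of a transposition class. -/
theorem C_max [Finite G] {x1 : W ι} (h1 : x1.perm = π.τ) (h2 : x1.vec π.a = x1.vec π.b)
    {Q : Subgroup G} (hQ : IsPGroup 2 Q) (hCQ : D.C π ≤ Q)
    (hQt : Q ≤ centralizer ({D.t} : Set G)) (hQx : Q ≤ centralizer ({D.ρ x1} : Set G)) :
    Q = D.C π := by
  haveI : Finite (W ι) := W.finite
  set Q' : Subgroup (W ι) := (Q.subgroupOf (centralizer ({D.t} : Set G))).map D.q
  have hQ' : IsPGroup 2 Q' := (hQ.comap_subtype).map _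
  have hle : Q' ≤ π.big := by
    rintro _ ⟨z, hz, rfl⟩
    refine π.mem_big_of_commute h1 h2 ?_
    have hx1 : (⟨D.ρ x1, D.ρ_mem x1⟩ : ↥(centralizer ({D.t} : Set G))) * z
        = z * ⟨D.ρ x1, D.ρ_mem x1⟩ :=
      Subtype.ext (mem_centralizer_singleton_iff.1 (hQx hz)).symm
    have := congrArg D.q hx1
    rw [map_mul, map_mul, D.q_ρ] at this
    exact this.symm
  have hcw : π.cw ≤ Q' := fun x hx =>
    ⟨⟨D.ρ x, D.ρ_mem x⟩, mem_subgroupOf.2 (hCQ ((D.ρ_mem_C π).2 hx)), D.q_ρ x⟩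
  have hQeq : Q' = π.cw := two_group_max hcw hle hQ' π.cw_odd
  refine le_antisymm (fun g hg => ?_) hCQ
  set z : ↥(centralizer ({D.t} : Set G)) := ⟨g, hQt hg⟩
  have hzq : D.q z ∈ π.cw := hQeq ▸ mem_map_of_mem _ (mem_subgroupOf.2 hg)
  let k : ↥(centralizer ({D.t} : Set G)) := (⟨D.ρ (D.q z), D.ρ_mem _⟩)⁻¹ * z
  have hk1 : k = 1 := eq_one_of_odd_of_two (hQ.comap_subtype) D.ker_odd
    (Q := Q.subgroupOf (centralizer ({D.t} : Set G)))
    (mul_mem (inv_mem (mem_subgroupOf.2 (hCQ ((D.ρ_mem_C π).2 hzq)))) (mem_subgroupOf.2 hg))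
    (by rw [MonoidHom.mem_ker, map_mul, map_inv, D.q_ρ, inv_mul_cancel])
  have := congrArg Subtype.val hk1
  simp only [k, Subgroup.coe_mul, Subgroup.coe_inv, OneMemClass.coe_one] at this
  rw [show g = D.ρ (D.q z) from (inv_mul_eq_one.1 this).symm]
  exact (D.ρ_mem_C π).2 hzq

/-- The element outside `C(t)`. -/
theorem exists_r [Finite G] : ∃ r : G, cj r (D.C π) = D.C π ∧ r * r ∈ D.C π ∧
    ¬ r * D.t = D.t * r := by
  classical
  have of_bigger : ∀ (x1 : W ι), x1.perm = π.τ → x1.vec π.a = x1.vec π.b →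
      ∀ Q : Subgroup G, IsPGroup 2 Q → D.C π ≤ Q → D.C π ≠ Q →
      Q ≤ centralizer ({D.ρ x1} : Set G) →
      ∃ r : G, cj r (D.C π) = D.C π ∧ r * r ∈ D.C π ∧ ¬ r * D.t = D.t * r := by
    intro x1 h1 h2 Q hQ hCQ hne hQx
    obtain ⟨r, hrQ, hrC, hr2, hrn⟩ := exists_sq_mem hQ hCQ hne
    refine ⟨r, mem_normalizer_iff_cj.1 (Subgroup.mem_normalizer_iff.2 hrn), hr2, fun hrt => ?_⟩
    have hle : D.C π ⊔ zpowers r ≤ centralizer ({D.t} : Set G) :=
      sup_le (D.C_le_cent π) ((zpowers_le).2 (D.mem_cent hrt))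
    have hQ2 : D.C π ⊔ zpowers r ≤ Q := sup_le hCQ ((zpowers_le).2 hrQ)
    have := D.C_max π h1 h2 (hQ.to_le hQ2) le_sup_left hle (hQ2.trans hQx)
    exact hrC (this ▸ (le_sup_right : zpowers r ≤ _) (mem_zpowers r))
  obtain ⟨T, hcT, hbT, -, hS2, hSodd⟩ := D.exists_sylow_ge π.cw_two
  set M : Subgroup (W ι) := T ⊓ ((Equiv.Perm.sign : Perm ι →* ℤˣ).comp W.permHom).ker
  have hτT : W.pm π.τ ∈ T := hcT (π.pm_mem_cw π.τ_mem)
  have hM : M.relIndex T = 2 :=
    relIndex_two T M (fun x => sgn2 x.perm) (fun x _ y _ => sgn2_mul _ _)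
      (fun x => by
        simp only [M, Subgroup.mem_inf, MonoidHom.mem_ker, sgn2]
        refine and_congr_right fun _ => ?_
        constructor
        · intro h; exact if_pos h
        · intro h; by_contra hne
          rw [if_neg (show ¬ Equiv.Perm.sign x.perm = 1 from hne)] at h
          exact one_ne_zero h)
      (W.pm π.τ) hτT (sgn2_swap π.hab)
  have huM : D.ρ (W.pm π.τ) ∉ M.map D.ρ := by
    rintro ⟨x, hx, hx'⟩
    rw [D.ρ_injective hx'] at hx
    have h2 : Equiv.Perm.sign π.τ = 1 := hx.2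
    rw [Pair.τ, Equiv.Perm.sign_swap π.hab] at h2
    exact absurd h2 (by decide)
  have hτ2 : D.ρ (W.pm π.τ) * D.ρ (W.pm π.τ) = 1 := by
    rw [← map_mul, ← W.pm_mul, π.τ_sq, show W.pm (1 : Perm ι) = 1 from rfl, map_one]
  obtain ⟨g, hgM, hgC⟩ := strong_transfer D.no2 (T.map D.ρ) hS2 hSodd (M.map D.ρ)
    (map_mono inf_le_left) (by rw [Subgroup.relIndex_map_map_of_injective _ _ D.ρ_injective, hM])
    (D.ρ (W.pm π.τ)) (mem_map_of_mem _ hτT) huM hτ2
  have hgc : ∀ y ∈ π.cw, g * D.ρ y * g⁻¹ ∈ T.map D.ρ := fun y hy =>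
    hgC _ (mem_map_of_mem _ (hcT hy)) (by rw [← map_mul, ← map_mul, π.commute_pm hy.1])
  have hCτ : D.C π ≤ centralizer ({D.ρ (W.pm π.τ)} : Set G) := by
    rintro _ ⟨y, hy, rfl⟩
    rw [mem_centralizer_singleton_iff, ← map_mul, ← map_mul, π.commute_pm hy.1]
  obtain ⟨Q, hCQ, hQK, hQ2, hQodd⟩ := exists_two_sylow hCτ (D.C_two π)
  by_cases hne : D.C π = Q
  swap
  · exact of_bigger (W.pm π.τ) rfl rfl Q hQ2 hCQ hne hQK
  subst hne
  set x := g⁻¹ * D.t * g with hx
  have hxcomm : ∀ y ∈ π.cw, x * D.ρ y = D.ρ y * x := by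
    intro y hy
    obtain ⟨z, -, hz⟩ := hgc y hy
    have h := D.comm_t z
    rw [hz] at h
    calc x * D.ρ y = g⁻¹ * (D.t * (g * D.ρ y * g⁻¹)) * g := by rw [hx]; group
      _ = _ := by rw [← h, hx]; group
  have hxτ : x ∈ centralizer ({D.ρ (W.pm π.τ)} : Set G) :=
    mem_centralizer_singleton_iff.2 (hxcomm _ (π.pm_mem_cw π.τ_mem))
  have ht2 : D.t * D.t = 1 := by
    rw [← D.ρ_t, ← map_mul, ← W.em_add, add_self, W.em_zero, map_one]
  have hx2 : IsPGroup 2 ↥(zpowers x) := by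
    rintro ⟨y, k, rfl⟩
    refine ⟨1, Subtype.ext ?_⟩
    show (x ^ k) ^ 2 ^ 1 = 1
    rw [pow_one, ← zpow_natCast, ← zpow_mul, mul_comm, zpow_mul, zpow_natCast, sq,
      show x * x = 1 by
        calc x * x = g⁻¹ * (D.t * D.t) * g := by rw [hx]; group
          _ = 1 := by rw [ht2]; group, one_zpow]
  have hnorm : D.C π ≤ normalizer ((zpowers x : Subgroup G) : Set G) := by
    rintro _ ⟨y, hy, rfl⟩
    refine mem_normalizer_iff_cj.2 ?_
    ext z
    rw [mem_cj]
    have hcz : ∀ k : ℤ, (D.ρ y)⁻¹ * x ^ k * D.ρ y = x ^ k := fun k => by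
      rw [mul_assoc, ((show Commute x (D.ρ y) from hxcomm y hy).zpow_left k).eq, inv_mul_cancel_left]
    constructor
    · rintro ⟨k, hk⟩
      refine ⟨k, ?_⟩
      have h2 := hcz k
      simp only at hk ⊢
      rw [hk] at h2 ⊢
      have := congrArg (fun u => D.ρ y * u * (D.ρ y)⁻¹) h2
      simpa [mul_assoc] using this
    · rintro ⟨k, rfl⟩; exact ⟨k, (hcz k).symm⟩
  have hsup : IsPGroup 2 ↥(D.C π ⊔ zpowers x) :=
    IsPGroup.to_sup_of_normal_right' (D.C_two π) hx2 hnorm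
  have hxC : x ∈ D.C π := by
    have := two_group_max le_sup_left (sup_le hQK ((zpowers_le).2 hxτ)) hsup hQodd
    exact this ▸ (le_sup_right : zpowers x ≤ _) (mem_zpowers x)
  obtain ⟨x1, hx1, hx1'⟩ := hxC
  have hcent : ∀ y ∈ π.cw, x1 * y = y * x1 := fun y hy =>
    D.ρ_injective (by rw [map_mul, map_mul, hx1']; exact hxcomm y hy)
  obtain ⟨htw, hinv⟩ := π.centre_cw hx1 hcent
  by_cases hperm : x1.perm π.a = π.a
  · -- then `x1` is in the base, so equals `t`
    exfalso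
    have hx1e : x1 = W.em x1.vec := W.eq_em (Equiv.ext fun i => by
      rcases eq_or_ne i π.a with rfl | hia
      · exact hperm
      rcases eq_or_ne i π.b with rfl | hib
      · rcases π.cent_preserves (π.T_le (π.mem_cw.1 hx1).1) with h | h
        · exact h.2
        · exact absurd (hperm.symm.trans h.1) π.hab
      · rcases htw.2 i with h | h
        · exact h
        · rwa [π.τ_fix hia hib] at h)
    obtain ⟨k, hk, hk'⟩ := D.exists_N_conj (g := g⁻¹) (e := fun _ => 1) (e' := x1.vec) (by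
      rw [D.ρ_t, ← hx1e, hx1', hx]; group)
    have hw : w x1.vec = Fintype.card ι := by
      rcases D.normal_or_twist D.moves with hN | hN
      · rw [← hk', D.w_act hN hk, w, wt_one]
        obtain ⟨c, hc⟩ := D.card_even; omega
      · have h2 := D.twistTheta.w_act hN (D.twistTheta_N.symm ▸ hk : k ∈ D.twistTheta.N)
          (th fun _ => 1)
        rw [D.twistTheta_act hk, D.th_th, hk'] at h2
        obtain ⟨c, hc⟩ := D.card_even
        have hth : th (fun _ : ι => (1 : ZMod 2)) = fun _ => 1 := by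
          ext i; simp [th, hc, show (2 : ZMod 2) = 0 from rfl]
        rw [hth] at h2
        -- the twist does not change the weight of an invariant vector
        have hsum : ∑ i, x1.vec i = 0 := by
          obtain ⟨u, hu⟩ : ∃ u, u = x1.vec := ⟨_, rfl⟩
          have hinv' : π.Inv (x1.vec + x1.vec π.a • tp π.a π.b) := by
            refine ⟨by simp [π.tp_apply_a, CharTwo.add_self_eq_zero],
              by simp [π.tp_apply_b, (π.mem_cw.1 hx1).2, CharTwo.add_self_eq_zero],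
              fun σ hσ => ?_⟩
            funext i
            have e1 := congrFun (hinv σ hσ) i
            have e2 := congrFun (π.tp_T hσ) i
            simp only [Function.comp_apply] at e1 e2
            simp [e1, e2]
          have h0 := π.vanish D.card_even (fun y => ∑ i, y.vec i)
            (fun p _ q _ => by
              simp only [W.mul_vec, Pi.add_apply, Function.comp_apply, Finset.sum_add_distrib]
              rw [Equiv.sum_comp p.perm.symm q.vec]) hinv'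
          simp only [W.em_vec, Pi.add_apply, Finset.sum_add_distrib, Pi.smul_apply, smul_eq_mul,
            ← Finset.mul_sum] at h0
          rw [← dot_one (tp π.a π.b), tp_one, mul_zero, add_zero] at h0
          exact h0
        rw [show th x1.vec = x1.vec by ext i; simp [th, hsum]] at h2
        rw [h2, w, wt_one]; omega
    have h1 := eq_one_of_weight D.card_even π.τ_sq π.T_le π.T_odd hw (fun i => htw.1 i) hinv
    rw [hx1e, h1, D.ρ_t] at hx1'
    -- so `g` centralises `t`, and cannot change the sign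
    have hgt : g * D.t = D.t * g := by
      calc g * D.t = g * x := by rw [← hx1']
        _ = _ := by rw [hx]; group
    obtain ⟨y, hy, hy'⟩ := hgM
    have h3 := D.q_conj hgt hy'.symm
    have h4 : Equiv.Perm.sign y.perm = 1 := hy.2
    rw [← h3] at h4
    simp only [W.mul_perm, W.inv_perm, W.pm_perm, map_mul, map_inv] at h4
    rw [mul_inv_cancel_comm, Pair.τ, Equiv.Perm.sign_swap π.hab] at h4
    exact absurd h4 (by decide)
  · have hτ' : x1.perm = π.τ := Equiv.ext fun i => by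
      rcases eq_or_ne i π.a with rfl | hia
      · exact (htw.2 _).resolve_left hperm
      rcases eq_or_ne i π.b with rfl | hib
      · rcases htw.2 π.b with h | h
        · rcases π.cent_preserves (π.T_le (π.mem_cw.1 hx1).1) with h' | h'
          · exact absurd h'.1 hperm
          · exact absurd (h'.2.symm.trans h) π.hab
        · exact h
      · rcases htw.2 i with h | h
        · rw [h, π.τ_fix hia hib]
        · exact h
    have hSx : cj g⁻¹ (T.map D.ρ) ≤ centralizer ({D.ρ x1} : Set G) := by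
      intro z hz
      obtain ⟨y, -, hy⟩ := mem_cj.1 hz
      rw [inv_inv] at hy
      have h := D.comm_t y
      rw [mem_centralizer_singleton_iff, hx1', hx, show z = g⁻¹ * D.ρ y * g by rw [hy]; group]
      calc g⁻¹ * D.ρ y * g * (g⁻¹ * D.t * g) = g⁻¹ * (D.ρ y * D.t) * g := by group
        _ = _ := by rw [h]; group
    refine of_bigger x1 hτ' (π.mem_cw.1 hx1).2 (cj g⁻¹ (T.map D.ρ)) (hS2.map _) ?_ ?_ hSx
    · rintro _ ⟨y, hy, rfl⟩
      rw [mem_cj, inv_inv]
      exact hgc y hy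
    · intro heq
      have hgN : g⁻¹ ∈ D.N := D.weaklyClosed _ fun e => by
        have hm : g⁻¹ * D.ρ (W.em e) * g ∈ cj g⁻¹ (T.map D.ρ) := mem_cj.2 (by
          simpa [mul_assoc] using mem_map_of_mem D.ρ (hbT (W.em_mem_base e)))
        rw [← heq] at hm
        rw [inv_inv]
        exact map_le_range _ _ hm
      have hEC : D.E ≤ D.C π := by
        intro z hz
        rw [heq]
        refine mem_cj.2 (Subgroup.map_mono hbT ?_)
        rw [inv_inv]
        exact (Subgroup.mem_normalizer_iff.1 (show g ∈ D.N by simpa using inv_mem hgN) z).1 hz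
      have hbad := (D.ρ_mem_C π).1 (hEC (D.em_mem_E (δ π.a)))
      simpa [δ_apply, π.hab.symm] using (π.mem_cw.1 hbad).2

open Classical in
/-- The image of an element of `cw` under a normalising element. -/
noncomputable def img (g : G) (x : W ι) : W ι :=
  if h : ∃ y, D.ρ y = g * D.ρ x * g⁻¹ then h.choose else 1

theorem img_spec {g : G} (hg : cj g (D.C π) = D.C π) {x : W ι} (hx : x ∈ π.cw) :
    D.ρ (D.img g x) = g * D.ρ x * g⁻¹ ∧ D.img g x ∈ π.cw := by
  have hm : g * D.ρ x * g⁻¹ ∈ D.C π := by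
    rw [← hg, mem_cj]; simpa [mul_assoc] using (D.ρ_mem_C π).2 hx
  obtain ⟨y, hy, hy'⟩ := hm
  have h : ∃ y, D.ρ y = g * D.ρ x * g⁻¹ := ⟨y, hy'⟩
  have e : D.img g x = y := by
    rw [img, dif_pos h]
    exact D.ρ_injective (h.choose_spec.trans hy'.symm)
  rw [e]
  exact ⟨hy', hy⟩

theorem img_centre {g : G} (hg : cj g (D.C π) = D.C π) {x : W ι} (hx : x ∈ π.cw)
    (hc : ∀ y ∈ π.cw, x * y = y * x) : ∀ y ∈ π.cw, D.img g x * y = y * D.img g x := by
  intro y hy
  apply D.ρ_injective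
  obtain ⟨h1, h1'⟩ := D.img_spec π (cj_inv_eq hg) hy
  have h2 : D.ρ y = g * D.ρ (D.img g⁻¹ y) * g⁻¹ := by rw [h1]; group
  rw [map_mul, map_mul, (D.img_spec π hg hx).1, h2]
  calc g * D.ρ x * g⁻¹ * (g * D.ρ (D.img g⁻¹ y) * g⁻¹)
      = g * (D.ρ x * D.ρ (D.img g⁻¹ y)) * g⁻¹ := by group
    _ = _ := by rw [← map_mul, hc _ h1', map_mul]; group

/-- Normalising elements permute the invariant vectors. -/
theorem conj_inv_vec {g : G} (hg : cj g (D.C π) = D.C π) {v : ι → ZMod 2} (hv : π.Inv v) :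
    ∃ v', π.Inv v' ∧ g * D.ρ (W.em v) * g⁻¹ = D.ρ (W.em v') := by
  have hv' : W.em v ∈ π.cw := π.em_mem_cw (by rw [hv.a, hv.b])
  obtain ⟨h1, h2⟩ := D.img_spec π hg hv'
  obtain ⟨htw, hinv⟩ := π.centre_cw h2
    (D.img_centre π hg hv' fun y hy => π.inv_commute hv hy)
  have himg : ∀ x ∈ π.cw, ∀ y ∈ π.cw, D.img g (x * y) = D.img g x * D.img g y := by
    intro x hx y hy
    apply D.ρ_injective
    rw [(D.img_spec π hg (mul_mem hx hy)).1, map_mul, map_mul, (D.img_spec π hg hx).1,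
      (D.img_spec π hg hy).1]
    group
  set χ1 : W ι → ZMod 2 := fun x => if x.perm π.a = π.a then 0 else 1
  have hχ1 : ∀ x ∈ π.cw, ∀ y ∈ π.cw, χ1 (x * y) = χ1 x + χ1 y := by
    intro x hx y hy
    simp only [χ1, W.mul_perm, Equiv.Perm.mul_apply]
    rcases π.cent_preserves (π.T_le (π.mem_cw.1 hx).1) with ⟨e1, e2⟩ | ⟨e1, e2⟩ <;>
      rcases π.cent_preserves (π.T_le (π.mem_cw.1 hy).1) with ⟨f1, f2⟩ | ⟨f1, f2⟩ <;>
        simp [f1, e1, e2, π.hab.symm, CharTwo.add_self_eq_zero]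
  have hχ2 : ∀ x ∈ π.cw, ∀ y ∈ π.cw, (x * y).vec π.a = x.vec π.a + y.vec π.a := by
    intro x hx y hy
    simp only [W.mul_vec, Pi.add_apply, Function.comp_apply]
    rcases π.cent_preserves (inv_mem (π.T_le (π.mem_cw.1 hx).1)) with ⟨e1, -⟩ | ⟨e1, -⟩
    · rw [show x.perm.symm π.a = π.a from e1]
    · rw [show x.perm.symm π.a = π.b from e1, (π.mem_cw.1 hy).2]
  have k1 := π.vanish D.card_even (fun x => χ1 (D.img g x)) (fun x hx y hy => by
    rw [himg x hx y hy, hχ1 _ (D.img_spec π hg hx).2 _ (D.img_spec π hg hy).2]) hv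
  have k2 := π.vanish D.card_even (fun x => (D.img g x).vec π.a) (fun x hx y hy => by
    rw [himg x hx y hy, hχ2 _ (D.img_spec π hg hx).2 _ (D.img_spec π hg hy).2]) hv
  set z := D.img g (W.em v) with hz
  have hpa : z.perm π.a = π.a := by
    by_contra h
    simp [χ1, h] at k1
  have hze : z = W.em z.vec := W.eq_em (Equiv.ext fun i => by
    rcases eq_or_ne i π.a with rfl | hia
    · exact hpa
    rcases eq_or_ne i π.b with rfl | hib
    · rcases π.cent_preserves (π.T_le (π.mem_cw.1 h2).1) with h | h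
      · exact h.2
      · exact absurd (hpa.symm.trans h.1) π.hab
    · rcases htw.2 i with h | h
      · exact h
      · rwa [π.τ_fix hia hib] at h)
  exact ⟨z.vec, ⟨k2, by rw [← (π.mem_cw.1 h2).2, k2], hinv⟩, by rw [← h1, ← hze]⟩

/-- Central elements of `cw` outside the base have permutation part `τ`. -/
theorem centre_perm {x : W ι} (hx : x ∈ π.cw) (hc : ∀ y ∈ π.cw, x * y = y * x) :
    x.perm = 1 ∨ x.perm = π.τ := by
  obtain ⟨htw, -⟩ := π.centre_cw hx hc
  rcases π.cent_preserves (π.T_le (π.mem_cw.1 hx).1) with ⟨h1, h2⟩ | ⟨h1, h2⟩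
  · refine Or.inl (Equiv.ext fun i => ?_)
    rcases eq_or_ne i π.a with rfl | hia
    · exact h1
    rcases eq_or_ne i π.b with rfl | hib
    · exact h2
    rcases htw.2 i with h | h
    · exact h
    · rwa [π.τ_fix hia hib] at h
  · refine Or.inr (Equiv.ext fun i => ?_)
    rcases eq_or_ne i π.a with rfl | hia
    · simpa [Pair.τ] using h1
    rcases eq_or_ne i π.b with rfl | hib
    · simpa [Pair.τ] using h2
    rcases htw.2 i with h | h
    · rw [h, π.τ_fix hia hib]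
    · exact h

/-- An element of odd order cycling the four group at the pair. -/
theorem exists_cycle [Finite G] (hN : D.Normal) :
    ∃ f : G, cj f (D.C π) = D.C π ∧
      (∀ v, π.Inv v → f * D.ρ (W.em v) * f⁻¹ = D.ρ (W.em v)) ∧
      ∃ c c' : W ι, c ∈ π.cw ∧ c' ∈ π.cw ∧ (∀ y ∈ π.cw, c * y = y * c) ∧
        c.perm = π.τ ∧ c'.perm = π.τ ∧
        f * D.dd π * f⁻¹ = D.ρ c ∧ f⁻¹ * D.dd π * f = D.ρ c' := by
  obtain ⟨r, hrC, hr2, hrt⟩ := D.exists_r π
  have hdcw : W.em (tp π.a π.b) ∈ π.cw :=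
    π.em_mem_cw (π.tp_apply_a.trans π.tp_apply_b.symm)
  obtain ⟨hw1, hw1cw⟩ := D.img_spec π hrC hdcw
  set w1 := D.img r (W.em (tp π.a π.b))
  have hw1c := D.img_centre π hrC hdcw fun y hy => π.tp_commute hy
  -- `r²` centralises the centre
  have hr2c : ∀ x ∈ π.cw, (∀ y ∈ π.cw, x * y = y * x) → r * r * D.ρ x * (r * r)⁻¹ = D.ρ x := by
    intro x hx hc
    obtain ⟨z, hz, hz'⟩ := hr2
    rw [← hz', ← map_inv, ← map_mul, ← map_mul, ← hc z hz, mul_inv_cancel_right]
  have hrv : ∀ v, π.Inv v → r * r * D.ρ (W.em v) * (r * r)⁻¹ = D.ρ (W.em v) := fun v hv =>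
    hr2c _ (π.em_mem_cw (by rw [hv.a, hv.b])) fun y hy => π.inv_commute hv hy
  have hperm : w1.perm = π.τ := by
    refine (centre_perm π hw1cw hw1c).resolve_left fun h1 => ?_
    obtain ⟨htw, hinv⟩ := π.centre_cw hw1cw hw1c
    rcases zmod_two (w1.vec π.a) with h0 | h0
    · -- the image is an invariant vector, so `d` would be one
      have hw1i : π.Inv w1.vec := ⟨h0, by rw [← (π.mem_cw.1 hw1cw).2, h0], hinv⟩
      obtain ⟨v', hv', hv''⟩ := D.conj_inv_vec π hrC hw1i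
      rw [← W.eq_em h1, hw1] at hv''
      have h3 := hr2c _ hdcw fun y hy => π.tp_commute hy
      have : D.ρ (W.em v') = D.ρ (W.em (tp π.a π.b)) := by
        rw [← hv'']
        conv_rhs => rw [← h3]
        group
      have h4 := congrFun (W.em_injective (D.ρ_injective this)) π.a
      rw [hv'.a, π.tp_apply_a] at h4
      exact zero_ne_one h4
    · -- the image of `t` is `t`
      obtain ⟨v', hv', hv''⟩ := D.conj_inv_vec π hrC π.rest_inv
      have hsum : (fun _ : ι => (1 : ZMod 2)) = tp π.a π.b + π.rest := by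
        rw [Pair.rest, add_comm (fun _ => (1 : ZMod 2)), ← add_assoc, add_self, zero_add]
      have himg : r * D.ρ (W.em fun _ => 1) * r⁻¹ = D.ρ (W.em (w1.vec + v')) := by
        rw [hsum, W.em_add, W.em_add, map_mul, map_mul, ← W.eq_em h1, hw1, ← hv'']; group
      obtain ⟨k, hk, hk'⟩ := D.exists_N_conj himg
      have hw : w (w1.vec + v') = Fintype.card ι := by
        rw [← hk', D.w_act hN hk, w, wt_one]
        obtain ⟨c, hc⟩ := D.card_even; omega
      have h2 := eq_one_of_weight D.card_even π.τ_sq π.T_le π.T_odd hw (fun i => by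
          have e2 : v' (π.τ i) = v' i := hv'.apply π π.τ_mem i
          simp only [Pi.add_apply, htw.1 i, e2])
        (fun σ hσ => by
          rw [show (w1.vec + v') ∘ σ.symm = w1.vec ∘ σ.symm + v' ∘ σ.symm from rfl, hinv σ hσ,
            hv'.inv σ hσ])
      rw [h2, D.ρ_t] at himg
      exact hrt (mul_inv_eq_iff_eq_mul.1 himg)
  have hperm_a : w1.perm π.a = π.b := by rw [hperm]; simp [Pair.τ]
  set f0 := r * D.ee π
  have hf0C : cj f0 (D.C π) = D.C π := by rw [cj_mul, D.cj_ee, hrC]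
  set d := D.dd π with hd
  have hrd : r * d * r⁻¹ = D.ρ w1 := hw1.symm
  have hrw : r * D.ρ w1 * r⁻¹ = d := by
    have h := hr2c _ hdcw fun y hy => π.tp_commute hy
    rw [← hrd, hd, dd]
    calc r * (r * D.ρ (W.em (tp π.a π.b)) * r⁻¹) * r⁻¹
        = r * r * D.ρ (W.em (tp π.a π.b)) * (r * r)⁻¹ := by group
      _ = _ := h
  have hed : D.ee π * d * (D.ee π)⁻¹ = d := D.ee_conj_fix π rfl
  have hew : D.ee π * D.ρ w1 * (D.ee π)⁻¹ = d * D.ρ w1 := D.ee_conj_move π hperm_a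
  have hdw : d * D.ρ w1 = D.ρ w1 * d := by
    rw [hd, dd, ← map_mul, ← map_mul, hw1c _ hdcw]
  have hf1 : f0 * d * f0⁻¹ = D.ρ w1 := by
    calc f0 * d * f0⁻¹ = r * (D.ee π * d * (D.ee π)⁻¹) * r⁻¹ := by simp only [f0]; group
      _ = _ := by rw [hed, hrd]
  have hf2 : f0 * D.ρ w1 * f0⁻¹ = D.ρ w1 * d := by
    calc f0 * D.ρ w1 * f0⁻¹ = r * (D.ee π * D.ρ w1 * (D.ee π)⁻¹) * r⁻¹ := by
          simp only [f0]; group
      _ = r * d * r⁻¹ * (r * D.ρ w1 * r⁻¹) := by rw [hew]; group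
      _ = _ := by rw [hrd, hrw]
  have hf3 : f0 * (D.ρ w1 * d) * f0⁻¹ = d := by
    calc f0 * (D.ρ w1 * d) * f0⁻¹ = (f0 * D.ρ w1 * f0⁻¹) * (f0 * d * f0⁻¹) := by group
      _ = D.ρ w1 * d * D.ρ w1 := by rw [hf2, hf1]
      _ = d * (D.ρ w1 * D.ρ w1) := by rw [← hdw, mul_assoc]
      _ = d := by
        rw [← map_mul, W.tw_mul_self (π.centre_cw hw1cw hw1c).1, map_one, mul_one]
  have hcyc : ∀ n : ℕ, f0 ^ n * d * (f0 ^ n)⁻¹ =
      if n % 3 = 0 then d else if n % 3 = 1 then D.ρ w1 else D.ρ w1 * d := by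
    intro n
    induction n with
    | zero => simp
    | succ n ih =>
      rw [pow_succ', show f0 * f0 ^ n * d * (f0 * f0 ^ n)⁻¹ =
        f0 * (f0 ^ n * d * (f0 ^ n)⁻¹) * f0⁻¹ by group, ih]
      rcases (show n % 3 = 0 ∨ n % 3 = 1 ∨ n % 3 = 2 by omega) with h | h | h
      · rw [if_pos h, if_neg (show ¬ (n + 1) % 3 = 0 by omega),
          if_pos (show (n + 1) % 3 = 1 by omega), hf1]
      · rw [if_neg (show ¬ n % 3 = 0 by omega), if_pos h,
          if_neg (show ¬ (n + 1) % 3 = 0 by omega), if_neg (show ¬ (n + 1) % 3 = 1 by omega), hf2]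
      · rw [if_neg (show ¬ n % 3 = 0 by omega), if_neg (show ¬ n % 3 = 1 by omega),
          if_pos (show (n + 1) % 3 = 0 by omega), hf3]
  have hnz : ∀ n : ℕ, n % 3 ≠ 0 → ∃ x ∈ π.cw, (∀ y ∈ π.cw, x * y = y * x) ∧
      x.perm = π.τ ∧ f0 ^ n * d * (f0 ^ n)⁻¹ = D.ρ x := by
    intro n hn
    rw [hcyc, if_neg hn]
    split
    · exact ⟨w1, hw1cw, hw1c, hperm, rfl⟩
    · refine ⟨w1 * W.em (tp π.a π.b), mul_mem hw1cw hdcw, fun y hy => ?_, by simp [hperm],
        by rw [map_mul, hd, dd]⟩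
      rw [mul_assoc, π.tp_commute hy, ← mul_assoc, hw1c y hy, mul_assoc]
  have hfix : ∀ v, π.Inv v → f0 * f0 * D.ρ (W.em v) * (f0 * f0)⁻¹ = D.ρ (W.em v) := by
    intro v hv
    obtain ⟨v', hv', hv''⟩ := D.conj_inv_vec π hrC hv
    have e : ∀ u, π.Inv u → f0 * D.ρ (W.em u) * f0⁻¹ = r * D.ρ (W.em u) * r⁻¹ := fun u _ => by
      calc f0 * D.ρ (W.em u) * f0⁻¹
          = r * (D.ee π * D.ρ (W.em u) * (D.ee π)⁻¹) * r⁻¹ := by simp only [f0]; group
        _ = _ := by rw [D.ee_conj_fix π (x := W.em u) rfl]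
    calc f0 * f0 * D.ρ (W.em v) * (f0 * f0)⁻¹
        = f0 * (f0 * D.ρ (W.em v) * f0⁻¹) * f0⁻¹ := by group
      _ = r * (r * D.ρ (W.em v) * r⁻¹) * r⁻¹ := by rw [e v hv, hv'', e v' hv']
      _ = r * r * D.ρ (W.em v) * (r * r)⁻¹ := by group
      _ = _ := hrv v hv
  obtain ⟨k, o, ho, hord⟩ :=
    Nat.exists_eq_pow_mul_and_not_dvd (orderOf_pos f0).ne' 2 (by norm_num)
  set n := 2 ^ (k + 1)
  have hn3 : n % 3 ≠ 0 := fun h => by
    have h3 : 3 ∣ 2 ^ (k + 1) := Nat.dvd_of_mod_eq_zero h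
    have := (Nat.prime_dvd_prime_iff_eq Nat.prime_three Nat.prime_two).1
      (Nat.prime_three.dvd_of_dvd_pow h3)
    omega
  have hno : f0 ^ (n * o) = 1 := by
    rw [show n * o = orderOf f0 * 2 by rw [hord]; simp only [n, pow_succ]; ring, pow_mul,
      pow_orderOf_eq_one, one_pow]
  have hinv : (f0 ^ n)⁻¹ = f0 ^ (n * (o - 1)) := by
    refine inv_eq_of_mul_eq_one_right ?_
    rw [← pow_add, show n + n * (o - 1) = n * o by
      nth_rewrite 1 [← mul_one n]
      rw [← mul_add]; congr 1; omega, hno]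
  have hn' : (n * (o - 1)) % 3 ≠ 0 := by
    intro h
    have h3 := hcyc (n * o)
    rw [hno, one_mul, inv_one, mul_one] at h3
    have e : n * o = n + n * (o - 1) := by
      nth_rewrite 2 [← mul_one n]
      rw [← mul_add]; congr 1; omega
    split_ifs at h3 with a1 a2
    · omega
    · -- `w1` is not `d`
      rw [hd, dd] at h3
      have := congrArg W.perm (D.ρ_injective h3)
      rw [W.em_perm, hperm] at this
      exact π.τ_ne_one this.symm
    · have h4 : D.ρ w1 = 1 := by simpa using h3.symm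
      have := congrArg W.perm (D.ρ_injective (h4.trans (map_one D.ρ).symm))
      rw [W.one_perm, hperm] at this
      exact π.τ_ne_one this
  obtain ⟨c, hc, hcc, hcp, hcd⟩ := hnz n hn3
  obtain ⟨c', hc', -, hc'p, hc'd⟩ := hnz _ hn'
  refine ⟨f0 ^ n, mem_normalizer_iff_cj.1 (pow_mem (mem_normalizer_iff_cj.2 hf0C) n),
    fun v hv => ?_, c, c', hc, hc', hcc, hcp, hc'p, hcd, ?_⟩
  · have hpow : ∀ j : ℕ, f0 ^ (2 * j) * D.ρ (W.em v) * (f0 ^ (2 * j))⁻¹ = D.ρ (W.em v) := by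
      intro j
      induction j with
      | zero => simp
      | succ j ih =>
        calc f0 ^ (2 * (j + 1)) * D.ρ (W.em v) * (f0 ^ (2 * (j + 1)))⁻¹
            = f0 * f0 * (f0 ^ (2 * j) * D.ρ (W.em v) * (f0 ^ (2 * j))⁻¹) * (f0 * f0)⁻¹ := by
              rw [show 2 * (j + 1) = 2 + 2 * j by ring, pow_add, sq]; group
          _ = _ := by rw [ih, hfix v hv]
    rw [show n = 2 * 2 ^ k by simp [n, pow_succ, mul_comm]]
    exact hpow _
  · rw [hinv, ← inv_inv (f0 ^ n), hinv]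
    exact hc'd

end Setup

end Cfsg.Kondo67
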