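import Cfsg.Agent.Kondo67.Cycle

/-!
# An element moving a transposition into the base, centralising the rest
-/

set_option autoImplicit false

namespace Cfsg.Kondo67

open Subgroup Finset Equiv

variable {G : Type*} [Group G] {ι : Type} [Fintype ι] [DecidableEq ι]

/-- Conjugation. -/
def cn (g x : G) : G := g * x * g⁻¹

theorem cn_mul (g h x : G) : cn (g * h) x = cn g (cn h x) := by simp [cn, mul_assoc]

theorem cn_map_mul (g x y : G) : cn g (x * y) = cn g x * cn g y := by simp [cn, mul_assoc]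

theorem cn_one (g : G) : cn g 1 = 1 := by simp [cn]

theorem cn_eq_iff {g x : G} : cn g x = x ↔ g * x = x * g := mul_inv_eq_iff_eq_mul

theorem cn_inv_eq {g x y : G} (h : cn g x = y) : cn g⁻¹ y = x := by
  rw [← h, ← cn_mul, inv_mul_cancel]; simp [cn]

theorem cn_invol {e : G} (h : e * e = 1) {x y : G} (hxy : cn e x = y) : cn e y = x := by
  have : e⁻¹ = e := inv_eq_of_mul_eq_one_right h
  rw [← this]; exact cn_inv_eq hxy

namespace Setup

variable (D : Setup G ι) (π : Pair ι)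

theorem range_eq_conj {g : G} {x y : W ι} (hgt : g * D.t = D.t * g) (hx : x.perm = 1)
    (h : cn g (D.ρ x) = D.ρ y) : y.perm = 1 := by
  rw [← D.q_conj hgt h]
  simp [hx]

/-- The Sylow-maximal 2-group at the pair. -/
def P1 : Subgroup G := (π.T.comap W.permHom).map D.ρ

theorem P1_two : IsPGroup 2 (D.P1 π) := by
  haveI : Fact (Nat.Prime 2) := ⟨Nat.prime_two⟩
  exact (π.T_two.comap_of_ker_isPGroup W.permHom (IsPGroup.of_card W.card_base)).map _

theorem E_le_P1 : D.E ≤ D.P1 π := Subgroup.map_mono fun x hx => by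
  show W.permHom x ∈ π.T
  rw [show W.permHom x = 1 from hx]; exact one_mem _

theorem C_le_P1 : D.C π ≤ D.P1 π := Subgroup.map_mono inf_le_right

theorem fixes_t [Finite G] (hN : D.Normal) {g : G} (hg : g ∈ D.N)
    (hP : ∀ x, x ∈ D.P1 π ↔ g * x * g⁻¹ ∈ D.P1 π) : g * D.t = D.t * g := by
  rw [D.commutes_t_iff hg]
  have hinv : ∀ σ ∈ π.T, D.act g (fun _ => 1) ∘ σ.symm = D.act g (fun _ => 1) := by
    intro σ hσ
    have hmem : D.ρ (W.pm σ) ∈ D.P1 π := ⟨_, hσ, rfl⟩
    have hmem' : g⁻¹ * D.ρ (W.pm σ) * g ∈ D.P1 π := (hP _).2 (by simpa [mul_assoc] using hmem)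
    obtain ⟨z, -, hz⟩ := hmem'
    have hz2 : D.ρ (W.pm σ) = g * D.ρ z * g⁻¹ := by rw [hz]; group
    show D.act g (fun _ => 1) ∘ (W.pm σ).perm.symm = _
    rw [← D.act_ρ (W.pm σ) (D.act g fun _ => 1), ← D.act_mul (D.ρ_mem_N _) hg, hz2,
      show g * D.ρ z * g⁻¹ * g = g * D.ρ z by group, D.act_mul hg (D.ρ_mem_N _), D.act_ρ]
    rfl
  refine eq_one_of_weight D.card_even π.τ_sq π.T_le π.T_odd ?_ (fun i => ?_) hinv
  · rw [D.w_act hN hg, w, wt_one]
    obtain ⟨c, hc⟩ := D.card_even; omega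
  · have := congrFun (hinv π.τ π.τ_mem) i
    rwa [show π.τ.symm = π.τ by simp [Pair.τ], Function.comp_apply] at this

theorem perm_cent_of_rest {x : W ι} (h : cn (D.ρ x) (D.ρ (W.em π.rest)) = D.ρ (W.em π.rest)) :
    x.perm ∈ centralizer ({π.τ} : Set (Perm ι)) := by
  rw [cn, ← map_inv, ← map_mul, ← map_mul, W.conj_em] at h
  have h2 : ∀ i, π.rest (x.perm i) = π.rest i := fun i => by
    have := congrFun (W.em_injective (D.ρ_injective h)) (x.perm i)
    simpa using this.symm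
  have hz : ∀ i, π.rest i = 0 → i = π.a ∨ i = π.b := fun i hi => by
    by_contra hne
    push Not at hne
    simp [Pair.rest, π.tp_apply hne.1 hne.2] at hi
  have ha := hz _ ((h2 π.a).trans π.rest_inv.a)
  have hb := hz _ ((h2 π.b).trans π.rest_inv.b)
  have h3 : x.perm * π.τ * x.perm⁻¹ = π.τ := by
    rw [Pair.τ, ← Equiv.swap_apply_apply]
    rcases ha with ha | ha <;> rcases hb with hb | hb
    · exact absurd (x.perm.injective (ha.trans hb.symm)) π.hab
    · rw [ha, hb]
    · rw [ha, hb, Equiv.swap_comm]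
    · exact absurd (x.perm.injective (ha.trans hb.symm)) π.hab
  exact mem_centralizer_singleton_iff.2 (mul_inv_eq_iff_eq_mul.1 h3)

/-- The odd element normalises the elementary abelian subgroup at the pair. -/
theorem cycle_normalises [Finite G] (hN : D.Normal) {f : G} (hfC : cj f (D.C π) = D.C π)
    (hfI : ∀ v, π.Inv v → f * D.ρ (W.em v) * f⁻¹ = D.ρ (W.em v)) {c' : W ι}
    (hc' : c' ∈ W.tw π.τ π.τ_sq) (hfd : f⁻¹ * D.dd π * f = D.ρ c') :
    cj f (D.B π.τ π.τ_sq) = D.B π.τ π.τ_sq := by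
  set A := D.B π.τ π.τ_sq
  set A' := cj f A with hA'
  have hTB : ∀ x : W ι, x.perm ∈ centralizer ({π.τ} : Set (Perm ι)) → cj (D.ρ x) A = A := by
    intro x hx
    have key : ∀ x : W ι, x.perm ∈ centralizer ({π.τ} : Set (Perm ι)) → ∀ z ∈ A,
        D.ρ x * z * (D.ρ x)⁻¹ ∈ A := by
      rintro x hx _ ⟨y, hy, rfl⟩
      exact ⟨x * y * x⁻¹, W.conj_mem_tw (mem_centralizer_singleton_iff.1 hx) hy,
        by rw [map_mul, map_mul, map_inv]⟩
    refine mem_normalizer_iff_cj.1 (Subgroup.mem_normalizer_iff.2 fun z => ⟨key x hx z, fun h => ?_⟩)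
    have := key x⁻¹ (inv_mem hx) _ h
    simpa [mul_assoc] using this
  have hP1A : ∀ y ∈ D.P1 π, cj y A = A := by
    rintro _ ⟨x, hx, rfl⟩; exact hTB x (π.T_le hx)
  have hAC : A ≤ D.C π := by
    rintro _ ⟨y, hy, rfl⟩
    refine (D.ρ_mem_C π).2 (π.mem_cw.2 ⟨?_, ?_⟩)
    · have hperm : y.perm = 1 ∨ y.perm = π.τ := by
        have hout : ∀ i, i ≠ π.a → i ≠ π.b → y.perm i = i := fun i ha hb => by
          rcases hy.2 i with h | h
          · exact h
          · rwa [π.τ_fix ha hb] at h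
        rcases hy.2 π.a with ha | ha
        · refine Or.inl (Equiv.ext fun i => ?_)
          rcases eq_or_ne i π.a with rfl | hia
          · exact ha
          rcases eq_or_ne i π.b with rfl | hib
          · rcases hy.2 π.b with h | h
            · exact h
            · exfalso
              rw [show π.τ π.b = π.a by simp [Pair.τ]] at h
              exact π.hab (y.perm.injective (ha.trans h.symm))
          exact hout i hia hib
        · refine Or.inr (Equiv.ext fun i => ?_)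
          have ha' : y.perm π.a = π.b := by rw [ha]; simp [Pair.τ]
          rcases eq_or_ne i π.a with rfl | hia
          · exact ha
          rcases eq_or_ne i π.b with rfl | hib
          · rcases hy.2 π.b with h | h
            · exact absurd (y.perm.injective (ha'.trans h.symm)) π.hab
            · exact h
          rw [hout i hia hib, π.τ_fix hia hib]
      rcases hperm with h | h <;> rw [h]
      · exact one_mem _
      · exact π.τ_mem
    · have h := hy.1 π.a
      rw [show π.τ π.a = π.b by simp [Pair.τ]] at h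
      exact h.symm
  have hA'C : A' ≤ D.C π := hfC ▸ Subgroup.map_mono hAC
  have hdA' : D.dd π ∈ A' := mem_cj.2 (by rw [hfd]; exact D.ρ_mem_B.2 hc')
  have heA' : cj (D.ee π) A' = A' := by
    have key : ∀ z ∈ A', D.ee π * z * (D.ee π)⁻¹ ∈ A' := by
      intro z hz
      obtain ⟨x, hx, rfl⟩ := hA'C hz
      rcases π.cent_preserves (π.T_le (π.mem_cw.1 hx).1) with ⟨h, -⟩ | ⟨h, -⟩
      · rwa [D.ee_conj_fix π h]
      · rw [D.ee_conj_move π h]; exact mul_mem hdA' hz
    refine mem_normalizer_iff_cj.1 (Subgroup.mem_normalizer_iff.2 fun z => ⟨key z, fun h => ?_⟩)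
    have h2 := key _ h
    have : D.ee π * (D.ee π * z * (D.ee π)⁻¹) * (D.ee π)⁻¹
        = (D.ee π * D.ee π) * z * (D.ee π * D.ee π)⁻¹ := by group
    rwa [this, D.ee_mul_self, one_mul, inv_one, mul_one] at h2
  have hP1A' : ∀ y ∈ D.P1 π, cj y A' = A' := by
    rintro _ ⟨x, hx, rfl⟩
    set k : ZMod 2 := x.vec π.a + x.vec π.b
    set x0 := W.em (k • δ π.a) * x with hx0
    have hx0c : x0 ∈ π.cw := by
      refine π.mem_cw.2 ⟨by rw [hx0, W.mul_perm, W.em_perm, one_mul]; exact hx, ?_⟩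
      simp only [x0, k, W.mul_vec, W.em_vec, W.em_perm, Pi.add_apply, Function.comp_apply,
        Pi.smul_apply, smul_eq_mul, δ_apply, Equiv.Perm.one_def, Equiv.refl_symm,
        Equiv.refl_apply, π.hab.symm, if_true, if_false]
      have := CharTwo.add_self_eq_zero (R := ZMod 2) (x.vec π.a)
      linear_combination this
    have h0 : cj (D.ρ x0) A' = A' := by
      have h1 : f⁻¹ * D.ρ x0 * f ∈ D.C π := mem_cj.1 (hfC.symm ▸ (D.ρ_mem_C π).2 hx0c)
      rw [show D.ρ x0 = f * (f⁻¹ * D.ρ x0 * f) * f⁻¹ by group, cj_mul, cj_mul, hA',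
        cj_inv_eq rfl, hP1A _ (D.C_le_P1 π h1)]
    have hx' : x = W.em (k • δ π.a) * x0 := by
      rw [hx0, ← mul_assoc, ← W.em_add, add_self, W.em_zero, one_mul]
    rw [hx', map_mul, cj_mul, h0]
    rcases zmod_two k with h | h
    · rw [h, z_smul, W.em_zero, map_one, cj_one]
    · rw [h, o_smul]; exact heA'
  set M : Subgroup G := centralizer ({D.ρ (W.em π.rest)} : Set G)
  have hP1M : D.P1 π ≤ M := by
    rintro _ ⟨x, hx, rfl⟩
    refine mem_centralizer_singleton_iff.2 (cn_eq_iff.1 ?_)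
    rw [cn, ← map_inv, ← map_mul, ← map_mul, W.conj_em, π.rest_inv.inv x.perm hx]
  obtain ⟨Q, hPQ, hQM, hQ2, hQodd⟩ := exists_two_sylow hP1M (D.P1_two π)
  have cent_P1 : ∀ g : G, g ∈ D.N → g ∈ M → (∀ x, x ∈ D.P1 π ↔ g * x * g⁻¹ ∈ D.P1 π) →
      ∃ x, g = D.ρ x ∧ x.perm ∈ centralizer ({π.τ} : Set (Perm ι)) := by
    intro g hg hgM hgP
    obtain ⟨x, rfl⟩ := D.exists_ρ (D.fixes_t π hN hg hgP) hg
    exact ⟨x, rfl, D.perm_cent_of_rest π (cn_eq_iff.2 (mem_centralizer_singleton_iff.1 hgM))⟩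
  have hQeq : D.P1 π = Q := by
    by_contra hne
    obtain ⟨r, hrQ, hrP, hr2, hrn⟩ := exists_sq_mem hQ2 hPQ hne
    have hrN : r ∈ D.N :=
      D.le_N_of_two_group D.weaklyClosed hQ2 ((D.E_le_P1 π).trans hPQ) hrQ
    obtain ⟨x, rfl, hxc⟩ := cent_P1 r hrN (hQM hrQ) hrn
    let K1 : Subgroup G := ((centralizer ({π.τ} : Set (Perm ι))).comap W.permHom).map D.ρ
    have hidx : ¬2 ∣ (D.P1 π).relIndex K1 := by
      rw [P1, Subgroup.relIndex_map_map_of_injective _ _ D.ρ_injective, relIndex_comap,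
        map_comap_eq_self_of_surjective (fun σ => ⟨W.pm σ, rfl⟩)]
      exact π.T_odd
    have := two_group_max (le_sup_left : D.P1 π ≤ D.P1 π ⊔ zpowers (D.ρ x))
      (sup_le (map_mono (comap_mono π.T_le)) ((zpowers_le).2 ⟨x, hxc, rfl⟩) : _ ≤ K1)
      (hQ2.to_le (sup_le hPQ ((zpowers_le).2 hrQ))) hidx
    exact hrP (this ▸ (le_sup_right : zpowers (D.ρ x) ≤ _) (mem_zpowers _))
  subst hQeq
  have hfM : f ∈ M := mem_centralizer_singleton_iff.2
    (mul_inv_eq_iff_eq_mul.1 (hfI _ π.rest_inv))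
  set K : Subgroup G := M ⊓ normalizer (A' : Set G)
  have hP1K : D.P1 π ≤ K := le_inf hP1M fun y hy => mem_normalizer_iff_cj.2 (hP1A' y hy)
  have hKodd : ¬2 ∣ (D.P1 π).relIndex K := fun h => hQodd (h.trans
    (Dvd.intro _ (Subgroup.relIndex_mul_relIndex _ _ _ hP1K inf_le_left)))
  have hfPK : cj f (D.P1 π) ≤ K := by
    intro y hy
    have hy' := mem_cj.1 hy
    refine ⟨?_, mem_normalizer_iff_cj.2 ?_⟩
    · have := mul_mem (mul_mem hfM (hP1M hy')) (inv_mem hfM)
      simpa [mul_assoc] using this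
    · rw [show y = f * (f⁻¹ * y * f) * f⁻¹ by group, cj_mul, cj_mul, hA', cj_inv_eq rfl,
        hP1A _ hy']
  obtain ⟨u, hu, huP⟩ := exists_conj_le hfPK hP1K ((D.P1_two π).map _) hKodd
  set h := u * f
  have hhP : cj h (D.P1 π) = D.P1 π := by
    refine Subgroup.eq_of_le_of_card_ge ?_ (le_of_eq (card_cj _ _).symm)
    intro y hy
    rw [cj_mul] at hy
    have := huP _ (mem_cj.1 hy)
    simpa [mul_assoc] using this
  have hhN : h ∈ D.N := D.weaklyClosed h fun e => by
    have : h * D.ρ (W.em e) * h⁻¹ ∈ cj h (D.P1 π) :=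
      mem_cj.2 (by simpa [mul_assoc] using D.E_le_P1 π (D.em_mem_E e))
    rw [hhP] at this
    exact map_le_range _ _ this
  obtain ⟨x, hx, hxc⟩ := cent_P1 h hhN (mul_mem hu.1 hfM)
    (Subgroup.mem_normalizer_iff.1 (mem_normalizer_iff_cj.2 hhP))
  have hA2 : cj h A = A' := by rw [cj_mul, ← hA', mem_normalizer_iff_cj.1 hu.2]
  rw [← hA2, hx, hTB x hxc]

end Setup

end Cfsg.Kondo67
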