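import Cfsg.Agent.Kondo67.Count
import Mathlib.GroupTheory.SpecificGroups.Alternating

/-!
# The model centraliser in an alternating group
-/

set_option autoImplicit false

namespace Cfsg.Kondo67

open Subgroup Finset Equiv

variable {ι : Type} [Fintype ι] [DecidableEq ι] {r : ℕ}

/-- The flip attached to a bit. -/
def bit (z : ZMod 2) : Perm Bool := if z = 1 then Equiv.swap false true else 1

theorem bit_add (z z' : ZMod 2) : bit (z + z') = bit z * bit z' := by revert z z'; decide

theorem bit_zero : bit 0 = 1 := rfl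

theorem bit_injective : ∀ z z' : ZMod 2, bit z = bit z' → z = z' := by decide

theorem sign_bit (z : ZMod 2) : Equiv.Perm.sign (bit z) = if z = 1 then -1 else 1 := by
  revert z; decide

theorem commute_swap_bool : ∀ p : Perm Bool, ∃ z, p = bit z := by decide

/-- The action on the pairs. -/
def left : W ι →* Perm (ι × Bool) where
  toFun x := Equiv.prodCongrRight (fun i => bit (x.vec i)) * Equiv.prodCongr x.perm (Equiv.refl Bool)
  map_one' := by
    ext ⟨i, b⟩ <;> simp [Equiv.prodCongrRight, bit_zero]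
  map_mul' x y := by
    refine Equiv.ext fun ⟨i, b⟩ => ?_
    simp [Equiv.prodCongrRight, bit_add, Equiv.symm_apply_apply]

theorem left_apply (x : W ι) (i : ι) (b : Bool) :
    left x (i, b) = (x.perm i, bit (x.vec (x.perm i)) b) := by
  simp [left, Equiv.prodCongrRight]

/-- The full centraliser of the flip of all pairs. -/
def Phi (r : ℕ) : W ι × Perm (Fin r) →* Perm ((ι × Bool) ⊕ Fin r) :=
  (Equiv.Perm.sumCongrHom (ι × Bool) (Fin r)).comp (left.prodMap (MonoidHom.id _))

theorem Phi_inl (x : W ι) (s : Perm (Fin r)) (i : ι) (b : Bool) :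
    Phi r (x, s) (Sum.inl (i, b)) = Sum.inl (x.perm i, bit (x.vec (x.perm i)) b) := by
  simp [Phi, left_apply]

theorem Phi_inr (x : W ι) (s : Perm (Fin r)) (j : Fin r) :
    Phi r (x, s) (Sum.inr j) = Sum.inr (s j) := by
  simp [Phi]

theorem Phi_injective : Function.Injective (Phi (ι := ι) r) := by
  rintro ⟨x, s⟩ ⟨y, s'⟩ h
  have hl : ∀ i b, x.perm i = y.perm i ∧ bit (x.vec (x.perm i)) b = bit (y.vec (y.perm i)) b := by
    intro i b
    have := congrArg (fun p : Perm ((ι × Bool) ⊕ Fin r) => p (Sum.inl (i, b))) h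
    simp only [Phi_inl, Sum.inl.injEq, Prod.mk.injEq] at this
    exact this
  have hs : s = s' := Equiv.ext fun j => by
    have := congrArg (fun p : Perm ((ι × Bool) ⊕ Fin r) => p (Sum.inr j)) h
    simpa [Phi_inr] using this
  refine Prod.ext ?_ hs
  have hp : x.perm = y.perm := Equiv.ext fun i => (hl i false).1
  refine W.ext (funext fun i => ?_) hp
  obtain ⟨k, rfl⟩ := x.perm.surjective i
  refine bit_injective _ _ (Equiv.ext fun b => ?_)
  have := (hl k b).2
  rwa [← hp] at this

/-- The flip of all pairs. -/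
def alpha0 (ι : Type) [Fintype ι] [DecidableEq ι] (r : ℕ) : Perm ((ι × Bool) ⊕ Fin r) :=
  Phi r (W.em fun _ => 1, 1)

theorem alpha0_inl (i : ι) (b : Bool) :
    alpha0 ι r (Sum.inl (i, b)) = Sum.inl (i, !b) := by
  rw [alpha0, Phi_inl]
  cases b <;> rfl

theorem alpha0_inr (j : Fin r) : alpha0 ι r (Sum.inr j) = Sum.inr j := by
  rw [alpha0, Phi_inr]; rfl

theorem Phi_commute (p : W ι × Perm (Fin r)) : Phi r p * alpha0 ι r = alpha0 ι r * Phi r p := by
  obtain ⟨x, s⟩ := p
  rw [alpha0, ← map_mul, ← map_mul]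
  congr 1
  refine Prod.ext ?_ (by simp)
  show x * W.em (fun _ => 1) = W.em (fun _ => 1) * x
  have h := W.conj_em x (fun _ : ι => (1 : ZMod 2))
  exact mul_inv_eq_iff_eq_mul.1 h

theorem Phi_surjective {σ : Perm ((ι × Bool) ⊕ Fin r)}
    (h : σ * alpha0 ι r = alpha0 ι r * σ) : σ ∈ (Phi (ι := ι) r).range := by
  have hcomm : ∀ z, σ (alpha0 ι r z) = alpha0 ι r (σ z) := fun z => by
    rw [← Equiv.Perm.mul_apply, h, Equiv.Perm.mul_apply]
  have hl : ∀ i b, ∃ p, σ (Sum.inl (i, b)) = Sum.inl p := by
    intro i b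
    cases hc : σ (Sum.inl (i, b)) with
    | inl p => exact ⟨p, rfl⟩
    | inr j =>
      exfalso
      have h2 := hcomm (Sum.inl (i, b))
      rw [alpha0_inl, hc, alpha0_inr] at h2
      have := σ.injective (h2.trans hc.symm)
      simp at this
  have hr : ∀ j, ∃ k, σ (Sum.inr j) = Sum.inr k := by
    intro j
    cases hc : σ (Sum.inr j) with
    | inr k => exact ⟨k, rfl⟩
    | inl p =>
      exfalso
      obtain ⟨i, b⟩ := p
      have h2 := hcomm (Sum.inr j)
      rw [alpha0_inr, hc, alpha0_inl] at h2
      simp at h2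
  choose p hp using hl
  choose k hk using hr
  have hpflip : ∀ i b, p i (!b) = ((p i b).1, !(p i b).2) := by
    intro i b
    have h2 := hcomm (Sum.inl (i, b))
    rw [alpha0_inl, hp, hp, alpha0_inl] at h2
    exact Sum.inl.inj h2
  have hπ : Function.Bijective fun i => (p i false).1 := by
    refine Finite.injective_iff_bijective.1 fun i i' hii => ?_
    have hcase : p i' false = p i false ∨ p i' true = p i false := by
      rcases Bool.eq_or_eq_not (p i' false).2 (p i false).2 with e | e
      · exact Or.inl (Prod.ext hii.symm e)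
      · refine Or.inr ?_
        have h2 := hpflip i' false
        simp only [Bool.not_false] at h2
        rw [h2]
        exact Prod.ext hii.symm (by simp [e])
    rcases hcase with e | e
    · have := σ.injective (show σ (Sum.inl (i', false)) = σ (Sum.inl (i, false)) by rw [hp, hp, e])
      simpa using this.symm
    · have := σ.injective (show σ (Sum.inl (i', true)) = σ (Sum.inl (i, false)) by rw [hp, hp, e])
      simp at this
  let π : Perm ι := Equiv.ofBijective _ hπ
  let v : ι → ZMod 2 := fun i => if (p (π.symm i) false).2 then 1 else 0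
  have hkb : Function.Bijective k := Finite.injective_iff_bijective.1 fun j j' hjj => by
    have := σ.injective (show σ (Sum.inr j) = σ (Sum.inr j') by rw [hk, hk, hjj])
    simpa using this
  refine ⟨(⟨v, π⟩, Equiv.ofBijective k hkb), Equiv.ext fun z => ?_⟩
  rcases z with ⟨i, b⟩ | j
  · rw [Phi_inl, hp]
    congr 1
    have hv : v (π i) = if (p i false).2 then 1 else 0 := by simp [v]
    show (π i, bit (v (π i)) b) = p i b
    rw [hv]
    have hpi : π i = (p i false).1 := rfl
    cases b
    · refine Prod.ext hpi ?_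
      cases h2 : (p i false).2 <;> rfl
    · have h3 := hpflip i false
      simp only [Bool.not_false] at h3
      rw [h3, hpi]
      refine Prod.ext rfl ?_
      cases h2 : (p i false).2 <;> rfl
  · rw [Phi_inr, hk]; rfl

theorem sign_Phi (x : W ι) (s : Perm (Fin r)) :
    Equiv.Perm.sign (Phi r (x, s)) =
      (if ∑ i, x.vec i = 1 then -1 else 1) * Equiv.Perm.sign s := by
  have h1 : Equiv.Perm.sign (left x) = if ∑ i, x.vec i = 1 then -1 else 1 := by
    have hp : Equiv.Perm.sign (Equiv.prodCongr x.perm (Equiv.refl Bool)) = 1 := by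
      have : Equiv.prodCongr x.perm (Equiv.refl Bool) =
          Equiv.prodCongrLeft (fun _ : Bool => x.perm) := by
        ext ⟨i, b⟩ <;> rfl
      rw [this, Equiv.Perm.sign_prodCongrLeft]
      simp [← sq, Int.units_sq]
    show Equiv.Perm.sign (Equiv.prodCongrRight (fun i => bit (x.vec i)) *
      Equiv.prodCongr x.perm (Equiv.refl Bool)) = _
    rw [map_mul, hp, mul_one, Equiv.Perm.sign_prodCongrRight]
    clear hp
    induction (Finset.univ : Finset ι) using Finset.induction_on with
    | empty => simp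
    | insert a t ha ih =>
      rw [Finset.prod_insert ha, Finset.sum_insert ha, ih, sign_bit]
      rcases zmod_two (x.vec a) with h | h <;>
        rcases zmod_two (∑ i ∈ t, x.vec i) with h' | h' <;>
          simp [h, h', CharTwo.add_self_eq_zero]
  show Equiv.Perm.sign (Equiv.Perm.sumCongr (left x) s) = _
  rw [Equiv.Perm.sign_sumCongr, h1]

theorem swap_facts (hr : r = 2 ∨ r = 3) :
    ∃ σ : Perm (Fin r), σ * σ = 1 ∧ Equiv.Perm.sign σ = -1 ∧
      Odd (Nat.card (Equiv.Perm.sign : Perm (Fin r) →* ℤˣ).ker) ∧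
      ∀ s, Equiv.Perm.sign s = 1 → s * σ = σ * s → s = 1 := by
  rcases hr with rfl | rfl
  · refine ⟨Equiv.swap 0 1, by decide, by decide, ?_, by decide⟩
    rw [show Nat.card (Equiv.Perm.sign : Perm (Fin 2) →* ℤˣ).ker = 1 by
      rw [Nat.card_eq_fintype_card]; decide]
    exact odd_one
  · refine ⟨Equiv.swap 0 1, by decide, by decide, ?_, by decide⟩
    rw [show Nat.card (Equiv.Perm.sign : Perm (Fin 3) →* ℤˣ).ker = 3 by
      rw [Nat.card_eq_fintype_card]; decide]
    exact ⟨1, rfl⟩

/-- The setup from an isomorphism with the centraliser in an alternating group. -/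
theorem exists_setup {n : ℕ} (hn : 1 ≤ n) (hr : r = 2 ∨ r = 3)
    (α : ↥(alternatingGroup (Fin (4 * n + r)))) (hα : orderOf α = 2)
    (hα4 : (α : Perm (Fin (4 * n + r))).support.card = 4 * n)
    {G : Type*} [Group G] [Finite G] (h2 : ∀ H : Subgroup G, H.Normal → H.index ≠ 2)
    (t : G) (ht : orderOf t = 2) (S : Sylow 2 G)
    (htZ : ∀ s ∈ (S : Subgroup G), s * t = t * s)
    (hiso : Nonempty (↥(centralizer ({t} : Set G)) ≃*
      ↥(centralizer ({α} : Set ↥(alternatingGroup (Fin (4 * n + r))))))) :
    Nonempty (Setup G (Fin (2 * n))) := by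
  classical
  haveI : Fact (Nat.Prime 2) := ⟨Nat.prime_two⟩
  obtain ⟨iso⟩ := hiso
  -- the equivalence of points
  have hcard : Fintype.card ((Fin (2 * n) × Bool) ⊕ Fin r) = 4 * n + r := by simp; ring
  let e0 : ((Fin (2 * n) × Bool) ⊕ Fin r) ≃ Fin (4 * n + r) := Fintype.equivFinOfCardEq hcard
  set β : Perm (Fin (4 * n + r)) := e0.permCongrHom (alpha0 (Fin (2 * n)) r)
  have hinv : ∀ σ : Perm (Fin (4 * n + r)), σ * σ = 1 →
      σ.cycleType = Multiset.replicate (σ.support.card / 2) 2 := by
    intro σ hσ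
    have hall : ∀ k ∈ σ.cycleType, k = 2 := fun k hk =>
      le_antisymm (Nat.le_of_dvd two_pos ((Equiv.Perm.dvd_of_mem_cycleType hk).trans
        (orderOf_dvd_of_pow_eq_one (by rw [sq, hσ])))) (Equiv.Perm.two_le_of_mem_cycleType hk)
    have h1 := Multiset.eq_replicate_card.2 hall
    have h3 := σ.sum_cycleType
    rw [h1, Multiset.sum_replicate, smul_eq_mul] at h3
    rw [← h3, Nat.mul_div_cancel _ two_pos]
    exact h1
  have hα2 : (α : Perm (Fin (4 * n + r))) * α = 1 := by
    rw [← Subgroup.coe_mul, ← sq, ← hα, pow_orderOf_eq_one]; rfl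
  have hβ2 : β * β = 1 := by
    simp only [β]
    rw [← map_mul, alpha0, ← map_mul]
    have : ((W.em fun _ : Fin (2 * n) => (1 : ZMod 2)), (1 : Perm (Fin r))) *
        ((W.em fun _ => 1), 1) = 1 := by
      refine Prod.ext ?_ (by simp)
      show W.em _ * W.em _ = 1
      rw [← W.em_add, add_self, W.em_zero]
    rw [this, map_one, map_one]
  have hβs : β.support.card = 4 * n := by
    have hset : β.support = (Finset.univ : Finset (Fin (2 * n) × Bool)).map
        ⟨fun p => e0 (Sum.inl p), fun p q h => Sum.inl_injective (e0.injective h)⟩ := by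
      ext y
      obtain ⟨z, rfl⟩ := e0.surjective y
      have hb : ∀ z, β (e0 z) = e0 (alpha0 (Fin (2 * n)) r z) := fun z => by
        simp [β, Equiv.permCongrHom]
      rw [Finset.mem_map, Equiv.Perm.mem_support, hb]
      rcases z with ⟨i, b⟩ | j
      · refine iff_of_true ?_ ⟨(i, b), Finset.mem_univ _, rfl⟩
        rw [alpha0_inl]
        intro h
        have := e0.injective h
        simp at this
      · refine iff_of_false (fun h => h (by rw [alpha0_inr])) ?_
        rintro ⟨p, -, hp⟩
        have := e0.injective hp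
        simp at this
    rw [hset, Finset.card_map, Finset.card_univ]
    simp; ring
  obtain ⟨c, hc⟩ := isConj_iff.1 (Equiv.Perm.isConj_iff_cycleType_eq.2
    (show β.cycleType = (α : Perm (Fin (4 * n + r))).cycleType by
      rw [hinv β hβ2, hinv _ hα2, hβs, hα4]))
  let Ω : W (Fin (2 * n)) × Perm (Fin r) →* Perm (Fin (4 * n + r)) :=
    ((MulAut.conj c).toMonoidHom.comp e0.permCongrHom.toMonoidHom).comp (Phi r)
  have hΩ0 : Ω (W.em (fun _ => 1), 1) = α := hc
  have hΩinj : Function.Injective Ω := fun a b h =>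
    Phi_injective (e0.permCongrHom.injective ((MulAut.conj c).injective h))
  have hsign : ∀ p, Equiv.Perm.sign (Ω p) = Equiv.Perm.sign (Phi r p) := by
    intro p
    show Equiv.Perm.sign (c * e0.permCongr (Phi r p) * c⁻¹) = _
    rw [map_mul, map_mul, map_inv, mul_inv_cancel_comm, Equiv.Perm.sign_permCongr]
  have hsurj : ∀ σ : Perm (Fin (4 * n + r)), σ * α = α * σ → σ ∈ Ω.range := by
    intro σ hσ
    obtain ⟨τ, hτ⟩ := e0.permCongrHom.surjective (c⁻¹ * σ * c)
    obtain ⟨p, hp⟩ := Phi_surjective (σ := τ) (r := r) (ι := Fin (2 * n)) (by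
      apply e0.permCongrHom.injective
      rw [map_mul, map_mul, hτ]
      show c⁻¹ * σ * c * β = β * (c⁻¹ * σ * c)
      rw [← hc] at hσ
      calc c⁻¹ * σ * c * β = c⁻¹ * (σ * (c * β * c⁻¹)) * c := by group
        _ = _ := by rw [hσ]; group)
    refine ⟨p, ?_⟩
    show c * e0.permCongrHom (Phi r p) * c⁻¹ = σ
    rw [hp, hτ]; group
  obtain ⟨sw, hsw2, hsws, hodd, hswc⟩ := swap_facts hr
  -- the complement
  let sgnPow : W (Fin (2 * n)) →* Perm (Fin r) :=
    { toFun := fun x => if ∑ i, x.vec i = 1 then sw else 1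
      map_one' := by simp
      map_mul' := fun x y => by
        simp only [W.mul_vec, Pi.add_apply, Function.comp_apply, Finset.sum_add_distrib]
        rw [Equiv.sum_comp x.perm.symm y.vec]
        rcases zmod_two (∑ i, x.vec i) with h | h <;> rcases zmod_two (∑ i, y.vec i) with h' | h' <;>
          simp [h, h', hsw2, CharTwo.add_self_eq_zero] }
  let ρ1 : W (Fin (2 * n)) →* Perm (Fin (4 * n + r)) := Ω.comp ((MonoidHom.id _).prod sgnPow)
  have hρ1even : ∀ x, ρ1 x ∈ alternatingGroup (Fin (4 * n + r)) := by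
    intro x
    rw [Equiv.Perm.mem_alternatingGroup]
    show Equiv.Perm.sign (Ω (x, sgnPow x)) = 1
    rw [hsign, sign_Phi]
    rcases zmod_two (∑ i, x.vec i) with h | h <;> simp [sgnPow, h, hsws]
  let ρ2 : W (Fin (2 * n)) →* ↥(centralizer ({α} : Set ↥(alternatingGroup (Fin (4 * n + r))))) :=
    (ρ1.codRestrict _ hρ1even).codRestrict _ fun x => by
      rw [mem_centralizer_singleton_iff]
      apply Subtype.ext
      show Ω (x, sgnPow x) * (α : Perm _) = (α : Perm _) * Ω (x, sgnPow x)
      rw [← hΩ0, ← map_mul, ← map_mul]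
      congr 1
      refine Prod.ext ?_ (by simp)
      exact mul_inv_eq_iff_eq_mul.1 (W.conj_em x _)
  let inc : ↥(centralizer ({α} : Set ↥(alternatingGroup (Fin (4 * n + r))))) →* ↥Ω.range :=
    ((alternatingGroup (Fin (4 * n + r))).subtype.comp (Subgroup.subtype _)).codRestrict _
      fun z => hsurj _ (congrArg Subtype.val (mem_centralizer_singleton_iff.1 z.2))
  let Q : ↥(centralizer ({t} : Set G)) →* W (Fin (2 * n)) × Perm (Fin r) :=
    (MonoidHom.ofInjective hΩinj).symm.toMonoidHom.comp (inc.comp iso.toMonoidHom)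
  have hQ : ∀ z, Ω (Q z) = ((iso z : ↥(alternatingGroup (Fin (4 * n + r)))) : Perm _) := fun z => by
    have h := (MonoidHom.ofInjective hΩinj).apply_symm_apply (inc (iso z))
    exact congrArg Subtype.val h
  have hQinj : Function.Injective Q := fun a b h => by
    apply iso.injective
    apply Subtype.ext; apply Subtype.ext
    rw [← hQ, ← hQ, h]
  let ρ : W (Fin (2 * n)) →* G :=
    (Subgroup.subtype _).comp (iso.symm.toMonoidHom.comp ρ2)
  have hQρ : ∀ x, Q (iso.symm (ρ2 x)) = (x, sgnPow x) := fun x => hΩinj (by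
    rw [hQ, iso.apply_symm_apply]; rfl)
  have hQeven : ∀ z, Equiv.Perm.sign (Q z).2 =
      if ∑ i, (Q z).1.vec i = 1 then -1 else 1 := by
    intro z
    have h : Equiv.Perm.sign (Ω (Q z)) = 1 := by
      rw [hQ]; exact Equiv.Perm.mem_alternatingGroup.1 (iso z).1.2
    rw [hsign, show Q z = ((Q z).1, (Q z).2) from rfl, sign_Phi] at h
    split_ifs at h ⊢
    · rw [neg_one_mul, neg_eq_iff_eq_neg] at h; exact h
    · rwa [one_mul] at h
  set q : ↥(centralizer ({t} : Set G)) →* W (Fin (2 * n)) := (MonoidHom.fst _ _).comp Q with hq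
  have hqρ : ∀ x, q (iso.symm (ρ2 x)) = x := fun x => by
    rw [hq]; exact congrArg Prod.fst (hQρ x)
  have hker : Odd (Nat.card q.ker) := by
    let ψ : ↥q.ker →* ↥(Equiv.Perm.sign : Perm (Fin r) →* ℤˣ).ker :=
      (((MonoidHom.snd _ _).comp Q).comp q.ker.subtype).codRestrict _ fun z => by
        rw [MonoidHom.mem_ker]
        show Equiv.Perm.sign (Q z.1).2 = 1
        rw [hQeven, show (Q z.1).1 = 1 from z.2]; simp
    refine hodd.of_dvd_nat (Subgroup.card_dvd_of_injective ψ fun a b h => ?_)
    apply Subtype.ext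
    apply hQinj
    exact Prod.ext ((show (Q a.1).1 = 1 from a.2).trans (show (Q b.1).1 = 1 from b.2).symm)
      (congrArg Subtype.val h)
  -- the image of `t`
  have hρt : ρ (W.em fun _ => 1) = t := by
    set u : ↥(centralizer ({t} : Set G)) := iso.symm (ρ2 (W.em fun _ => 1))
    set tc : ↥(centralizer ({t} : Set G)) := ⟨t, mem_centralizer_singleton_iff.2 rfl⟩
    have htc : ∀ z, tc * z = z * tc := fun z =>
      Subtype.ext (mem_centralizer_singleton_iff.1 z.2).symm
    have htc2 : tc * tc = 1 := Subtype.ext (by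
      show t * t = 1
      rw [← sq, ← ht, pow_orderOf_eq_one])
    have htc1 : tc ≠ 1 := fun h => by
      have h' : t = 1 := congrArg Subtype.val h
      rw [h', orderOf_one] at ht
      exact absurd ht (by norm_num)
    have hcent : ∀ y, q tc * y = y * q tc := fun y => by
      have h := congrArg q (htc (iso.symm (ρ2 y)))
      rwa [map_mul, map_mul, hqρ] at h
    have hperm : (q tc).perm = 1 := Equiv.ext fun i => by
      have h := mul_inv_eq_iff_eq_mul.2 (hcent (W.em (δ i)))
      rw [W.conj_em, δ_comp] at h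
      have h' := congrFun (W.em_injective h) i
      simp only [δ_apply] at h'
      by_contra hne
      simp only [Equiv.Perm.one_apply] at hne
      rw [if_neg (Ne.symm hne)] at h'
      simp at h'
    have hconst : ∀ i j, (q tc).vec i = (q tc).vec j := by
      intro i j
      have h := congrArg (fun y : W (Fin (2 * n)) => y.vec i) (hcent (W.pm (Equiv.swap i j)))
      simpa [hperm, Equiv.Perm.one_def] using h
    have hqu : q u = W.em fun _ => 1 := hqρ _
    have hn0 : 0 < 2 * n := by omega
    have hone : ∀ z : ↥(centralizer ({t} : Set G)), q z = 1 → z * z = 1 → z = 1 := by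
      intro z hz hz2
      have h1 : orderOf z ∣ 2 := orderOf_dvd_of_pow_eq_one (by rw [sq, hz2])
      have h2 : orderOf z ∣ Nat.card q.ker := by
        have := orderOf_dvd_natCard (⟨z, hz⟩ : q.ker)
        rwa [← Subgroup.orderOf_coe] at this
      have h3 := Nat.dvd_gcd h1 h2
      rw [(Nat.coprime_two_left.2 hker).gcd_eq_one] at h3
      exact orderOf_eq_one_iff.1 (Nat.dvd_one.1 h3)
    rcases zmod_two ((q tc).vec ⟨0, hn0⟩) with h0 | h0
    · exfalso
      refine htc1 (hone tc ?_ htc2)
      ext i
      · rw [hconst i ⟨0, hn0⟩, h0]; rfl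
      · rw [hperm]; rfl
    · have hqt : q tc = W.em fun _ => 1 := by
        ext i
        · rw [hconst i ⟨0, hn0⟩, h0]; rfl
        · rw [hperm]; rfl
      have hu2 : u * u = 1 := by
        simp only [u]
        rw [← map_mul, ← map_mul, ← W.em_add, add_self, W.em_zero, map_one, map_one]
      have hz : tc⁻¹ * u = 1 := by
        refine hone _ (by rw [map_mul, map_inv, hqt, hqu, inv_mul_cancel]) ?_
        rw [show tc⁻¹ = tc from inv_eq_of_mul_eq_one_right htc2]
        calc tc * u * (tc * u) = tc * (u * tc) * u := by group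
          _ = (tc * tc) * (u * u) := by rw [← htc u]; group
          _ = 1 := by rw [htc2, hu2, one_mul]
      exact congrArg Subtype.val (inv_mul_eq_one.1 hz).symm
  refine ⟨{
    t := t
    ρ := ρ
    q := q
    ρ_t := hρt
    ρ_mem := fun x => (iso.symm (ρ2 x)).2
    q_ρ := hqρ
    ker_odd := hker
    ker_odd_vec := fun z hz e he hcomm => ?_
    sylow := ?_
    card_even := ⟨n, by simp⟩
    card_pos := by simp; omega
    no2 := h2 }⟩
  · have h := congrArg Q (show z * iso.symm (ρ2 (W.em e)) = iso.symm (ρ2 (W.em e)) * z from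
      Subtype.ext hcomm)
    rw [map_mul, map_mul, hQρ] at h
    have h' := congrArg Prod.snd h
    simp only [Prod.snd_mul] at h'
    have hs : sgnPow (W.em e) = sw := if_pos he
    rw [hs] at h'
    have h1 : (Q z).1 = 1 := hz
    have h2' := hswc _ (by rw [hQeven, h1]; simp) h'
    apply hQinj
    rw [map_one]
    exact Prod.ext h1 h2'
  · intro h
    exact S.not_dvd_index (h.trans (Subgroup.index_dvd_of_le fun s hs =>
      mem_centralizer_singleton_iff.2 (htZ s hs)))

end Cfsg.Kondo67
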