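import Cfsg.Agent.Kondo67.WeakClosure

/-!
# Normalisation of the complement
-/

set_option autoImplicit false

namespace Cfsg.Kondo67

open Subgroup Finset Equiv

variable {G : Type*} [Group G] {ι : Type} [Fintype ι] [DecidableEq ι]

/-- The sign with values in `ZMod 2`. -/
def sgn2 (π : Perm ι) : ZMod 2 := if Equiv.Perm.sign π = 1 then 0 else 1

theorem sgn2_mul (π π' : Perm ι) : sgn2 (π * π') = sgn2 π + sgn2 π' := by
  rcases Int.units_eq_one_or (Equiv.Perm.sign π) with h | h <;>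
    rcases Int.units_eq_one_or (Equiv.Perm.sign π') with h' | h' <;>
      simp [sgn2, map_mul, h, h', CharTwo.add_self_eq_zero]

theorem sgn2_one : sgn2 (1 : Perm ι) = 0 := by simp [sgn2]

theorem sgn2_swap {a b : ι} (h : a ≠ b) : sgn2 (Equiv.swap a b) = 1 := by
  simp [sgn2, Equiv.Perm.sign_swap h]

/-- The parity of the weight, as a subgroup. -/
def evenPart (ι : Type) [Fintype ι] [DecidableEq ι] : Subgroup (W ι) where
  carrier := {x | ∑ i, x.vec i = 0}
  one_mem' := by simp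
  mul_mem' {x y} hx hy := by
    simp only [Set.mem_setOf_eq] at *
    simp only [W.mul_vec, Pi.add_apply, Function.comp_apply, Finset.sum_add_distrib]
    rw [Equiv.sum_comp x.perm.symm y.vec, hx, hy, add_zero]
  inv_mem' {x} hx := by
    simp only [Set.mem_setOf_eq] at *
    simp only [W.inv_vec, Function.comp_apply]
    rw [Equiv.sum_comp x.perm x.vec, hx]

theorem inv_eq_of_ne_zero {s : ZMod 2} (h : s ≠ 0) : s = 1 := (zmod_two s).resolve_left h

/-- The subgroup of index two cut out by a hom to `ZMod 2`. -/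
theorem relIndex_two {H : Type*} [Group H] (S M : Subgroup H) (χ : H → ZMod 2)
    (hχ : ∀ x ∈ S, ∀ y ∈ S, χ (x * y) = χ x + χ y) (hM : ∀ x, x ∈ M ↔ x ∈ S ∧ χ x = 0)
    (u : H) (hu : u ∈ S) (hχu : χ u = 1) : M.relIndex S = 2 := by
  rw [Subgroup.relIndex, Subgroup.index_eq_two_iff]
  refine ⟨⟨u, hu⟩, fun b => ?_⟩
  rw [mem_subgroupOf, mem_subgroupOf, Subgroup.coe_mul, hM, hM, hχ _ b.2 _ hu, hχu]
  simp only [SetLike.coe_mem, mul_mem b.2 hu, true_and]
  rcases zmod_two (χ b) with h | h <;> rw [h] <;> decide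

namespace Setup

variable (D : Setup G ι)

/-- A subgroup of odd index in the complement gives one in `G`. -/
theorem index_map_odd [Finite G] {T : Subgroup (W ι)} (hT : ¬2 ∣ T.index) :
    ¬2 ∣ (T.map D.ρ).index := by
  haveI : Finite (W ι) := W.finite
  have hq : Function.Surjective D.q := fun x => ⟨_, D.q_ρ x⟩
  have hC : Nat.card ↥(centralizer ({D.t} : Set G)) = Nat.card (W ι) * Nat.card D.q.ker := by
    rw [Subgroup.card_eq_card_quotient_mul_card_subgroup D.q.ker,
      Nat.card_congr (QuotientGroup.quotientKerEquivOfSurjective D.q hq).toEquiv]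
  have h1 := Subgroup.index_mul_card (T.map D.ρ)
  rw [← Subgroup.index_mul_card (centralizer ({D.t} : Set G)), hC,
    ← Subgroup.index_mul_card T, Subgroup.card_map_of_injective D.ρ_injective] at h1
  have hpos : 0 < Nat.card ↥T := Nat.card_pos
  have : (T.map D.ρ).index =
      (centralizer ({D.t} : Set G)).index * (T.index * Nat.card D.q.ker) :=
    Nat.eq_of_mul_eq_mul_right hpos (by rw [h1]; ring)
  rw [this]
  intro h
  rcases (Nat.prime_two.dvd_mul).1 h with h | h
  · exact D.sylow h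
  rcases (Nat.prime_two.dvd_mul).1 h with h | h
  · exact hT h
  · exact (Nat.not_even_iff_odd.2 D.ker_odd) (even_iff_two_dvd.2 h)

/-- A Sylow 2-subgroup of `G` inside the complement containing given elements. -/
theorem exists_sylow_ge [Finite G] {P : Subgroup (W ι)} (hP : IsPGroup 2 P) :
    ∃ T : Subgroup (W ι), P ≤ T ∧ W.base ≤ T ∧ IsPGroup 2 T ∧ IsPGroup 2 ↥(T.map D.ρ) ∧
      ¬2 ∣ (T.map D.ρ).index := by
  haveI : Finite (W ι) := W.finite
  haveI : Fact (Nat.Prime 2) := ⟨Nat.prime_two⟩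
  have hb : IsPGroup 2 ↥(W.base : Subgroup (W ι)) := IsPGroup.of_card W.card_base
  haveI : (W.base : Subgroup (W ι)).Normal := MonoidHom.normal_ker _
  have hsup : IsPGroup 2 ↥(P ⊔ W.base) := IsPGroup.to_sup_of_normal_right hP hb
  obtain ⟨R, hR⟩ := hsup.exists_le_sylow
  exact ⟨R, le_sup_left.trans hR, le_sup_right.trans hR, R.2, R.2.map _,
    D.index_map_odd R.not_dvd_index⟩

/-- Conjugation into the base is achieved in the normaliser. -/
theorem exists_N_conj [Finite G] {g : G} {e e' : ι → ZMod 2}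
    (h : g * D.ρ (W.em e) * g⁻¹ = D.ρ (W.em e')) : ∃ k ∈ D.N, D.act k e = e' := by
  haveI : Fact (Nat.Prime 2) := ⟨Nat.prime_two⟩
  set K : Subgroup G := centralizer ({D.ρ (W.em e')} : Set G)
  have hE : IsPGroup 2 D.E := (IsPGroup.of_card W.card_base).map _
  have hEK : D.E ≤ K := by
    intro x hx
    obtain ⟨v, rfl⟩ := D.mem_E.1 hx
    rw [mem_centralizer_singleton_iff, ← map_mul, ← map_mul, ← W.em_add, ← W.em_add, add_comm]
  obtain ⟨R, hER, hRK, hR2, hRodd⟩ := exists_two_sylow hEK hE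
  obtain ⟨k, hk, hkR⟩ := exists_conj_le (K := K) (Q := cj g D.E) (T := R)
    (fun x hx => by
      obtain ⟨v, hv⟩ := D.mem_E.1 (mem_cj.1 hx)
      rw [mem_centralizer_singleton_iff, ← h, show x = g * D.ρ (W.em v) * g⁻¹ by rw [hv]; group]
      calc g * D.ρ (W.em v) * g⁻¹ * (g * D.ρ (W.em e) * g⁻¹)
          = g * (D.ρ (W.em v) * D.ρ (W.em e)) * g⁻¹ := by group
        _ = g * (D.ρ (W.em e) * D.ρ (W.em v)) * g⁻¹ := by
          rw [← map_mul, ← map_mul, ← W.em_add, ← W.em_add, add_comm]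
        _ = _ := by group) hRK (hE.map _) hRodd
  obtain ⟨T, -, -, -, hTodd⟩ := D.exists_S
  obtain ⟨c, -, hc⟩ := exists_conj_le (le_top : R ≤ ⊤) le_top hR2
    (by rwa [Subgroup.relIndex_top_right] : ¬2 ∣ (T.map D.ρ).relIndex ⊤)
  have hcN : c ∈ D.N := D.weaklyClosed c fun v =>
    map_le_range _ _ (hc _ (hER (D.em_mem_E v)))
  have hckg : c * (k * g) ∈ D.N := D.weaklyClosed _ fun v => by
    have h1 := hc _ (hkR _ (mem_cj.2 (show g⁻¹ * (g * D.ρ (W.em v) * g⁻¹) * g ∈ D.E by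
      simpa [mul_assoc] using D.em_mem_E v)))
    have h2 := map_le_range _ _ h1
    simpa [mul_assoc] using h2
  have hkgN : k * g ∈ D.N := by simpa using mul_mem (inv_mem hcN) hckg
  refine ⟨k * g, hkgN, D.act_eq hkgN ?_⟩
  rw [show k * g * D.ρ (W.em e) * (k * g)⁻¹ = k * (g * D.ρ (W.em e) * g⁻¹) * k⁻¹ by group, h,
    mul_inv_eq_iff_eq_mul]
  exact mem_centralizer_singleton_iff.1 hk

theorem moves [Finite G] : D.Moves := by
  classical
  obtain ⟨i⟩ : Nonempty ι := Fintype.card_pos_iff.1 D.card_pos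
  obtain ⟨T, -, hbT, hT2, hS2, hSodd⟩ := D.exists_sylow_ge (IsPGroup.of_bot (p := 2) (G := W ι))
  set M : Subgroup (W ι) := T ⊓ evenPart ι
  have hM : M.relIndex T = 2 :=
    relIndex_two T M (fun x => ∑ j, x.vec j)
      (fun x _ y _ => by
        simp only [W.mul_vec, Pi.add_apply, Function.comp_apply, Finset.sum_add_distrib]
        rw [Equiv.sum_comp x.perm.symm y.vec])
      (fun x => Iff.rfl) (W.em (δ i)) (hbT (W.em_mem_base _)) (by simp [δ_apply])
  have huM : D.ρ (W.em (δ i)) ∉ M.map D.ρ := by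
    rintro ⟨x, hx, hx'⟩
    rw [D.ρ_injective hx'] at hx
    simpa [evenPart, δ_apply] using hx.2
  obtain ⟨g, hgM, hgC⟩ := strong_transfer D.no2 (T.map D.ρ) hS2 hSodd (M.map D.ρ)
    (map_mono inf_le_left) (by rw [Subgroup.relIndex_map_map_of_injective _ _ D.ρ_injective, hM])
    (D.ρ (W.em (δ i))) (mem_map_of_mem _ (hbT (W.em_mem_base _))) huM
    (by rw [← map_mul, ← W.em_add, add_self, W.em_zero, map_one])
  have hgN : g ∈ D.N := D.weaklyClosed g fun e => map_le_range _ _ (hgC _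
    (mem_map_of_mem _ (hbT (W.em_mem_base _)))
    (by rw [← map_mul, ← map_mul, ← W.em_add, ← W.em_add, add_comm]))
  refine ⟨g, hgN, fun hgt => ?_⟩
  obtain ⟨x, rfl⟩ := D.exists_ρ hgt hgN
  obtain ⟨y, hy, hy'⟩ := hgM
  rw [← map_inv, ← map_mul, ← map_mul, W.conj_em, δ_comp] at hy'
  rw [D.ρ_injective hy'] at hy
  simpa [evenPart, δ_apply] using hy.2

/-- A lift of the transposition exchanging `p` with the extra point, commuting with `(a b)`. -/
def Lift (a b p : ι) : Prop :=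
  ∃ g ∈ D.N, (∀ e, D.act g e = e + (∑ i, e i + e p) • δ p) ∧
    g * D.ρ (W.pm (Equiv.swap a b)) * g⁻¹ = D.ρ (W.pm (Equiv.swap a b))

/-- Normal, with all lifts. -/
def Normal2 : Prop := D.Normal ∧ ∀ a b p, a ≠ b → a ≠ p → b ≠ p → D.Lift a b p

theorem lift_conj {a b p : ι} (h : D.Lift a b p) (σ : Perm ι) :
    D.Lift (σ a) (σ b) (σ p) := by
  obtain ⟨g, hg, hact, hcomm⟩ := h
  set s := D.ρ (W.pm σ)
  have hs : s ∈ D.N := D.ρ_mem_N _
  refine ⟨s * g * s⁻¹, mul_mem (mul_mem hs hg) (inv_mem hs), fun e => ?_, ?_⟩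
  · have h1 : D.act s⁻¹ e = e ∘ σ := by
      rw [show s⁻¹ = D.ρ (W.pm σ)⁻¹ from (map_inv _ _).symm, D.act_ρ]
      simp [Equiv.Perm.inv_def]
    have h2 : ∀ v, D.act s v = v ∘ σ.symm := fun v => D.act_ρ _ v
    rw [D.act_mul (mul_mem hs hg) (inv_mem hs), D.act_mul hs hg, hact, D.act_add hs,
      D.act_smul hs, h1, h2, h2, δ_comp]
    have h3 : ∑ i, (e ∘ σ) i = ∑ i, e i := Equiv.sum_comp σ e
    rw [h3]
    congr 1
    ext i; simp
  · have h1 : W.pm (Equiv.swap (σ a) (σ b)) = W.pm σ * W.pm (Equiv.swap a b) * (W.pm σ)⁻¹ := by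
      have : (W.pm σ)⁻¹ = W.pm σ⁻¹ := inv_eq_of_mul_eq_one_right (by
        rw [← W.pm_mul, mul_inv_cancel]; rfl)
      rw [this, ← W.pm_mul, ← W.pm_mul, ← Equiv.swap_apply_apply]
    rw [h1, map_mul, map_mul, map_inv]
    calc s * g * s⁻¹ * (s * D.ρ (W.pm (Equiv.swap a b)) * s⁻¹) * (s * g * s⁻¹)⁻¹
        = s * (g * D.ρ (W.pm (Equiv.swap a b)) * g⁻¹) * s⁻¹ := by group
      _ = _ := by rw [hcomm]

/-- The sign twist. -/
def psi (ι : Type) [Fintype ι] [DecidableEq ι] : W ι ≃* W ι where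
  toFun x := ⟨x.vec + (fun _ => sgn2 x.perm), x.perm⟩
  invFun x := ⟨x.vec + (fun _ => sgn2 x.perm), x.perm⟩
  left_inv x := by
    ext i
    · simp [add_assoc, CharTwo.add_self_eq_zero]
    · rfl
  right_inv x := by
    ext i
    · simp [add_assoc, CharTwo.add_self_eq_zero]
    · rfl
  map_mul' x y := by
    ext i
    · simp only [W.mul_vec, W.mul_perm, Pi.add_apply, Function.comp_apply, sgn2_mul]
      ring
    · rfl

theorem psi_em (e : ι → ZMod 2) : psi ι (W.em e) = W.em e := by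
  ext i
  · simp [psi, sgn2_one]
  · rfl

/-- The setup twisted by the sign. -/
def twistPsi : Setup G ι :=
  D.twist (psi ι) (fun _ => rfl) (psi_em _) (fun e => by rw [psi_em]; rfl)

theorem twistPsi_em (e : ι → ZMod 2) : D.twistPsi.ρ (W.em e) = D.ρ (W.em e) :=
  congrArg D.ρ (psi_em e)

theorem twistPsi_E : D.twistPsi.E = D.E := by
  ext g; simp only [Setup.mem_E, twistPsi_em]

theorem twistPsi_N : D.twistPsi.N = D.N := by rw [Setup.N, D.twistPsi_E, Setup.N]

theorem twistPsi_act {g : G} (hg : g ∈ D.N) (e : ι → ZMod 2) :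
    D.twistPsi.act g e = D.act g e :=
  D.twistPsi.act_eq (D.twistPsi_N.symm ▸ hg) (by rw [twistPsi_em, twistPsi_em, D.act_spec hg])

theorem twistPsi_normal (h : D.Normal) : D.twistPsi.Normal := fun a => by
  obtain ⟨h1, h2, h3, g, hg, hact⟩ := h a
  exact ⟨h1, h2, h3, g, D.twistPsi_N.symm ▸ hg, fun e => by rw [D.twistPsi_act hg, hact]⟩

theorem exists_third {a b p : ι} (hab : a ≠ b) (hap : a ≠ p) (hbp : b ≠ p)
    (hev : 2 ∣ Fintype.card ι) : ∃ c, c ≠ a ∧ c ≠ b ∧ c ≠ p := by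
  by_contra h
  push Not at h
  have : (Finset.univ : Finset ι) = {a, b, p} := Finset.eq_of_subset_of_card_le
    (fun x _ => by
      simp only [Finset.mem_insert, Finset.mem_singleton]
      by_contra hx
      push Not at hx
      exact hx.2.2 (h x hx.1 hx.2.1)) (Finset.card_le_univ _)
  have hc := congrArg Finset.card this
  rw [Finset.card_univ, Finset.card_eq_three.2 ⟨a, b, p, hab, hap, hbp, rfl⟩] at hc
  omega

theorem exists_lift [Finite G] (hN : D.Normal) {a b p : ι} (hab : a ≠ b) (hap : a ≠ p)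
    (hbp : b ≠ p) : D.Lift a b p ∨ D.twistPsi.Lift a b p := by
  obtain ⟨-, -, hfc, g, hg, hact0⟩ := hN p
  have hact : ∀ e, D.act g e = e + (∑ i, e i + e p) • δ p := fun e => by
    rw [hact0, add_dot, one_dot, δ_dot]
  set τ := Equiv.swap a b with hτ
  have hτp : τ p = p := Equiv.swap_apply_of_ne_of_ne (Ne.symm hap) (Ne.symm hbp)
  have hsum : ∀ v : ι → ZMod 2, ∀ σ : Perm ι, ∑ i, (v ∘ σ) i = ∑ i, v i :=
    fun v σ => Equiv.sum_comp σ v
  have hcom : ∀ σ : Perm ι, σ p = p → ∀ e, D.act g (e ∘ σ.symm) = D.act g e ∘ σ.symm := by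
    intro σ hσ e
    have hσp : σ.symm p = p := (Equiv.symm_apply_eq _).2 hσ.symm
    have hδ : δ p ∘ σ.symm = δ p := by rw [δ_comp, hσ]
    rw [hact, hact]
    ext i
    have := congrFun hδ i
    simp only [Function.comp_apply] at this
    simp only [Pi.add_apply, Pi.smul_apply, Function.comp_apply, hσp, this,
      Equiv.sum_comp σ.symm e]
  have hconjact : ∀ e, D.act (g * D.ρ (W.pm τ) * g⁻¹) e = e ∘ τ.symm := fun e => by
    rw [D.act_mul (mul_mem hg (D.ρ_mem_N _)) (inv_mem hg), D.act_mul hg (D.ρ_mem_N _), D.act_ρ,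
      W.pm_perm, hcom τ hτp, D.act_act_inv hg]
  obtain ⟨y, hy⟩ : ∃ y, D.ρ (W.em y) = g * D.ρ (W.pm τ) * g⁻¹ * (D.ρ (W.pm τ))⁻¹ := by
    refine D.mem_E.1 (D.cent_E fun e => ?_)
    have hgt : g * D.ρ (W.pm τ) * g⁻¹ ∈ D.N := mul_mem (mul_mem hg (D.ρ_mem_N _)) (inv_mem hg)
    have hn : g * D.ρ (W.pm τ) * g⁻¹ * (D.ρ (W.pm τ))⁻¹ ∈ D.N :=
      mul_mem hgt (inv_mem (D.ρ_mem_N _))
    rw [← mul_inv_eq_iff_eq_mul, D.act_spec hn, D.act_mul hgt (inv_mem (D.ρ_mem_N _)), hconjact,
      ← map_inv, D.act_ρ]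
    congr 2
    ext i
    simp [hτ, Equiv.Perm.inv_def]
  have hy' : g * D.ρ (W.pm τ) * g⁻¹ = D.ρ (W.em y * W.pm τ) := by
    rw [map_mul, hy]; group
  have hsq : (W.em y * W.pm τ) * (W.em y * W.pm τ) = 1 := by
    apply D.ρ_injective
    rw [map_mul, ← hy', map_one]
    calc g * D.ρ (W.pm τ) * g⁻¹ * (g * D.ρ (W.pm τ) * g⁻¹)
        = g * (D.ρ (W.pm τ) * D.ρ (W.pm τ)) * g⁻¹ := by group
      _ = 1 := by
        rw [← map_mul, ← W.pm_mul, hτ, Equiv.swap_mul_self,
          show W.pm (1 : Perm ι) = 1 from rfl, map_one]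
        group
  have hyab : y b = y a := by
    have := W.sq_vec hsq a
    simpa [hτ] using this
  have hjump : ∀ v, D.ρ (W.em v) * D.ρ (W.pm τ) * (D.ρ (W.em v))⁻¹
      = D.ρ (W.em (v + v ∘ τ.symm) * W.pm τ) := by
    intro v
    rw [← map_inv, ← map_mul, ← map_mul]
    congr 1
    ext i <;> simp
  have hk : ∀ v : ι → ZMod 2, v + v ∘ τ.symm = (v a + v b) • tp a b := by
    intro v
    rw [hτ, Equiv.symm_swap, comp_swap, ← add_assoc, add_self, zero_add, tp_dot]
  have hgk : ∀ v, g * (D.ρ (W.em v) * D.ρ (W.pm τ) * (D.ρ (W.em v))⁻¹) * g⁻¹ =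
      D.ρ (W.em ((v a + v b) • tp a b + y) * W.pm τ) := by
    intro v
    rw [hjump, hk, map_mul]
    calc g * (D.ρ (W.em ((v a + v b) • tp a b)) * D.ρ (W.pm τ)) * g⁻¹
        = (g * D.ρ (W.em ((v a + v b) • tp a b)) * g⁻¹) * (g * D.ρ (W.pm τ) * g⁻¹) := by group
      _ = _ := by
        rw [D.act_spec hg, hy', ← map_mul, ← mul_assoc, ← W.em_add]
        congr 4
        rw [D.act_smul hg, hact]
        have : ∑ i, tp a b i = 0 := by rw [← dot_one]; exact tp_one a b
        rw [this, show tp a b p = 0 by simp [tp, δ_apply, Ne.symm hap, Ne.symm hbp], add_zero,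
          z_smul, add_zero]
  -- (i)
  have hconst : ∀ c c', c ≠ a → c ≠ b → c ≠ p → c' ≠ a → c' ≠ b → c' ≠ p → y c = y c' := by
    intro c c' ha hb hp ha' hb' hp'
    set σ := Equiv.swap c c' with hσ
    have hσa : σ a = a := Equiv.swap_apply_of_ne_of_ne (Ne.symm ha) (Ne.symm ha')
    have hσb : σ b = b := Equiv.swap_apply_of_ne_of_ne (Ne.symm hb) (Ne.symm hb')
    have hσp : σ p = p := Equiv.swap_apply_of_ne_of_ne (Ne.symm hp) (Ne.symm hp')
    set s := D.ρ (W.pm σ) with hs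
    have hsN : s ∈ D.N := D.ρ_mem_N _
    have hscom : s⁻¹ * D.ρ (W.pm τ) * s = D.ρ (W.pm τ) := by
      rw [hs, ← map_inv, ← map_mul, ← map_mul]
      congr 1
      ext i
      · simp
      · simp only [W.mul_perm, W.inv_perm, W.pm_perm, hσ, Equiv.swap_inv, Equiv.Perm.mul_apply]
        rcases eq_or_ne i c with rfl | hic
        · simp [hτ, Equiv.swap_apply_of_ne_of_ne ha' hb', Equiv.swap_apply_of_ne_of_ne ha hb]
        rcases eq_or_ne i c' with rfl | hic'
        · simp [hτ, Equiv.swap_apply_of_ne_of_ne ha' hb', Equiv.swap_apply_of_ne_of_ne ha hb]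
        rw [Equiv.swap_apply_of_ne_of_ne hic hic']
        rcases eq_or_ne i a with rfl | hia
        · simp [hτ, Equiv.swap_apply_of_ne_of_ne (Ne.symm hb) (Ne.symm hb')]
        rcases eq_or_ne i b with rfl | hib
        · simp [hτ, Equiv.swap_apply_of_ne_of_ne (Ne.symm ha) (Ne.symm ha')]
        simp [hτ, Equiv.swap_apply_of_ne_of_ne hia hib, Equiv.swap_apply_of_ne_of_ne hic hic']
    obtain ⟨v, hv⟩ : ∃ v, D.ρ (W.em v) = g⁻¹ * (s * g * s⁻¹) := by
      refine D.mem_E.1 (D.cent_E fun e => ?_)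
      have hn : g⁻¹ * (s * g * s⁻¹) ∈ D.N :=
        mul_mem (inv_mem hg) (mul_mem (mul_mem hsN hg) (inv_mem hsN))
      rw [← mul_inv_eq_iff_eq_mul, D.act_spec hn,
        D.act_mul (inv_mem hg) (mul_mem (mul_mem hsN hg) (inv_mem hsN)),
        D.act_mul (mul_mem hsN hg) (inv_mem hsN), D.act_mul hsN hg]
      congr 2
      have h1 : D.act s (D.act g (D.act s⁻¹ e)) = D.act g e := by
        rw [D.act_ρ (W.pm σ), W.pm_perm, ← hcom σ hσp]
        congr 1
        have := D.act_act_inv hsN e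
        rwa [D.act_ρ (W.pm σ), W.pm_perm] at this
      rw [h1, D.act_inv_act hg]
    have h1 : D.ρ (W.em (y ∘ σ.symm) * W.pm τ) = D.ρ (W.em ((v a + v b) • tp a b + y) * W.pm τ) := by
      rw [← hgk, hv]
      have hl : D.ρ (W.em (y ∘ σ.symm) * W.pm τ) = s * D.ρ (W.em y * W.pm τ) * s⁻¹ := by
        rw [map_mul, map_mul, show W.em (y ∘ σ.symm) = W.pm σ * W.em y * (W.pm σ)⁻¹ from
          (W.conj_em (W.pm σ) y).symm, map_mul, map_mul, map_inv]
        have hscom' : s * D.ρ (W.pm τ) * s⁻¹ = D.ρ (W.pm τ) := by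
          nth_rewrite 1 [← hscom]
          group
        nth_rewrite 1 [← hscom']
        simp only [hs]
        group
      rw [hl, ← hy']
      nth_rewrite 1 [← hscom]
      group
    have h2 := congrFun (W.em_injective (mul_right_cancel (D.ρ_injective h1))) c
    simp [hσ, tp, δ_apply, ha, hb] at h2
    exact h2.symm
  obtain ⟨c0, hc0a, hc0b, hc0p⟩ := exists_third hab hap hbp D.card_even
  -- (ii)
  have hsq' : ∑ i, y i + y p = 0 := by
    obtain ⟨v, hv⟩ : ∃ v, D.ρ (W.em v) = g * g := by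
      refine D.mem_E.1 (D.cent_E fun e => ?_)
      rw [← mul_inv_eq_iff_eq_mul, D.act_spec (mul_mem hg hg), D.act_mul hg hg,
        D.tv_invol hfc hact0]
    have h1 : D.ρ (W.em (v + v ∘ τ.symm) * W.pm τ) = D.ρ (W.em (D.act g y + y) * W.pm τ) := by
      rw [← hjump, hv, W.em_add, map_mul, map_mul, ← D.act_spec hg, hy]
      group
    have h2 := congrFun (W.em_injective (mul_right_cancel (D.ρ_injective h1))) p
    rw [hk, hact] at h2
    simp [tp, δ_apply, Ne.symm hap, Ne.symm hbp] at h2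
    have h3 := CharTwo.add_self_eq_zero (R := ZMod 2) (y p)
    linear_combination -h2 - h3
  have hrest : y c0 = 0 := by
    have hsplit : ∑ i, y i = y a + y b + y p + ∑ i ∈ Finset.univ \ {a, b, p}, y i := by
      rw [← Finset.sum_add_sum_compl ({a, b, p} : Finset ι), Finset.compl_eq_univ_sdiff]
      congr 1
      rw [Finset.sum_insert (by simp [hab, hap]), Finset.sum_insert (by simp [hbp]),
        Finset.sum_singleton, add_assoc]
    have hsum2 : ∑ i ∈ Finset.univ \ {a, b, p}, y i = y c0 := by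
      rw [Finset.sum_congr rfl (g := fun _ => y c0) fun i hi => by
        simp only [Finset.mem_sdiff, Finset.mem_univ, true_and, Finset.mem_insert,
          Finset.mem_singleton, not_or] at hi
        exact hconst i c0 hi.1 hi.2.1 hi.2.2 hc0a hc0b hc0p]
      rw [Finset.sum_const, Finset.card_univ_sdiff,
        Finset.card_eq_three.2 ⟨a, b, p, hab, hap, hbp, rfl⟩]
      obtain ⟨k, hk⟩ := D.card_even
      have hk2 : 2 ≤ k := by
        have : ({a, b, p} : Finset ι).card ≤ Fintype.card ι := Finset.card_le_univ _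
        rw [Finset.card_eq_three.2 ⟨a, b, p, hab, hap, hbp, rfl⟩] at this
        omega
      rw [hk, show 2 * k - 3 = 2 * (k - 2) + 1 by omega, succ_nsmul, mul_nsmul, two_nsmul,
        CharTwo.add_self_eq_zero, nsmul_zero, zero_add]
    rw [hsplit, hsum2, hyab] at hsq'
    have h3 := CharTwo.add_self_eq_zero (R := ZMod 2) (y a)
    have h4 := CharTwo.add_self_eq_zero (R := ZMod 2) (y p)
    linear_combination hsq' - h3 - h4
  have hyform : y = (y a) • tp a b + (y p) • δ p := by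
    ext i
    rcases eq_or_ne i a with rfl | hia
    · simp [tp, δ_apply, hab, hap]
    rcases eq_or_ne i b with rfl | hib
    · simp [tp, δ_apply, Ne.symm hab, hbp, hyab]
    rcases eq_or_ne i p with rfl | hip
    · simp [tp, δ_apply, Ne.symm hap, Ne.symm hbp]
    simp [tp, δ_apply, hia, hib, hip, hconst i c0 hia hib hip hc0a hc0b hc0p, hrest]
  -- correct by an element of the base
  have finish : ∀ (D' : Setup G ι), (∀ e, D'.ρ (W.em e) = D.ρ (W.em e)) → D'.N = D.N →
      (∀ e, D'.act g e = D.act g e) → ∀ k : ZMod 2,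
      g * D'.ρ (W.pm τ) * g⁻¹ = D'.ρ (W.em (k • tp a b) * W.pm τ) → D'.Lift a b p := by
    intro D' hem hN' hact' k hk'
    set ε := D'.ρ (W.em (k • δ a))
    refine ⟨g * ε, mul_mem (hN'.symm ▸ hg) (D'.ρ_mem_N _), fun e => ?_, ?_⟩
    · rw [D'.act_mul (hN'.symm ▸ hg) (D'.ρ_mem_N _), D'.act_ρ, hact']
      exact hact e
    · have h1 : ε * D'.ρ (W.pm τ) * ε⁻¹ = D'.ρ (W.em (k • tp a b) * W.pm τ) := by
        simp only [ε]
        rw [← map_inv, ← map_mul, ← map_mul]
        congr 1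
        ext i
        · simp [tp, hτ]
          rcases zmod_two k with rfl | rfl
          · simp
          · simp only [one_mul, δ_apply, Equiv.swap_apply_eq_iff, Equiv.swap_apply_left]
        · simp
      rw [show g * ε * D'.ρ (W.pm τ) * (g * ε)⁻¹ = g * (ε * D'.ρ (W.pm τ) * ε⁻¹) * g⁻¹ by group,
        h1, map_mul]
      calc g * (D'.ρ (W.em (k • tp a b)) * D'.ρ (W.pm τ)) * g⁻¹
          = (g * D.ρ (W.em (k • tp a b)) * g⁻¹) * (g * D'.ρ (W.pm τ) * g⁻¹) := by
            rw [hem]; group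
        _ = _ := by
          rw [D.act_spec hg, hk', ← hem, ← map_mul, ← mul_assoc, ← W.em_add, D.act_smul hg, hact,
            show ∑ i, tp a b i = 0 by rw [← dot_one]; exact tp_one a b,
            show tp a b p = 0 by simp [tp, δ_apply, Ne.symm hap, Ne.symm hbp], add_zero,
            z_smul, add_zero, add_self, W.em_zero, one_mul]
  rcases zmod_two (y p) with hp | hp
  · left
    refine finish D (fun _ => rfl) rfl (fun _ => rfl) (y a) ?_
    rw [hy']; conv_lhs => rw [hyform, hp, z_smul, add_zero]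
  · right
    refine finish D.twistPsi D.twistPsi_em D.twistPsi_N (D.twistPsi_act hg) (y a) ?_
    have hρτ : D.twistPsi.ρ (W.pm τ) = D.ρ (W.em (fun _ => 1) * W.pm τ) := by
      show D.ρ (psi ι (W.pm τ)) = _
      congr 1
      ext i
      · simp [psi, hτ, sgn2_swap hab]
      · simp [psi]
    rw [map_mul D.twistPsi.ρ, twistPsi_em, hρτ]
    calc g * D.ρ (W.em (fun _ => 1) * W.pm τ) * g⁻¹
        = (g * D.ρ (W.em fun _ => 1) * g⁻¹) * (g * D.ρ (W.pm τ) * g⁻¹) := by
          rw [map_mul]; group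
      _ = _ := by
        rw [D.act_spec hg, hy', ← map_mul, ← map_mul, ← mul_assoc, ← mul_assoc, ← W.em_add,
          ← W.em_add]
        congr 3
        rw [hact]
        conv_lhs => rw [hyform, hp, o_smul]
        obtain ⟨k, hk⟩ := D.card_even
        simp only [Finset.sum_const, Finset.card_univ, hk, mul_nsmul, two_nsmul,
          CharTwo.add_self_eq_zero, nsmul_zero, zero_add, o_smul]
        have := add_self (δ p)
        calc (fun _ => (1 : ZMod 2)) + δ p + (y a • tp a b + δ p)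
            = y a • tp a b + (fun _ => 1) + (δ p + δ p) := by abel
          _ = _ := by rw [this, add_zero]

/-- Some twist of the setup is normalised. -/
theorem exists_normal2 [Finite G] :
    ∃ D' : Setup G ι, D'.t = D.t ∧ D'.Normal2 := by
  obtain ⟨D1, ht, hN⟩ : ∃ D1 : Setup G ι, D1.t = D.t ∧ D1.Normal := by
    rcases D.normal_or_twist D.moves with h | h
    · exact ⟨D, rfl, h⟩
    · exact ⟨D.twistTheta, rfl, h⟩
  by_cases hex : ∃ a b p : ι, a ≠ b ∧ a ≠ p ∧ b ≠ p
  · obtain ⟨a, b, p, hab, hap, hbp⟩ := hex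
    have conj3 : ∀ D' : Setup G ι, D'.Lift a b p → ∀ a' b' p', a' ≠ b' → a' ≠ p' → b' ≠ p' →
        D'.Lift a' b' p' := by
      intro D' h a' b' p' hab' hap' hbp'
      obtain ⟨σ, h1, h2, h3⟩ : ∃ σ : Perm ι, σ a = a' ∧ σ b = b' ∧ σ p = p' := by
        let σ1 := Equiv.swap a a'
        let σ2 := Equiv.swap (σ1 b) b' * σ1
        have e1 : σ1 b ≠ a' := fun e => hab (σ1.injective (by
          rw [e]; exact Equiv.swap_apply_left _ _))
        have f1 : σ2 a = a' := by
          simp only [σ2, Equiv.Perm.mul_apply, σ1, Equiv.swap_apply_left]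
          exact Equiv.swap_apply_of_ne_of_ne (Ne.symm e1) hab'
        have f2 : σ2 b = b' := by simp [σ2]
        have e3 : σ2 p ≠ a' := fun e => hap (σ2.injective (f1.trans e.symm))
        have e4 : σ2 p ≠ b' := fun e => hbp (σ2.injective (f2.trans e.symm))
        refine ⟨Equiv.swap (σ2 p) p' * σ2, ?_, ?_, by simp⟩
        · rw [Equiv.Perm.mul_apply, f1, Equiv.swap_apply_of_ne_of_ne (Ne.symm e3) hap']
        · rw [Equiv.Perm.mul_apply, f2, Equiv.swap_apply_of_ne_of_ne (Ne.symm e4) hbp']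
      rw [← h1, ← h2, ← h3]
      exact D'.lift_conj h σ
    rcases D1.exists_lift hN hab hap hbp with h | h
    · exact ⟨D1, ht, hN, conj3 _ h⟩
    · exact ⟨D1.twistPsi, ht, D1.twistPsi_normal hN, conj3 _ h⟩
  · exact ⟨D1, ht, hN, fun a b p h1 h2 h3 => absurd ⟨a, b, p, h1, h2, h3⟩ hex⟩

end Setup

end Cfsg.Kondo67
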