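import Mathlib.GroupTheory.Sylow
import Mathlib.GroupTheory.Nilpotent
import Mathlib.GroupTheory.IndexNormal
import Mathlib.GroupTheory.Perm.Cycle.Type

/-!
# Sylow helpers and a strong form of Thompson's transfer lemma
-/

set_option autoImplicit false

namespace Cfsg.Kondo67

open Subgroup

variable {G : Type*} [Group G]

theorem exists_conj_le [Finite G] {K Q T : Subgroup G} (hQK : Q ≤ K) (hTK : T ≤ K)
    (hQ : IsPGroup 2 Q) (hodd : ¬2 ∣ T.relIndex K) :
    ∃ k ∈ K, ∀ x ∈ Q, k * x * k⁻¹ ∈ T := by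
  haveI : Fact (Nat.Prime 2) := ⟨Nat.prime_two⟩
  have hQ' : IsPGroup 2 ↥(Q.subgroupOf K) := hQ.comap_subtype
  obtain ⟨q, hq⟩ := hQ'.nonempty_fixed_point_of_prime_not_dvd_card
    (K ⧸ T.subgroupOf K) hodd
  obtain ⟨k, rfl⟩ := QuotientGroup.mk_surjective q
  refine ⟨(k : G)⁻¹, inv_mem k.2, fun x hx => ?_⟩
  have h := hq (⟨⟨x⁻¹, hQK (inv_mem hx)⟩, mem_subgroupOf.2 (inv_mem hx)⟩ : ↥(Q.subgroupOf K))
  change ((⟨x⁻¹, hQK (inv_mem hx)⟩ * k : ↥K) : ↥K ⧸ T.subgroupOf K) = (k : ↥K ⧸ T.subgroupOf K) at h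
  rw [QuotientGroup.eq] at h
  simpa [mem_subgroupOf, mul_assoc] using h

theorem exists_two_sylow [Finite G] {K P : Subgroup G} (hPK : P ≤ K) (hP : IsPGroup 2 P) :
    ∃ R : Subgroup G, P ≤ R ∧ R ≤ K ∧ IsPGroup 2 R ∧ ¬2 ∣ R.relIndex K := by
  haveI : Fact (Nat.Prime 2) := ⟨Nat.prime_two⟩
  have hP' : IsPGroup 2 ↥(P.subgroupOf K) := hP.comap_subtype
  obtain ⟨R, hR⟩ := hP'.exists_le_sylow
  refine ⟨(R : Subgroup K).map K.subtype, fun x hx => ⟨⟨x, hPK hx⟩, hR (mem_subgroupOf.2 hx), rfl⟩,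
    map_subtype_le _, R.2.map _, ?_⟩
  have : ((R : Subgroup K).map K.subtype).relIndex K = (R : Subgroup K).index := by
    rw [Subgroup.relIndex, ← comap_subtype, comap_map_eq_self_of_injective (subtype_injective _)]
  rw [this]
  exact R.not_dvd_index

/-- Normalisers grow in 2-groups. -/
theorem exists_sq_mem [Finite G] {R P : Subgroup G} (hR : IsPGroup 2 R) (hPR : P ≤ R)
    (hne : P ≠ R) : ∃ r ∈ R, r ∉ P ∧ r * r ∈ P ∧ ∀ x, x ∈ P ↔ r * x * r⁻¹ ∈ P := by
  haveI : Fact (Nat.Prime 2) := ⟨Nat.prime_two⟩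
  have hlt : P.subgroupOf R < ⊤ := by
    rw [lt_top_iff_ne_top, Ne, subgroupOf_eq_top]
    exact fun h => hne (le_antisymm hPR h)
  haveI : Group.IsNilpotent ↥R := hR.isNilpotent
  obtain ⟨r0, hr0, hr0'⟩ := SetLike.exists_of_lt (normalizerCondition_of_isNilpotent _ hlt)
  obtain ⟨k, hk⟩ := hR r0
  classical
  have hex : ∃ i, r0 ^ 2 ^ i ∈ P.subgroupOf R := ⟨k, by rw [hk]; exact one_mem _⟩
  obtain ⟨i, hi⟩ : ∃ i, Nat.find hex = i + 1 := by
    refine Nat.exists_eq_succ_of_ne_zero fun h0 => ?_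
    have h1 := Nat.find_spec hex
    rw [h0, pow_zero, pow_one] at h1
    exact hr0' h1
  have hnot : r0 ^ 2 ^ i ∉ P.subgroupOf R := Nat.find_min hex (by omega)
  have hin : r0 ^ 2 ^ (i + 1) ∈ P.subgroupOf R := hi ▸ Nat.find_spec hex
  rw [pow_succ, pow_mul, sq] at hin
  have hn : r0 ^ 2 ^ i ∈ normalizer ((P.subgroupOf R : Subgroup ↥R) : Set ↥R) := pow_mem hr0 _
  refine ⟨((r0 ^ 2 ^ i : R) : G), SetLike.coe_mem _, fun h => hnot (mem_subgroupOf.2 h),
    mem_subgroupOf.1 hin, fun x => ⟨fun hx => ?_, fun hx => ?_⟩⟩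
  · have := (Subgroup.mem_normalizer_iff.1 hn ⟨x, hPR hx⟩).1 (mem_subgroupOf.2 hx)
    simpa [mem_subgroupOf] using this
  · have hxR : x ∈ R := by
      have := mul_mem (mul_mem (inv_mem (r0 ^ 2 ^ i).2) (hPR hx)) (r0 ^ 2 ^ i).2
      simpa [mul_assoc] using this
    have := (Subgroup.mem_normalizer_iff.1 hn ⟨x, hxR⟩).2
      (by simpa [mem_subgroupOf] using hx)
    simpa [mem_subgroupOf] using this

/-- Thompson's transfer lemma with control of the centraliser in the Sylow subgroup. -/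
theorem strong_transfer [Finite G] (hno : ∀ H : Subgroup G, H.Normal → H.index ≠ 2)
    (S : Subgroup G) (hS : IsPGroup 2 S) (hSodd : ¬2 ∣ S.index) (M : Subgroup G) (hMS : M ≤ S)
    (hM : M.relIndex S = 2) (u : G) (huS : u ∈ S) (huM : u ∉ M) (hu : u * u = 1) :
    ∃ g : G, g * u * g⁻¹ ∈ M ∧ ∀ c ∈ S, c * u = u * c → g * c * g⁻¹ ∈ S := by
  classical
  haveI : Fact (Nat.Prime 2) := ⟨Nat.prime_two⟩
  letI : Fintype (G ⧸ M) := Fintype.ofFinite _
  set π : Equiv.Perm (G ⧸ M) := MulAction.toPerm u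
  have hsgn : Equiv.Perm.sign π = 1 := by
    by_contra hne
    let φ : G →* ℤˣ := Equiv.Perm.sign.comp (MulAction.toPermHom G (G ⧸ M))
    apply hno φ.ker inferInstance
    rw [Subgroup.index_ker, show φ.range = ⊤ from eq_top_iff.2 fun z _ => ?_, card_top,
      Nat.card_eq_fintype_card, Fintype.card_units_int]
    rcases Int.units_eq_one_or z with rfl | rfl
    · exact one_mem _
    · exact ⟨u, (Int.units_eq_one_or _).resolve_left hne⟩
  have hππ : π * π = 1 := by
    ext q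
    change u • u • q = q
    rw [smul_smul, hu, one_smul]
  -- the sign of an involution
  have hev : 4 ∣ π.support.card := by
    have h := Equiv.Perm.sign_of_cycleType π
    have hrep : ∀ n ∈ π.cycleType, n = 2 := by
      intro n hn
      have h2 := Equiv.Perm.two_le_of_mem_cycleType hn
      have hd : n ∣ 2 := (Equiv.Perm.dvd_of_mem_cycleType hn).trans
        (orderOf_dvd_of_pow_eq_one (by rw [sq, hππ]))
      exact le_antisymm (Nat.le_of_dvd two_pos hd) h2
    rw [Multiset.eq_replicate_card.2 hrep] at h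
    have hs : π.cycleType.sum = π.support.card := Equiv.Perm.sum_cycleType π
    rw [Multiset.eq_replicate_card.2 hrep, Multiset.sum_replicate, smul_eq_mul] at hs
    rw [hsgn, Multiset.sum_replicate, Multiset.card_replicate, smul_eq_mul] at h
    have hp : Even (Multiset.card π.cycleType * 2 + Multiset.card π.cycleType) :=
      (neg_one_pow_eq_one_iff_even (R := ℤˣ) (by decide)).1 h.symm
    have hc : Even (Multiset.card π.cycleType) := by
      simpa [Nat.even_add, parity_simps] using hp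
    obtain ⟨c, hc⟩ := hc
    exact ⟨c, by omega⟩
  have hMn : ∀ s ∈ S, ∀ m, m ∈ M → s * m * s⁻¹ ∈ M := by
    intro s hs m hm
    have : (M.subgroupOf S).Normal := Subgroup.normal_of_index_eq_two hM
    exact this.conj_mem ⟨m, hMS hm⟩ hm ⟨s, hs⟩
  let p : G ⧸ M → G ⧸ S := Quotient.map' id fun a b h => by
    rw [QuotientGroup.leftRel_apply] at h ⊢
    exact hMS h
  let good : G ⧸ S → Prop := fun q => ∀ g : G, (g : G ⧸ S) = q → g⁻¹ * u * g ∈ M
  have hgood : ∀ g : G, good (g : G ⧸ S) ↔ g⁻¹ * u * g ∈ M := by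
    refine fun g => ⟨fun h => h g rfl, fun h g' hg' => ?_⟩
    have hs : g'⁻¹ * g ∈ S := QuotientGroup.eq.1 hg'
    have := hMn _ hs _ h
    simpa [mul_assoc] using this
  have hfix : ∀ q : G ⧸ M, π q = q ↔ good (p q) := by
    intro q
    induction q using QuotientGroup.induction_on with
    | _ g =>
      change ((u * g : G) : G ⧸ M) = (g : G ⧸ M) ↔ good (g : G ⧸ S)
      rw [hgood, QuotientGroup.eq, mul_inv_rev, inv_eq_of_mul_eq_one_right hu]
  have hcard : Nat.card {q : G ⧸ M // π q = q} = Nat.card {q : G ⧸ S // good q} * 2 := by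
    rw [Nat.card_congr (Equiv.subtypeEquivRight hfix)]
    let e := Subgroup.quotientEquivProdOfLE hMS
    have he : ∀ q, (e q).1 = p q := fun q => rfl
    have e2 : {q : G ⧸ M // good (p q)} ≃ {q : G ⧸ S // good q} × (S ⧸ M.subgroupOf S) :=
      (e.subtypeEquiv (p := fun q => good (p q)) (q := fun z => good z.1)
        (fun q => by rw [← he])).trans
        (Equiv.prodSubtypeFstEquivSubtypeProd (p := good))
    rw [Nat.card_congr e2, Nat.card_prod]
    exact congrArg _ hM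
  have hG : Nat.card (G ⧸ M) = S.index * 2 := by
    rw [← hM, mul_comm, Subgroup.relIndex_mul_index hMS]
    rfl
  have hX : ¬2 ∣ Nat.card {q : G ⧸ S // good q} := by
    have hfx : Nat.card {q : G ⧸ M // π q = q} + π.support.card = Nat.card (G ⧸ M) := by
      rw [Nat.card_eq_fintype_card, Nat.card_eq_fintype_card, Fintype.card_subtype,
        ← Finset.card_compl_add_card π.support]
      congr 2
      ext q; simp
    rintro ⟨c, hc⟩
    obtain ⟨d, hd⟩ := hev
    rw [hcard, hG, hc, hd] at hfx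
    apply hSodd
    exact ⟨c + d, by omega⟩
  let K : Subgroup G := S ⊓ centralizer {u}
  have hK : IsPGroup 2 K := hS.to_le inf_le_left
  letI : MulAction K {q : G ⧸ S // good q} :=
    { smul := fun c q => ⟨(c : G) • q.1, by
        obtain ⟨g, hg⟩ := QuotientGroup.mk_surjective q.1
        have h := (hgood g).1 (hg ▸ q.2)
        rw [← hg, MulAction.Quotient.smul_mk, hgood]
        have hc : u * (c : G) = c * u := (mem_centralizer_singleton_iff.1 c.2.2).symm
        rwa [smul_eq_mul, mul_inv_rev, show g⁻¹ * (c : G)⁻¹ * u * ((c : G) * g) =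
          g⁻¹ * u * g by rw [mul_assoc (g⁻¹ * (c : G)⁻¹), ← mul_assoc u, hc]; group]⟩
      one_smul := fun q => Subtype.ext (one_smul G q.1)
      mul_smul := fun c d q => Subtype.ext (mul_smul (c : G) (d : G) q.1) }
  obtain ⟨q, hq⟩ := hK.nonempty_fixed_point_of_prime_not_dvd_card {q : G ⧸ S // good q} hX
  obtain ⟨x, hx⟩ := QuotientGroup.mk_surjective q.1
  refine ⟨x⁻¹, by rw [inv_inv]; exact (hgood x).1 (hx ▸ q.2), fun c hc hcu => ?_⟩
  have hcK : c ∈ K := ⟨hc, mem_centralizer_singleton_iff.2 hcu⟩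
  have h := congrArg Subtype.val (hq ⟨c⁻¹, inv_mem hcK⟩)
  change c⁻¹ • q.1 = q.1 at h
  rw [← hx, MulAction.Quotient.smul_mk, smul_eq_mul, QuotientGroup.eq] at h
  simpa [mul_assoc] using h

end Cfsg.Kondo67
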