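import Cfsg.Agent.Kondo67.Wreath
import Cfsg.Agent.Kondo67.Transfer
import Mathlib.Algebra.Field.ZMod

/-!
# Groups with an involution centraliser of type `Z₂ ≀ S_{2n}` (possibly with an odd kernel)
-/

set_option autoImplicit false

namespace Cfsg.Kondo67

open Subgroup Finset

variable {G : Type*} [Group G] {ι : Type} [Fintype ι] [DecidableEq ι]

omit [Fintype ι] in
theorem zmod_two (x : ZMod 2) : x = 0 ∨ x = 1 := by revert x; decide

/-- Basis vector. -/
def δ (a : ι) : ι → ZMod 2 := Pi.single a 1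

omit [Fintype ι] in
theorem δ_apply (a i : ι) : δ a i = if i = a then 1 else 0 := Pi.single_apply a 1 i

omit [Fintype ι] in
theorem δ_comp (π : Equiv.Perm ι) (a : ι) : δ a ∘ π.symm = δ (π a) := by
  ext i
  simp only [Function.comp_apply, δ_apply, Equiv.symm_apply_eq]

/-- The bilinear form. -/
def dot (f e : ι → ZMod 2) : ZMod 2 := ∑ i, f i * e i

omit [DecidableEq ι] in
theorem dot_add (f e e' : ι → ZMod 2) : dot f (e + e') = dot f e + dot f e' := by
  simp [dot, mul_add, Finset.sum_add_distrib]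

omit [DecidableEq ι] in
theorem add_dot (f f' e : ι → ZMod 2) : dot (f + f') e = dot f e + dot f' e := by
  simp [dot, add_mul, Finset.sum_add_distrib]

omit [DecidableEq ι] in
theorem dot_smul (f : ι → ZMod 2) (s : ZMod 2) (e : ι → ZMod 2) :
    dot f (s • e) = s * dot f e := by
  simp [dot, Finset.mul_sum, mul_left_comm]

omit [DecidableEq ι] in
theorem smul_dot (f : ι → ZMod 2) (s : ZMod 2) (e : ι → ZMod 2) :
    dot (s • f) e = s * dot f e := by
  simp [dot, Finset.mul_sum, mul_assoc]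

omit [DecidableEq ι] in
theorem dot_comm (f e : ι → ZMod 2) : dot f e = dot e f := by simp [dot, mul_comm]

theorem dot_δ (f : ι → ZMod 2) (a : ι) : dot f (δ a) = f a := by simp [dot, δ_apply]

theorem δ_dot (f : ι → ZMod 2) (a : ι) : dot (δ a) f = f a := by rw [dot_comm, dot_δ]

theorem vec_decomp (e : ι → ZMod 2) : e = ∑ i, e i • δ i := by
  ext j; simp [δ_apply]

theorem add_self (e : ι → ZMod 2) : e + e = 0 := by ext; simp [CharTwo.add_self_eq_zero]

/-- A group with a 2-central involution whose centraliser is `Z₂ ≀ S_{2n}` up to an odd kernel. -/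
structure Setup (G : Type*) [Group G] (ι : Type) [Fintype ι] [DecidableEq ι] where
  /-- The involution. -/
  t : G
  /-- A complement of the kernel. -/
  ρ : W ι →* G
  /-- The projection. -/
  q : ↥(centralizer ({t} : Set G)) →* W ι
  ρ_t : ρ (W.em fun _ => 1) = t
  ρ_mem : ∀ x, ρ x ∈ centralizer ({t} : Set G)
  q_ρ : ∀ x, q ⟨ρ x, ρ_mem x⟩ = x
  ker_odd : Odd (Nat.card q.ker)
  ker_odd_vec : ∀ z, q z = 1 → ∀ e : ι → ZMod 2, (∑ i, e i = 1) →
    (z : G) * ρ (W.em e) = ρ (W.em e) * z → z = 1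
  sylow : ¬2 ∣ (centralizer ({t} : Set G)).index
  card_even : 2 ∣ Fintype.card ι
  card_pos : 0 < Fintype.card ι
  no2 : ∀ H : Subgroup G, H.Normal → H.index ≠ 2

namespace Setup

variable (D : Setup G ι)

theorem ker_base (z : ↥(centralizer ({D.t} : Set G))) (hz : D.q z = 1)
    (h : ∀ e, (z : G) * D.ρ (W.em e) = D.ρ (W.em e) * z) : z = 1 := by
  obtain ⟨i⟩ : Nonempty ι := Fintype.card_pos_iff.1 D.card_pos
  exact D.ker_odd_vec z hz (δ i) (by simp [δ_apply]) (h _)

/-- The base group inside `G`. -/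
def E : Subgroup G := (W.base : Subgroup (W ι)).map D.ρ

/-- Its normaliser. -/
def N : Subgroup G := normalizer (D.E : Set G)

theorem ρ_injective : Function.Injective D.ρ := by
  intro x y h
  rw [← D.q_ρ x, ← D.q_ρ y]
  congr 1
  exact Subtype.ext h

theorem comm_t (x : W ι) : D.ρ x * D.t = D.t * D.ρ x :=
  mem_centralizer_singleton_iff.1 (D.ρ_mem x)

theorem mem_E {g : G} : g ∈ D.E ↔ ∃ e, D.ρ (W.em e) = g := by
  constructor
  · rintro ⟨x, hx, rfl⟩; exact ⟨x.vec, by rw [← W.eq_em hx]⟩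
  · rintro ⟨e, rfl⟩; exact mem_map_of_mem _ (W.em_mem_base e)

theorem em_mem_E (e : ι → ZMod 2) : D.ρ (W.em e) ∈ D.E := D.mem_E.2 ⟨e, rfl⟩

theorem t_mem_E : D.t ∈ D.E := by rw [← D.ρ_t]; exact D.em_mem_E _

theorem ρ_mem_N (x : W ι) : D.ρ x ∈ D.N := by
  have key : ∀ (y : W ι) (g : G), g ∈ D.E → D.ρ y * g * (D.ρ y)⁻¹ ∈ D.E := by
    intro y g hg
    obtain ⟨e, rfl⟩ := D.mem_E.1 hg
    rw [← map_mul, ← map_inv, ← map_mul, W.conj_em]
    exact D.em_mem_E _
  refine Subgroup.mem_normalizer_iff.2 fun g => ⟨key x g, fun h => ?_⟩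
  have := key x⁻¹ _ h
  simpa [mul_assoc] using this

theorem mem_cent {g : G} (h : g * D.t = D.t * g) : g ∈ centralizer ({D.t} : Set G) :=
  mem_centralizer_singleton_iff.2 h

/-- Elements of `C(t)` normalising the base lie in the complement. -/
theorem eq_ρ_of_normalises {g : G} (hg : g * D.t = D.t * g) (hN : g ∈ D.N) :
    g = D.ρ (D.q ⟨g, D.mem_cent hg⟩) := by
  set c : ↥(centralizer ({D.t} : Set G)) := ⟨g, D.mem_cent hg⟩
  set x := D.q c
  let z : ↥(centralizer ({D.t} : Set G)) := (⟨D.ρ x, D.ρ_mem x⟩)⁻¹ * c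
  have hz : D.q z = 1 := by simp [z, x, D.q_ρ]
  have hzN : (z : G) ∈ D.N := D.N.mul_mem (D.N.inv_mem (D.ρ_mem_N x)) hN
  have hz1 : z = 1 := by
    refine D.ker_base z hz fun e => ?_
    obtain ⟨e', he'⟩ := D.mem_E.1
      ((Subgroup.mem_normalizer_iff.1 hzN _).1 (D.em_mem_E e))
    have h := congrArg D.q (show (⟨D.ρ (W.em e'), D.ρ_mem _⟩ : ↥(centralizer ({D.t} : Set G))) =
      z * ⟨D.ρ (W.em e), D.ρ_mem _⟩ * z⁻¹ from Subtype.ext he')
    rw [map_mul, map_mul, map_inv, hz, D.q_ρ, D.q_ρ, inv_one, mul_one, one_mul] at h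
    rw [h] at he'
    exact (mul_inv_eq_iff_eq_mul.1 he'.symm)
  have := congrArg Subtype.val hz1
  simp only [z, Subgroup.coe_mul, Subgroup.coe_inv, OneMemClass.coe_one] at this
  exact (inv_mul_eq_one.1 this).symm

theorem exists_ρ {g : G} (hg : g * D.t = D.t * g) (hN : g ∈ D.N) : ∃ x, g = D.ρ x :=
  ⟨_, D.eq_ρ_of_normalises hg hN⟩

/-- The base is self-centralising. -/
theorem cent_E {g : G} (h : ∀ e, g * D.ρ (W.em e) = D.ρ (W.em e) * g) : g ∈ D.E := by
  have ht : g * D.t = D.t * g := by rw [← D.ρ_t]; exact h _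
  have hN : g ∈ D.N := by
    refine Subgroup.mem_normalizer_iff.2 fun y => ⟨fun hy => ?_, fun hy => ?_⟩
    · obtain ⟨e, rfl⟩ := D.mem_E.1 hy
      rwa [h e, mul_inv_cancel_right]
    · obtain ⟨e, he⟩ := D.mem_E.1 hy
      have h' := h e
      have : y = D.ρ (W.em e) := by
        rw [he] at h'
        have h2 : g * (g * y * g⁻¹) = g * y := by rw [h']; group
        rw [← mul_left_cancel h2, ← he]
      rw [this]; exact D.em_mem_E e
  obtain ⟨x, rfl⟩ := D.exists_ρ ht hN
  have hx : x.perm = 1 := Equiv.ext fun a => by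
    have h2 := D.ρ_injective (by rw [map_mul, map_mul]; exact h (δ a) :
      D.ρ (x * W.em (δ a)) = D.ρ (W.em (δ a) * x))
    have h3 : W.em (δ a ∘ x.perm.symm) = W.em (δ a) := by
      rw [← W.conj_em, h2, mul_inv_cancel_right]
    rw [δ_comp] at h3
    have h4 := congrFun (W.em_injective h3) (x.perm a)
    simp only [δ_apply] at h4
    by_contra hne
    simp only [Equiv.Perm.one_apply] at hne
    rw [if_neg hne] at h4
    simp at h4
  rw [W.eq_em hx]
  exact D.em_mem_E _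

open Classical in
/-- The action of an element on the base. -/
noncomputable def act (g : G) (e : ι → ZMod 2) : ι → ZMod 2 :=
  if h : ∃ v, D.ρ (W.em v) = g * D.ρ (W.em e) * g⁻¹ then h.choose else 0

theorem act_spec {g : G} (hg : g ∈ D.N) (e : ι → ZMod 2) :
    g * D.ρ (W.em e) * g⁻¹ = D.ρ (W.em (D.act g e)) := by
  have h : ∃ v, D.ρ (W.em v) = g * D.ρ (W.em e) * g⁻¹ :=
    D.mem_E.1 ((Subgroup.mem_normalizer_iff.1 hg _).1 (D.em_mem_E e))
  rw [act, dif_pos h]
  exact h.choose_spec.symm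

theorem act_eq {g : G} (hg : g ∈ D.N) {e v : ι → ZMod 2}
    (h : g * D.ρ (W.em e) * g⁻¹ = D.ρ (W.em v)) : D.act g e = v :=
  W.em_injective (D.ρ_injective ((D.act_spec hg e).symm.trans h))

theorem act_ρ (x : W ι) (e : ι → ZMod 2) : D.act (D.ρ x) e = e ∘ x.perm.symm :=
  D.act_eq (D.ρ_mem_N x) (by rw [← map_mul, ← map_inv, ← map_mul, W.conj_em])

theorem act_one (e : ι → ZMod 2) : D.act 1 e = e := D.act_eq (one_mem _) (by group)

theorem act_mul {g h : G} (hg : g ∈ D.N) (hh : h ∈ D.N) (e : ι → ZMod 2) :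
    D.act (g * h) e = D.act g (D.act h e) :=
  D.act_eq (mul_mem hg hh) (by rw [← D.act_spec hg, ← D.act_spec hh]; group)

theorem act_inv_act {g : G} (hg : g ∈ D.N) (e : ι → ZMod 2) : D.act g⁻¹ (D.act g e) = e := by
  rw [← D.act_mul (inv_mem hg) hg, inv_mul_cancel, act_one]

theorem act_act_inv {g : G} (hg : g ∈ D.N) (e : ι → ZMod 2) : D.act g (D.act g⁻¹ e) = e := by
  rw [← D.act_mul hg (inv_mem hg), mul_inv_cancel, act_one]

theorem act_add {g : G} (hg : g ∈ D.N) (e e' : ι → ZMod 2) :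
    D.act g (e + e') = D.act g e + D.act g e' :=
  D.act_eq hg (by rw [W.em_add, W.em_add, map_mul, map_mul, ← D.act_spec hg, ← D.act_spec hg]; group)

theorem act_zero {g : G} (hg : g ∈ D.N) : D.act g 0 = 0 :=
  D.act_eq hg (by rw [W.em_zero, map_one]; group)

theorem act_smul {g : G} (hg : g ∈ D.N) (s : ZMod 2) (e : ι → ZMod 2) :
    D.act g (s • e) = s • D.act g e := by
  rcases zmod_two s with rfl | rfl
  · have h0 : ∀ v : ι → ZMod 2, (0 : ZMod 2) • v = 0 := fun v => funext fun i => zero_mul _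
    rw [h0, h0, D.act_zero hg]
  · have h1 : ∀ v : ι → ZMod 2, (1 : ZMod 2) • v = v := fun v => funext fun i => one_mul _
    rw [h1, h1]

theorem act_sum {g : G} (hg : g ∈ D.N) {α : Type} (s : Finset α) (v : α → ι → ZMod 2) :
    D.act g (∑ i ∈ s, v i) = ∑ i ∈ s, D.act g (v i) := by
  classical
  induction s using Finset.induction_on with
  | empty => simp [D.act_zero hg]
  | insert a s ha ih => rw [Finset.sum_insert ha, Finset.sum_insert ha, D.act_add hg, ih]

theorem commutes_t_iff {g : G} (hg : g ∈ D.N) :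
    g * D.t = D.t * g ↔ D.act g (fun _ => 1) = fun _ => 1 := by
  rw [← mul_inv_eq_iff_eq_mul]
  constructor
  · intro h
    exact D.act_eq hg (by rw [D.ρ_t, h])
  · intro h
    have := D.act_spec hg fun _ => 1
    rwa [h, D.ρ_t] at this

/-- A Sylow 2-subgroup contained in the complement. -/
theorem exists_S [Finite G] : ∃ T : Subgroup (W ι), IsPGroup 2 T ∧ W.base ≤ T ∧
    IsPGroup 2 ↥(T.map D.ρ) ∧ ¬2 ∣ (T.map D.ρ).index := by
  haveI : Fact (Nat.Prime 2) := ⟨Nat.prime_two⟩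
  haveI : Finite (W ι) := W.finite
  have hb : IsPGroup 2 ↥(W.base : Subgroup (W ι)) := IsPGroup.of_card W.card_base
  obtain ⟨T, hT⟩ := hb.exists_le_sylow
  refine ⟨T, T.2, hT, T.2.map _, ?_⟩
  have hq : Function.Surjective D.q := fun x => ⟨_, D.q_ρ x⟩
  have hC : Nat.card ↥(centralizer ({D.t} : Set G)) = Nat.card (W ι) * Nat.card D.q.ker := by
    rw [Subgroup.card_eq_card_quotient_mul_card_subgroup D.q.ker,
      Nat.card_congr (QuotientGroup.quotientKerEquivOfSurjective D.q hq).toEquiv]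
  have h1 := Subgroup.index_mul_card ((T : Subgroup (W ι)).map D.ρ)
  rw [← Subgroup.index_mul_card (centralizer ({D.t} : Set G)), hC,
    ← Subgroup.index_mul_card (T : Subgroup (W ι)),
    Subgroup.card_map_of_injective D.ρ_injective] at h1
  have hpos : 0 < Nat.card ↥(T : Subgroup (W ι)) := Nat.card_pos
  have : ((T : Subgroup (W ι)).map D.ρ).index =
      (centralizer ({D.t} : Set G)).index * ((T : Subgroup (W ι)).index * Nat.card D.q.ker) :=
    Nat.eq_of_mul_eq_mul_right hpos (by rw [h1]; ring)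
  rw [this]
  intro h
  rcases (Nat.prime_two.dvd_mul).1 h with h | h
  · exact D.sylow h
  rcases (Nat.prime_two.dvd_mul).1 h with h | h
  · exact T.not_dvd_index h
  · exact (Nat.not_even_iff_odd.2 D.ker_odd) (even_iff_two_dvd.2 h)

theorem range_le_N : D.ρ.range ≤ D.N := by
  rintro _ ⟨x, rfl⟩; exact D.ρ_mem_N x

/-- An element of order dividing four of `N` can be moved into `C(t)`. -/
theorem exists_conj_commute [Finite G] {g : G} (hg : g ∈ D.N)
    (h2 : ∀ e, D.act g (D.act g e) = e) :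
    ∃ h ∈ D.N, (h * g * h⁻¹) * D.t = D.t * (h * g * h⁻¹) := by
  have hgg : g * g ∈ D.E := D.cent_E fun e => by
    have := D.act_spec (mul_mem hg hg) e
    rw [D.act_mul hg hg, h2] at this
    exact mul_inv_eq_iff_eq_mul.1 this
  obtain ⟨v, hv⟩ := D.mem_E.1 hgg
  have h4 : g ^ 4 = 1 := by
    rw [show (4 : ℕ) = 2 * 2 from rfl, pow_mul, sq, sq, ← hv, ← map_mul, ← W.em_add, add_self,
      W.em_zero, map_one]
  have hQ : IsPGroup 2 ↥(zpowers g) := by
    rintro ⟨x, k, rfl⟩
    refine ⟨2, Subtype.ext ?_⟩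
    show (g ^ k) ^ 2 ^ 2 = 1
    rw [← zpow_natCast, ← zpow_mul, mul_comm, zpow_mul, zpow_natCast]
    norm_num [h4]
  obtain ⟨T, -, -, -, hodd⟩ := D.exists_S
  have hTN : T.map D.ρ ≤ D.N := (map_le_range _ _).trans D.range_le_N
  obtain ⟨h, hh, hconj⟩ := exists_conj_le ((zpowers_le).2 hg) hTN hQ
    fun h => hodd (h.trans (Dvd.intro _ (Subgroup.relIndex_mul_index hTN)))
  obtain ⟨x, -, hx⟩ := hconj g (mem_zpowers g)
  exact ⟨h, hh, hx ▸ D.comm_t x⟩

/-- Weak closure of the base. -/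
def WeaklyClosed : Prop := ∀ g : G, (∀ e, g * D.ρ (W.em e) * g⁻¹ ∈ D.ρ.range) → g ∈ D.N

theorem le_N_of_two_group [Finite G] (hwc : D.WeaklyClosed) {R : Subgroup G}
    (hR : IsPGroup 2 R) (hE : D.E ≤ R) : R ≤ D.N := by
  obtain ⟨T, -, -, -, hodd⟩ := D.exists_S
  obtain ⟨k, -, hk⟩ := exists_conj_le (le_top : R ≤ ⊤) le_top hR
    (by rwa [Subgroup.relIndex_top_right] : ¬2 ∣ (T.map D.ρ).relIndex ⊤)
  have hkN : k ∈ D.N := hwc k fun e =>
    map_le_range _ _ (hk _ (hE (D.em_mem_E e)))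
  intro r hr
  have h := D.range_le_N (map_le_range _ _ (hk r hr))
  have := D.N.mul_mem (D.N.mul_mem (D.N.inv_mem hkN) h) hkN
  simpa [mul_assoc] using this

/-- Twisting by an automorphism stabilising the base. -/
def twist (θ : W ι ≃* W ι) (hθ : ∀ e, (θ (W.em e)).perm = 1)
    (hθt : θ (W.em fun _ => 1) = W.em fun _ => 1)
    (hθs : ∀ e, ∑ i, (θ (W.em e)).vec i = ∑ i, e i) : Setup G ι where
  t := D.t
  ρ := D.ρ.comp θ.toMonoidHom
  q := θ.symm.toMonoidHom.comp D.q
  ρ_t := by simp [hθt, D.ρ_t]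
  ρ_mem x := D.ρ_mem _
  q_ρ x := by simp [D.q_ρ]
  ker_odd := by
    have : (θ.symm.toMonoidHom.comp D.q).ker = D.q.ker := by
      ext z; simp [MonoidHom.mem_ker]
    rw [this]; exact D.ker_odd
  ker_odd_vec z hz e he h := by
    have hz' : D.q z = 1 := by simpa using hz
    refine D.ker_odd_vec z hz' ((θ (W.em e)).vec) (by rw [hθs, he]) ?_
    simp only [MonoidHom.comp_apply, MulEquiv.coe_toMonoidHom] at h
    rwa [W.eq_em (hθ e)] at h
  sylow := D.sylow
  card_even := D.card_even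
  card_pos := D.card_pos
  no2 := D.no2

end Setup

end Cfsg.Kondo67
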