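import Cfsg.Agent.Kondo67.Flip

/-!
# The flip at a pair
-/

set_option autoImplicit false

namespace Cfsg.Kondo67

open Subgroup Finset Equiv

variable {G : Type*} [Group G] {ι : Type} [Fintype ι] [DecidableEq ι]

namespace W

theorem pm_inv (σ : Perm ι) : (pm σ)⁻¹ = pm σ⁻¹ :=
  inv_eq_of_mul_eq_one_right (by rw [← pm_mul, mul_inv_cancel]; rfl)

/-- Decomposition of an element of `tw τ`. -/
theorem tw_decomp (π : Pair ι) {z : W ι} (hz : z ∈ tw π.τ π.τ_sq) :
    ∃ i j : ZMod 2, ∃ u : ι → ZMod 2, u π.a = 0 ∧ u π.b = 0 ∧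
      z = em (i • tp π.a π.b + u) * pm (if j = 1 then π.τ else 1) := by
  classical
  have hout : ∀ c, c ≠ π.a → c ≠ π.b → z.perm c = c := fun c ha hb => by
    rcases hz.2 c with h | h
    · exact h
    · rwa [π.τ_fix ha hb] at h
  refine ⟨z.vec π.a, if z.perm π.a = π.a then 0 else 1,
    fun c => if c = π.a ∨ c = π.b then 0 else z.vec c, by simp, by simp, ?_⟩
  ext i
  · rcases eq_or_ne i π.a with rfl | hia
    · simp [π.tp_apply_a]
    rcases eq_or_ne i π.b with rfl | hib
    · have h := hz.1 π.a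
      simp [Pair.τ] at h
      simp [π.tp_apply_b, h]
    · simp [π.tp_apply hia hib, hia, hib]
  · by_cases hp : z.perm π.a = π.a
    · have : z.perm i = i := by
        rcases eq_or_ne i π.a with rfl | hia
        · exact hp
        rcases eq_or_ne i π.b with rfl | hib
        · rcases hz.2 π.b with h | h
          · exact h
          · simp [Pair.τ] at h
            exact absurd (z.perm.injective (h.trans hp.symm)).symm π.hab
        · exact hout i hia hib
      simp [hp, this]
    · have ha : z.perm π.a = π.b := by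
        have := (hz.2 π.a).resolve_left hp
        simpa [Pair.τ] using this
      have : z.perm i = π.τ i := by
        rcases eq_or_ne i π.a with rfl | hia
        · rw [ha]; simp [Pair.τ]
        rcases eq_or_ne i π.b with rfl | hib
        · rcases hz.2 π.b with h | h
          · exact absurd (z.perm.injective (ha.trans h.symm)) π.hab
          · exact h
        · rw [hout i hia hib, π.τ_fix hia hib]
      simp [hp, this]

end W

namespace Setup

variable (D : Setup G ι) (π : Pair ι)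

/-- An element fixing all basis vectors off the pair fixes their combinations. -/
theorem cn_fix_rest {g : G}
    (h : ∀ p, p ≠ π.a → p ≠ π.b → cn g (D.ρ (W.em (δ p))) = D.ρ (W.em (δ p)))
    {u : ι → ZMod 2} (ha : u π.a = 0) (hb : u π.b = 0) :
    cn g (D.ρ (W.em u)) = D.ρ (W.em u) := by
  classical
  rw [vec_decomp u]
  induction (Finset.univ : Finset ι) using Finset.induction_on with
  | empty => simp [W.em_zero, cn_one]
  | insert c s hcs ih =>
    rw [Finset.sum_insert hcs, W.em_add, map_mul, cn_map_mul, ih]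
    congr 1
    rcases zmod_two (u c) with h0 | h0
    · rw [h0, z_smul, W.em_zero, map_one, cn_one]
    · rw [h0, o_smul]
      exact h c (fun e => one_ne_zero (h0.symm.trans (e ▸ ha)))
        (fun e => one_ne_zero (h0.symm.trans (e ▸ hb)))

/-- An element fixing generators fixes `tw τ`. -/
theorem cn_fix_tw {g : G} {i0 : ZMod 2} (hd : cn g (D.dd π) = D.dd π)
    (hc : cn g (D.ρ (W.em (i0 • tp π.a π.b) * W.pm π.τ)) =
      D.ρ (W.em (i0 • tp π.a π.b) * W.pm π.τ))
    (h : ∀ p, p ≠ π.a → p ≠ π.b → cn g (D.ρ (W.em (δ p))) = D.ρ (W.em (δ p)))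
    {z : W ι} (hz : z ∈ W.tw π.τ π.τ_sq) : cn g (D.ρ z) = D.ρ z := by
  have hd' : ∀ i : ZMod 2, cn g (D.ρ (W.em (i • tp π.a π.b))) = D.ρ (W.em (i • tp π.a π.b)) := by
    intro i
    rcases zmod_two i with rfl | rfl
    · rw [z_smul, W.em_zero, map_one, cn_one]
    · rw [o_smul]; exact hd
  obtain ⟨i, j, u, ha, hb, rfl⟩ := W.tw_decomp π hz
  rw [W.em_add, map_mul, map_mul, cn_map_mul, cn_map_mul, hd', D.cn_fix_rest π h ha hb]
  congr 1
  split
  · rw [map_mul, cn_map_mul, hd'] at hc
    exact mul_left_cancel hc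
  · rw [show W.pm (1 : Perm ι) = 1 from rfl, map_one, cn_one]

/-- `tw τ` is self-centralising. -/
theorem cent_B {g : G} {p : ι} (hpa : p ≠ π.a) (hpb : p ≠ π.b)
    (h : ∀ z ∈ W.tw π.τ π.τ_sq, cn g (D.ρ z) = D.ρ z) :
    ∃ z ∈ W.tw π.τ π.τ_sq, g = D.ρ z := by
  have ht : g * D.t = D.t * g := by
    rw [← D.ρ_t]; exact cn_eq_iff.1 (h _ (W.em_mem_tw.2 fun _ => rfl))
  set c : ↥(centralizer ({D.t} : Set G)) := ⟨g, D.mem_cent ht⟩
  have hcomm : ∀ z ∈ W.tw π.τ π.τ_sq, D.q c * z = z * D.q c := fun z hz =>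
    mul_inv_eq_iff_eq_mul.1 (D.q_conj ht (h z hz))
  have hδ : ∀ q, q ≠ π.a → q ≠ π.b → W.em (δ q) ∈ W.tw π.τ π.τ_sq := fun q ha hb =>
    W.em_mem_tw.2 fun i => by
      have : π.τ i = q ↔ i = q :=
        ⟨fun e => π.τ.injective (e.trans (π.τ_fix ha hb).symm), fun e => by rw [e, π.τ_fix ha hb]⟩
      simp [δ_apply, this]
  have hfix : ∀ q, q ≠ π.a → q ≠ π.b → (D.q c).perm q = q := by
    intro q ha hb
    have h1 := hcomm _ (hδ q ha hb)
    rw [← mul_inv_eq_iff_eq_mul, W.conj_em, δ_comp] at h1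
    have h2 := congrFun (W.em_injective h1) q
    simp only [δ_apply] at h2
    by_contra hne
    rw [if_neg (Ne.symm hne)] at h2
    simp at h2
  have hbig := π.mem_big_of_commute (x1 := W.pm π.τ) rfl rfl (hcomm _ (W.pm_mem_tw _ π.τ_sq))
  have hq : D.q c ∈ W.tw π.τ π.τ_sq := by
    have hpr := π.cent_preserves hbig.1
    refine ⟨fun i => ?_, fun i => ?_⟩
    · rcases eq_or_ne i π.a with rfl | hia
      · simp [Pair.τ, hbig.2]
      rcases eq_or_ne i π.b with rfl | hib
      · simp [Pair.τ, hbig.2]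
      · rw [π.τ_fix hia hib]
    · rcases eq_or_ne i π.a with rfl | hia
      · rcases hpr with e | e
        · exact Or.inl e.1
        · exact Or.inr (by simp [Pair.τ, e.1])
      rcases eq_or_ne i π.b with rfl | hib
      · rcases hpr with e | e
        · exact Or.inl e.2
        · exact Or.inr (by simp [Pair.τ, e.2])
      · exact Or.inl (hfix i hia hib)
  refine ⟨_, hq, ?_⟩
  let k : ↥(centralizer ({D.t} : Set G)) := (⟨D.ρ (D.q c), D.ρ_mem _⟩)⁻¹ * c
  have hk : D.q k = 1 := by simp [k, D.q_ρ]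
  have hk1 : k = 1 := by
    refine D.ker_odd_vec k hk (δ p) (by simp [δ_apply]) (cn_eq_iff.1 ?_)
    show cn ((D.ρ (D.q c))⁻¹ * g) (D.ρ (W.em (δ p))) = _
    rw [cn_mul, h _ (hδ p hpa hpb)]
    refine cn_inv_eq (cn_eq_iff.2 ?_)
    rw [← map_mul, ← map_mul, hcomm _ (hδ p hpa hpb)]
  have := congrArg Subtype.val hk1
  simp only [k, Subgroup.coe_mul, Subgroup.coe_inv, OneMemClass.coe_one] at this
  exact (inv_mul_eq_one.1 this).symm

/-- The flip, when there are further points. -/
theorem flip_rest [Finite G] (hN : D.Normal2) {p0 : ι} (hp0a : p0 ≠ π.a) (hp0b : p0 ≠ π.b) :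
    ∃ (F : G) (c : W ι), c.perm = π.τ ∧ c.vec π.a = c.vec π.b ∧
      (∀ i, i ≠ π.a → i ≠ π.b → c.vec i = 0) ∧ cn F (D.dd π) = D.ρ c ∧
      ∀ x : W ι, x.perm π.a = π.a → x.perm π.b = π.b → x.vec π.a = 0 → x.vec π.b = 0 →
        cn F (D.ρ x) = D.ρ x := by
  classical
  obtain ⟨hN1, hLift⟩ := hN
  obtain ⟨f, hfC, hfI, c1, c', hc1, hc'cw, hc1c, hc1p, hc'p, hfd, hfd'⟩ :=
    D.exists_cycle π hN1
  have hdcw : W.em (tp π.a π.b) ∈ π.cw :=
    π.em_mem_cw (π.tp_apply_a.trans π.tp_apply_b.symm)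
  obtain ⟨hc1tw, hc1inv⟩ := π.centre_cw hc1 hc1c
  have hc'tw : c' ∈ W.tw π.τ π.τ_sq := by
    have hcc : ∀ y ∈ π.cw, c' * y = y * c' := by
      have h := D.img_centre π (g := f⁻¹) (cj_inv_eq hfC) hdcw fun y hy => π.tp_commute hy
      have e : D.img f⁻¹ (W.em (tp π.a π.b)) = c' := D.ρ_injective (by
        rw [(D.img_spec π (cj_inv_eq hfC) hdcw).1, inv_inv]; exact hfd')
      rwa [e] at h
    exact (π.centre_cw hc'cw hcc).1
  have hfA := D.cycle_normalises π hN1 hfC hfI hc'tw hfd'
  set d := D.dd π with hd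
  set c := D.ρ c1 with hc
  set e1 := f * D.ee π * f⁻¹ with he1
  have he1i : e1 * e1 = 1 := by
    calc e1 * e1 = f * (D.ee π * D.ee π) * f⁻¹ := by rw [he1]; group
      _ = 1 := by rw [D.ee_mul_self]; group
  -- the action of `e1` on `tw τ`
  have he1tw : ∀ z ∈ W.tw π.τ π.τ_sq, cn e1 (D.ρ z) = D.ρ z ∨ cn e1 (D.ρ z) = c * D.ρ z := by
    intro z hz
    obtain ⟨y, hy, hy'⟩ : f⁻¹ * D.ρ z * f ∈ D.B π.τ π.τ_sq :=
      mem_cj.1 (hfA.symm ▸ D.ρ_mem_B.2 hz)
    have hz' : D.ρ z = f * D.ρ y * f⁻¹ := by rw [hy']; group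
    have h0 : cn e1 (D.ρ z) = f * (D.ee π * D.ρ y * (D.ee π)⁻¹) * f⁻¹ := by
      rw [hz', he1, cn]; group
    rcases hy.2 π.a with h | h
    · left; rw [h0, D.ee_conj_fix π h, ← hz']
    · right
      rw [h0, D.ee_conj_move π (by rw [h]; simp [Pair.τ]), hz', ← hfd, ← hd]
      group
  have he1v : ∀ v, π.Inv v → cn e1 (D.ρ (W.em v)) = D.ρ (W.em v) := by
    intro v hv
    have h1 : f⁻¹ * D.ρ (W.em v) * f = D.ρ (W.em v) := by
      have := cn_inv_eq (show cn f (D.ρ (W.em v)) = D.ρ (W.em v) from hfI v hv)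
      simpa [cn] using this
    calc cn e1 (D.ρ (W.em v)) = f * (D.ee π * (f⁻¹ * D.ρ (W.em v) * f) * (D.ee π)⁻¹) * f⁻¹ := by
          rw [he1, cn]; group
      _ = _ := by rw [h1, D.ee_conj_fix π (x := W.em v) rfl]; exact hfI v hv
  have he1d : cn e1 d = c * d := by
    calc cn e1 d = f * (D.ee π * (f⁻¹ * d * f) * (D.ee π)⁻¹) * f⁻¹ := by rw [he1, cn]; group
      _ = f * (D.dd π * D.ρ c') * f⁻¹ := by
        rw [hd, hfd', D.ee_conj_move π (by rw [hc'p]; simp [Pair.τ])]
      _ = _ := by rw [← hfd', ← hfd, hd]; group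
  have he1c : cn e1 c = c := by
    calc cn e1 c = f * (D.ee π * d * (D.ee π)⁻¹) * f⁻¹ := by rw [← hfd, he1, cn]; group
      _ = _ := by rw [hd, dd, D.ee_conj_fix π (x := W.em _) rfl]; exact hfd
  have hδtw : ∀ q, q ≠ π.a → q ≠ π.b → W.em (δ q) ∈ W.tw π.τ π.τ_sq := fun q ha hb =>
    W.em_mem_tw.2 fun i => by
      have : π.τ i = q ↔ i = q :=
        ⟨fun e => π.τ.injective (e.trans (π.τ_fix ha hb).symm), fun e => by rw [e, π.τ_fix ha hb]⟩
      simp [δ_apply, this]
  have hc2 : c * c = 1 := by rw [hc, ← map_mul, W.tw_mul_self hc1tw, map_one]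
  have htwcomm : ∀ x ∈ W.tw π.τ π.τ_sq, ∀ y ∈ W.tw π.τ π.τ_sq,
      D.ρ x * D.ρ y = D.ρ y * D.ρ x := fun x hx y hy => by
    rw [← map_mul, ← map_mul, (W.isEA_tw π.τ π.τ_sq).comm x hx y hy]
  have hdtw : W.em (tp π.a π.b) ∈ W.tw π.τ π.τ_sq := (π.centre_cw hdcw fun y hy =>
    π.tp_commute hy).1
  have hdc : d * c = c * d := by rw [hd, hc, dd]; exact htwcomm _ hdtw _ hc1tw
  -- `e1` fixes the basis vectors off the pair
  have he1p : ∀ p, p ≠ π.a → p ≠ π.b → cn e1 (D.ρ (W.em (δ p))) = D.ρ (W.em (δ p)) := by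
    intro p hpa hpb
    by_contra hmove
    have hmv := (he1tw _ (hδtw p hpa hpb)).resolve_left hmove
    obtain ⟨g, hg, hact, hgτ⟩ := hLift π.a π.b p π.hab (Ne.symm hpa) (Ne.symm hpb)
    have hgd : cn g d = d := by
      rw [hd, dd, cn, D.act_spec hg, hact, show ∑ i, tp π.a π.b i = 0 by
        rw [← dot_one]; exact tp_one _ _, π.tp_apply hpa hpb, add_zero, z_smul, add_zero]
    have hgt : cn g D.t = D.ρ (W.em ((fun _ => 1) + δ p)) := by
      rw [← D.ρ_t, cn, D.act_spec hg, hact]
      obtain ⟨k, hk⟩ := D.card_even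
      simp [hk, show (2 : ZMod 2) = 0 from rfl]
    have htp : D.ρ (W.em ((fun _ => 1) + δ p)) =
        d * D.ρ (W.em π.rest) * D.ρ (W.em (δ p)) := by
      rw [hd, dd, ← map_mul, ← map_mul, ← W.em_add, ← W.em_add]
      congr 2
      rw [Pair.rest, add_comm (fun _ => (1 : ZMod 2)) (tp π.a π.b), ← add_assoc, add_self,
        zero_add]
    have hrtw : W.em π.rest ∈ W.tw π.τ π.τ_sq :=
      W.em_mem_tw.2 fun i => π.rest_inv.apply π π.τ_mem i
    set X := g⁻¹ * e1 * g
    have hXt : X * D.t = D.t * X := by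
      refine cn_eq_iff.1 ?_
      rw [cn_mul, cn_mul, hgt]
      have : cn e1 (D.ρ (W.em ((fun _ => 1) + δ p))) = D.ρ (W.em ((fun _ => 1) + δ p)) := by
        rw [htp, cn_map_mul, cn_map_mul, he1d, he1v _ π.rest_inv, hmv]
        have h1 : D.ρ (W.em π.rest) * c = c * D.ρ (W.em π.rest) := by
          rw [hc]; exact htwcomm _ hrtw _ hc1tw
        calc c * d * D.ρ (W.em π.rest) * (c * D.ρ (W.em (δ p)))
            = c * d * (D.ρ (W.em π.rest) * c) * D.ρ (W.em (δ p)) := by group
          _ = c * (d * c) * D.ρ (W.em π.rest) * D.ρ (W.em (δ p)) := by rw [h1]; group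
          _ = _ := by rw [hdc, ← mul_assoc c c, hc2, one_mul]
      rw [this]
      exact cn_inv_eq hgt
    have hginv : cn g⁻¹ d = d := cn_inv_eq hgd
    have hgc : cn g⁻¹ c = D.ρ (W.em (D.act g⁻¹ c1.vec) * W.pm π.τ) := by
      rw [hc, W.eq_em_mul_pm c1, hc1p, map_mul, map_mul, cn_map_mul]
      congr 1
      · rw [cn, D.act_spec (inv_mem hg)]
        simp
      · exact cn_inv_eq hgτ
    have hXd : cn X d = D.ρ ((W.em (D.act g⁻¹ c1.vec) * W.pm π.τ) * W.em (tp π.a π.b)) := by
      rw [cn_mul, cn_mul, hgd, he1d, cn_map_mul, hginv, hgc, map_mul D.ρ _ (W.em (tp π.a π.b))]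
      rfl
    have h := D.range_eq_conj hXt (x := W.em (tp π.a π.b)) rfl hXd
    simp only [W.mul_perm, W.em_perm, W.pm_perm, one_mul, mul_one] at h
    exact π.τ_ne_one h
  have hδcomm : ∀ q, q ≠ π.a → q ≠ π.b → D.ρ (W.em (δ q)) * c = c * D.ρ (W.em (δ q)) :=
    fun q ha hb => by rw [hc]; exact htwcomm _ (hδtw q ha hb) _ hc1tw
  have no_move : ∀ v : ι → ZMod 2, w (tp π.a π.b + v) ≠ 2 → ∀ g : G,
      cn g d ≠ d * D.ρ (W.em v) := by
    intro v hv g hg
    obtain ⟨k, hk, hk'⟩ := D.exists_N_conj (g := g) (e := tp π.a π.b)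
      (e' := tp π.a π.b + v) (by
        rw [W.em_add, map_mul, ← cn]
        exact hg)
    apply hv
    rw [← hk', D.w_act hN1 hk, w, wt_tp π.hab]
  -- the vector of `c1` vanishes off the pair
  have hc1v : ∀ i, i ≠ π.a → i ≠ π.b → c1.vec i = 0 := by
    by_contra hno
    push Not at hno
    obtain ⟨i0, hi0a, hi0b, hi0⟩ := hno
    have hall : ∀ i j, i ≠ π.a → i ≠ π.b → j ≠ π.a → j ≠ π.b → i ≠ j →
        c1.vec i = c1.vec j := by
      intro i j hia hib hja hjb hij
      by_contra hne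
      set σ := Equiv.swap i j with hσ
      set s := D.ρ (W.pm σ) with hs
      have hs2 : s * s = 1 := by
        rw [hs, ← map_mul, ← W.pm_mul, hσ, Equiv.swap_mul_self,
          show W.pm (1 : Perm ι) = 1 from rfl, map_one]
      have hsd : cn s d = d := by
        rw [hd, dd, hs, cn, ← map_inv, ← map_mul, ← map_mul, W.conj_em, W.pm_perm, hσ, tp]
        congr 2
        rw [show (δ π.a + δ π.b) ∘ (Equiv.swap i j).symm =
          δ π.a ∘ (Equiv.swap i j).symm + δ π.b ∘ (Equiv.swap i j).symm from rfl, δ_comp, δ_comp,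
          Equiv.swap_apply_of_ne_of_ne hia.symm hja.symm,
          Equiv.swap_apply_of_ne_of_ne hib.symm hjb.symm]
      have hsc : cn s c = c * D.ρ (W.em (tp i j)) := by
        rw [hc, hs, cn, ← map_inv, ← map_mul, ← map_mul, ← map_mul]
        congr 1
        have hsum : c1.vec i + c1.vec j = 1 := by
          rcases zmod_two (c1.vec i) with h | h <;> rcases zmod_two (c1.vec j) with h' | h' <;>
            simp_all
        ext k
        · simp only [W.mul_vec, W.pm_vec, W.inv_vec, W.em_vec, W.pm_perm, Pi.add_apply,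
            Function.comp_apply, Pi.zero_apply, zero_add, add_zero, hc1p]
          have h1 := congrFun (comp_swap c1.vec i j) k
          simp only [Function.comp_apply, Pi.add_apply, Pi.smul_apply, smul_eq_mul, tp_dot, hsum,
            one_mul] at h1
          rw [hσ, Equiv.symm_swap, h1]
          congr 1
          rcases eq_or_ne k π.a with rfl | hka
          · simp [Pair.τ, tp, δ_apply, hia.symm, hja.symm, hib.symm, hjb.symm]
          rcases eq_or_ne k π.b with rfl | hkb
          · simp [Pair.τ, tp, δ_apply, hia.symm, hja.symm, hib.symm, hjb.symm]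
          · rw [show π.τ.symm k = k by
              rw [Equiv.symm_apply_eq, π.τ_fix hka hkb]]
        · simp only [W.mul_perm, W.inv_perm, W.pm_perm, W.em_perm, mul_one, hc1p]
          have : σ * π.τ * σ⁻¹ = π.τ := by
            rw [Pair.τ, ← Equiv.swap_apply_apply, hσ,
              Equiv.swap_apply_of_ne_of_ne hia.symm hja.symm,
              Equiv.swap_apply_of_ne_of_ne hib.symm hjb.symm]
          rw [this]
      have hY : cn (e1 * s * e1) d = d * D.ρ (W.em (tp i j)) := by
        rw [cn_mul, cn_mul, he1d, cn_map_mul, hsd, hsc, cn_map_mul, cn_map_mul, he1c, he1d,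
          D.cn_fix_rest π he1p (u := tp i j) (by simp [tp, δ_apply, hia.symm, hja.symm])
            (by simp [tp, δ_apply, hib.symm, hjb.symm])]
        have hcomm : D.ρ (W.em (tp i j)) * c = c * D.ρ (W.em (tp i j)) := by
          rw [show tp i j = δ i + δ j from rfl, W.em_add, map_mul, mul_assoc, hδcomm j hja hjb,
            ← mul_assoc, hδcomm i hia hib, mul_assoc]
        have hcd : D.ρ (W.em (tp i j)) * d = d * D.ρ (W.em (tp i j)) := by
          rw [hd, dd, ← map_mul, ← map_mul, ← W.em_add, ← W.em_add, add_comm]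
        calc c * D.ρ (W.em (tp i j)) * (c * d)
            = c * (D.ρ (W.em (tp i j)) * c) * d := by group
          _ = D.ρ (W.em (tp i j)) * d := by rw [hcomm, ← mul_assoc c c, hc2, one_mul]
          _ = _ := hcd
      refine no_move (tp i j) ?_ _ hY
      have h4 : wt (tp π.a π.b + tp i j) = 4 := by
        have := wt_add (tp π.a π.b) (tp i j)
        rw [wt_tp π.hab, wt_tp hij, Finset.card_eq_zero.2 (Finset.filter_eq_empty_iff.2
          fun k _ hk => by
            rcases eq_or_ne k π.a with rfl | hka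
            · exact hk.2 (by simp [tp, δ_apply, hia.symm, hja.symm])
            rcases eq_or_ne k π.b with rfl | hkb
            · exact hk.2 (by simp [tp, δ_apply, hib.symm, hjb.symm])
            exact hk.1 (π.tp_apply hka hkb))] at this
        omega
      simp [w, h4]
    have hone : ∀ i, i ≠ π.a → i ≠ π.b → c1.vec i = 1 := by
      intro i hia hib
      rcases eq_or_ne i i0 with rfl | hne
      · exact (zmod_two _).resolve_left hi0
      · rw [hall i i0 hia hib hi0a hi0b hne]; exact (zmod_two _).resolve_left hi0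
    obtain ⟨g, hg, hact, hgτ⟩ := hLift π.a π.b p0 π.hab (Ne.symm hp0a) (Ne.symm hp0b)
    have hgd : cn g d = d := by
      rw [hd, dd, cn, D.act_spec hg, hact, show ∑ i, tp π.a π.b i = 0 by
        rw [← dot_one]; exact tp_one _ _, π.tp_apply hp0a hp0b, add_zero, z_smul, add_zero]
    have hab' : c1.vec π.b = c1.vec π.a := by
      have h := hc1tw.1 π.a
      simpa [Pair.τ] using h
    have hvec : c1.vec = π.rest + c1.vec π.a • tp π.a π.b := by
      ext i
      rcases eq_or_ne i π.a with rfl | hia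
      · simp [π.rest_inv.a, π.tp_apply_a]
      rcases eq_or_ne i π.b with rfl | hib
      · simp [π.rest_inv.b, π.tp_apply_b, hab']
      · simp [Pair.rest, π.tp_apply hia hib, hone i hia hib]
    have hsum : ∑ i, c1.vec i + c1.vec p0 = 1 := by
      rw [hone p0 hp0a hp0b, hvec]
      have h1 : ∑ i, π.rest i = 0 := by
        rw [sum_eq_wt, show wt π.rest = Fintype.card ι - 2 by
          have := wt_compl (tp π.a π.b); rw [wt_tp π.hab] at this; rw [Pair.rest]; omega]
        obtain ⟨k, hk⟩ := D.card_even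
        rw [hk, show 2 * k - 2 = 2 * (k - 1) by omega, Nat.cast_mul,
          show ((2 : ℕ) : ZMod 2) = 0 from rfl, zero_mul]
      simp only [Pi.add_apply, Pi.smul_apply, smul_eq_mul, Finset.sum_add_distrib,
        ← Finset.mul_sum, h1]
      rw [← dot_one (tp π.a π.b), tp_one]
      simp
    have hgc : cn g c = D.ρ (W.em (δ p0)) * c := by
      rw [hc, W.eq_em_mul_pm c1, hc1p, map_mul, cn_map_mul]
      rw [show cn g (D.ρ (W.pm π.τ)) = D.ρ (W.pm π.τ) from hgτ, cn, D.act_spec hg, hact, hsum,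
        o_smul, ← mul_assoc, ← map_mul D.ρ (W.em (δ p0)), ← W.em_add, add_comm]
    have hY : cn (e1 * g * e1) d = d * D.ρ (W.em (δ p0)) := by
      rw [cn_mul, cn_mul, he1d, cn_map_mul, hgd, hgc, cn_map_mul, cn_map_mul, he1c, he1d,
        he1p p0 hp0a hp0b]
      calc D.ρ (W.em (δ p0)) * c * (c * d) = D.ρ (W.em (δ p0)) * (c * c) * d := by group
        _ = D.ρ (W.em (δ p0)) * d := by rw [hc2, mul_one]
        _ = _ := by rw [hd, dd, ← map_mul, ← map_mul, ← W.em_add, ← W.em_add, add_comm]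
    refine no_move (δ p0) ?_ _ hY
    have h3 : wt (tp π.a π.b + δ p0) = 3 := by
      have := wt_add (tp π.a π.b) (δ p0)
      rw [wt_tp π.hab, wt_δ, Finset.card_eq_zero.2 (Finset.filter_eq_empty_iff.2
        fun k _ hk => by
          rcases eq_or_ne k p0 with rfl | hkp
          · exact hk.1 (π.tp_apply hp0a hp0b)
          · exact hk.2 (by simp [δ_apply, hkp]))] at this
      omega
    simp [w, h3]
  set j := c1.vec π.a
  have hjb : c1.vec π.b = j := by
    have h := hc1tw.1 π.a
    simpa [Pair.τ] using h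
  have hc1eq : c1 = W.em (j • tp π.a π.b) * W.pm π.τ := by
    rw [W.eq_em_mul_pm c1, hc1p]
    congr 2
    ext i
    rcases eq_or_ne i π.a with rfl | hia
    · simp [π.tp_apply_a, j]
    rcases eq_or_ne i π.b with rfl | hib
    · simp [π.tp_apply_b, hjb]
    · simp [π.tp_apply hia hib, hc1v i hia hib]
  -- the element of order three
  set ε := D.ee π
  have hεd : cn ε d = d := by rw [hd, dd]; exact D.ee_conj_fix π (x := W.em _) rfl
  have hεc : cn ε c = d * c := by
    rw [hc]; exact D.ee_conj_move π (by rw [hc1p]; simp [Pair.τ])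
  have hεp : ∀ p, p ≠ π.a → p ≠ π.b → cn ε (D.ρ (W.em (δ p))) = D.ρ (W.em (δ p)) := fun p _ _ =>
    D.ee_conj_fix π (x := W.em _) rfl
  set f1 := e1 * ε
  have hd2 : d * d = 1 := D.dd_mul_self π
  have h1d : cn f1 d = c * d := by rw [cn_mul, hεd, he1d]
  have h1c : cn f1 c = d := by
    rw [cn_mul, hεc, cn_map_mul, he1d, he1c, ← hdc, mul_assoc, hc2, mul_one]
  have h1dc : cn f1 (c * d) = c := by
    rw [cn_map_mul, h1c, h1d, ← mul_assoc, hdc, mul_assoc, hd2, mul_one]
  have h1p : ∀ p, p ≠ π.a → p ≠ π.b → cn f1 (D.ρ (W.em (δ p))) = D.ρ (W.em (δ p)) := fun p ha hb => by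
    rw [cn_mul, hεp p ha hb, he1p p ha hb]
  have hc1gen : D.ρ (W.em (j • tp π.a π.b) * W.pm π.τ) = c := by rw [hc, ← hc1eq]
  obtain ⟨z3, hz3, hz3'⟩ : ∃ z ∈ W.tw π.τ π.τ_sq, f1 ^ 3 = D.ρ z := by
    refine D.cent_B π hp0a hp0b fun z hz => D.cn_fix_tw π (i0 := j) ?_ ?_ (fun p ha hb => ?_) hz
    · rw [pow_succ, pow_succ, pow_one, cn_mul, cn_mul, ← hd, h1d, h1dc, h1c]
    · rw [hc1gen, pow_succ, pow_succ, pow_one, cn_mul, cn_mul, h1c, h1d, h1dc]
    · rw [pow_succ, pow_succ, pow_one, cn_mul, cn_mul, h1p p ha hb, h1p p ha hb, h1p p ha hb]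
  -- decomposition with respect to the four group
  have hdec : ∀ z ∈ W.tw π.τ π.τ_sq, ∃ X u, (X = 1 ∨ X = d ∨ X = c ∨ X = c * d) ∧
      u π.a = 0 ∧ u π.b = 0 ∧ D.ρ z = X * D.ρ (W.em u) := by
    intro z hz
    obtain ⟨i, k, u, ha, hb, rfl⟩ := W.tw_decomp π hz
    refine ⟨D.ρ (W.em (i • tp π.a π.b)) * D.ρ (W.pm (if k = 1 then π.τ else 1)), u, ?_, ha, hb, ?_⟩
    · have hτ : D.ρ (W.pm π.τ) = D.ρ (W.em (j • tp π.a π.b)) * c := by
        rw [← hc1gen, ← map_mul, ← mul_assoc, ← W.em_add, add_self, W.em_zero, one_mul]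
      rcases zmod_two i with rfl | rfl <;> rcases zmod_two k with rfl | rfl <;>
        simp only [z_smul, o_smul, W.em_zero, map_one, one_mul, zero_ne_one, if_false,
          if_true, show W.pm (1 : Perm ι) = 1 from rfl, mul_one]
      · simp
      · rw [hτ]
        rcases zmod_two j with hj | hj <;> rw [hj]
        · simp [z_smul, W.em_zero]
        · rw [o_smul]
          exact Or.inr (Or.inr (Or.inr hdc))
      · exact Or.inr (Or.inl rfl)
      · rw [hτ]
        rcases zmod_two j with hj | hj <;> rw [hj]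
        · rw [z_smul, W.em_zero, map_one, one_mul]
          exact Or.inr (Or.inr (Or.inr hdc))
        · rw [o_smul, ← mul_assoc, show D.ρ (W.em (tp π.a π.b)) = d from rfl, hd2, one_mul]
          exact Or.inr (Or.inr (Or.inl rfl))
    · rw [W.em_add, map_mul, map_mul, mul_assoc, mul_assoc]
      congr 1
      rw [← map_mul, ← map_mul]
      congr 1
      ext m
      · simp only [W.mul_vec, W.em_vec, W.pm_vec, W.em_perm, W.pm_perm, Pi.add_apply,
          Function.comp_apply, Pi.zero_apply, Equiv.Perm.one_def, Equiv.refl_symm,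
          Equiv.refl_apply, add_zero, zero_add]
        by_cases hk : k = 1
        · rw [if_pos hk]
          rcases eq_or_ne m π.a with rfl | hma
          · simp [Pair.τ, ha, hb]
          rcases eq_or_ne m π.b with rfl | hmb
          · simp [Pair.τ, ha, hb]
          · rw [show π.τ.symm m = m by rw [Equiv.symm_apply_eq, π.τ_fix hma hmb]]
        · rw [if_neg hk]; rfl
      · simp
  have hc1ne : c ≠ 1 := fun h => π.τ_ne_one (by
    have := congrArg W.perm (D.ρ_injective (h.trans (map_one D.ρ).symm))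
    rwa [hc1p, W.one_perm] at this)
  have hdne : d ≠ 1 := fun h => tp_ne_zero π.hab (W.em_injective (D.ρ_injective
    (h.trans (map_one D.ρ).symm)))
  obtain ⟨X, u3, hX, hu3a, hu3b, hz3X⟩ := hdec z3 hz3
  have hcnp : cn f1 (f1 ^ 3) = f1 ^ 3 := by
    rw [cn, ← pow_succ', pow_succ f1 3, mul_inv_cancel_right]
  have hX1 : X = 1 := by
    rw [hz3', hz3X, cn_map_mul, D.cn_fix_rest π h1p hu3a hu3b] at hcnp
    have h := mul_right_cancel hcnp
    rcases hX with rfl | rfl | rfl | rfl
    · rfl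
    · rw [h1d] at h; exact absurd (mul_eq_right.1 h) hc1ne
    · exfalso
      rw [h1c] at h
      have := congrArg W.perm (D.ρ_injective
        (show D.ρ (W.em (tp π.a π.b)) = D.ρ c1 from h))
      rw [hc1p, W.em_perm] at this
      exact π.τ_ne_one this.symm
    · rw [h1dc] at h; exact absurd (mul_eq_left.1 h.symm) hdne
  set v3 := D.ρ (W.em u3)
  have hv3 : f1 ^ 3 = v3 := by rw [hz3', hz3X, hX1, one_mul]
  have hv3e1 : cn e1 v3 = v3 := D.cn_fix_rest π he1p hu3a hu3b
  have hv3ε : cn ε v3 = v3 := D.cn_fix_rest π hεp hu3a hu3b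
  have hv3sq : v3 * v3 = 1 := by
    simp only [v3]; rw [← map_mul, ← W.em_add, add_self, W.em_zero, map_one]
  set e2 := e1 * v3
  have he2i : e2 * e2 = 1 := by
    calc e2 * e2 = e1 * (v3 * e1) * v3 := by simp only [e2]; group
      _ = (e1 * e1) * (v3 * v3) := by rw [← cn_eq_iff.1 hv3e1]; group
      _ = 1 := by rw [he1i, hv3sq, mul_one]
  have hu3tw : W.em u3 ∈ W.tw π.τ π.τ_sq := W.em_mem_tw.2 fun i => by
    rcases eq_or_ne i π.a with rfl | hia
    · simp [Pair.τ, hu3a, hu3b]
    rcases eq_or_ne i π.b with rfl | hib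
    · simp [Pair.τ, hu3a, hu3b]
    · rw [π.τ_fix hia hib]
  have hv3tw : ∀ z ∈ W.tw π.τ π.τ_sq, cn v3 (D.ρ z) = D.ρ z := fun z hz =>
    cn_eq_iff.2 (htwcomm _ hu3tw _ hz)
  have he2d : cn e2 d = c * d := by rw [cn_mul, hd, dd, hv3tw _ hdtw]; exact he1d
  have he2c : cn e2 c = c := by rw [cn_mul, hc, hv3tw _ hc1tw]; exact he1c
  have he2p : ∀ p, p ≠ π.a → p ≠ π.b → cn e2 (D.ρ (W.em (δ p))) = D.ρ (W.em (δ p)) := fun p ha hb => by
    rw [cn_mul, hv3tw _ (hδtw p ha hb), he1p p ha hb]
  set F := e2 * ε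
  have hFv : F = f1 * v3 := by
    simp only [F, e2, f1]
    rw [mul_assoc, ← cn_eq_iff.1 hv3ε, ← mul_assoc]
  have hF3 : F ^ 3 = 1 := by
    have hcom : Commute f1 v3 := by rw [← hv3]; exact Commute.self_pow f1 3
    rw [hFv, hcom.mul_pow, hv3, show v3 ^ 3 = v3 * v3 * v3 by rw [pow_succ, sq], hv3sq, one_mul,
      hv3sq]
  have hFd : cn F d = c * d := by rw [cn_mul, hεd, he2d]
  have hFc : cn F c = d := by
    rw [cn_mul, hεc, cn_map_mul, he2d, he2c, ← hdc, mul_assoc, hc2, mul_one]
  have hFdc : cn F (c * d) = c := by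
    rw [cn_map_mul, hFc, hFd, ← mul_assoc, hdc, mul_assoc, hd2, mul_one]
  have hFp : ∀ p, p ≠ π.a → p ≠ π.b → cn F (D.ρ (W.em (δ p))) = D.ρ (W.em (δ p)) := fun p ha hb => by
    rw [cn_mul, hεp p ha hb, he2p p ha hb]
  -- transpositions off the pair commute with `e2`
  have hsw : ∀ i k, i ≠ π.a → i ≠ π.b → k ≠ π.a → k ≠ π.b → i ≠ k →
      cn (D.ρ (W.pm (Equiv.swap i k))) e2 = e2 := by
    intro i k hia hib hka hkb hik
    set σ := Equiv.swap i k with hσ
    set s := D.ρ (W.pm σ) with hs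
    have hs2 : s * s = 1 := by
      rw [hs, ← map_mul, ← W.pm_mul, hσ, Equiv.swap_mul_self,
        show W.pm (1 : Perm ι) = 1 from rfl, map_one]
    have hsinv : s⁻¹ = s := inv_eq_of_mul_eq_one_right hs2
    have hσa : σ π.a = π.a := Equiv.swap_apply_of_ne_of_ne hia.symm hka.symm
    have hσb : σ π.b = π.b := Equiv.swap_apply_of_ne_of_ne hib.symm hkb.symm
    have hsd : cn s d = d := by
      rw [hd, dd, hs, cn, ← map_inv, ← map_mul, ← map_mul, W.conj_em, W.pm_perm, tp]
      congr 2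
      rw [show (δ π.a + δ π.b) ∘ σ.symm = δ π.a ∘ σ.symm + δ π.b ∘ σ.symm from rfl, δ_comp,
        δ_comp, hσa, hσb]
    have hsτ : cn s (D.ρ (W.pm π.τ)) = D.ρ (W.pm π.τ) := by
      rw [hs, cn, ← map_inv, ← map_mul, ← map_mul, W.pm_inv, ← W.pm_mul, ← W.pm_mul, Pair.τ,
        ← Equiv.swap_apply_apply, hσa, hσb]
    have hsc : cn s c = c := by
      rw [← hc1gen, map_mul, cn_map_mul, hsτ]
      congr 1
      rcases zmod_two j with hj | hj <;> rw [hj]
      · rw [z_smul, W.em_zero, map_one, cn_one]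
      · rw [o_smul]; exact hsd
    have hsε : cn s ε = ε := by
      simp only [ε, ee]
      rw [hs, cn, ← map_inv, ← map_mul, ← map_mul, W.conj_em, W.pm_perm, δ_comp, hσa]
    have hsp : ∀ p, p ≠ π.a → p ≠ π.b → cn s (D.ρ (W.em (δ p))) = D.ρ (W.em (δ (σ p))) :=
      fun p _ _ => by
        rw [hs, cn, ← map_inv, ← map_mul, ← map_mul, W.conj_em, W.pm_perm, δ_comp]
    have hσne : ∀ p, p ≠ π.a → p ≠ π.b → σ p ≠ π.a ∧ σ p ≠ π.b := fun p ha hb =>
      ⟨fun e => ha (σ.injective (e.trans hσa.symm)), fun e => hb (σ.injective (e.trans hσb.symm))⟩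
    set k2 := cn s e2 * e2 with hk2
    have he2' : cn s e2 = s * e2 * s := by rw [cn, hsinv]
    have hgen : ∀ y, cn k2 y = cn s (cn e2 (cn s (cn e2 y))) := fun y => by
      rw [hk2, cn_mul, he2', cn_mul, cn_mul]
    obtain ⟨zk, hzk, hzk'⟩ : ∃ z ∈ W.tw π.τ π.τ_sq, k2 = D.ρ z := by
      refine D.cent_B π hp0a hp0b fun z hz => D.cn_fix_tw π (i0 := j) ?_ ?_ (fun p ha hb => ?_) hz
      · rw [← hd, hgen, he2d, cn_map_mul s, hsc, hsd, cn_map_mul e2, he2c, he2d,
          show c * (c * d) = d by rw [← mul_assoc, hc2, one_mul], hsd]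
      · rw [hc1gen, hgen, he2c, hsc, he2c, hsc]
      · rw [hgen, he2p p ha hb, hsp p ha hb, he2p _ (hσne p ha hb).1 (hσne p ha hb).2,
          hsp _ (hσne p ha hb).1 (hσne p ha hb).2, hσ, Equiv.swap_apply_self]
    obtain ⟨Y, u, hY, hua, hub, hzY⟩ := hdec zk hzk
    have hk2Y : k2 = Y * D.ρ (W.em u) := hzk'.trans hzY
    set U := D.ρ (W.em u)
    have hFU : cn F U = U := D.cn_fix_rest π hFp hua hub
    have hU2 : U * U = 1 := by
      simp only [U]; rw [← map_mul, ← W.em_add, add_self, W.em_zero, map_one]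
    have hsF : cn s F = k2 * F := by
      simp only [F]
      rw [cn_map_mul, hsε, hk2]
      calc cn s e2 * ε = cn s e2 * (e2 * e2) * ε := by rw [he2i, mul_one]
        _ = _ := by group
    have hcube : (k2 * F) ^ 3 = 1 := by
      rw [← hsF, cn, conj_pow, hF3, mul_one, mul_inv_cancel]
    have hutw : W.em u ∈ W.tw π.τ π.τ_sq := W.em_mem_tw.2 fun m => by
      rcases eq_or_ne m π.a with rfl | hma
      · simp [Pair.τ, hua, hub]
      rcases eq_or_ne m π.b with rfl | hmb
      · simp [Pair.τ, hua, hub]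
      · rw [π.τ_fix hma hmb]
    have hUd : U * d = d * U := by rw [hd, dd]; exact htwcomm _ hutw _ hdtw
    have hUc : U * c = c * U := by rw [hc]; exact htwcomm _ hutw _ hc1tw
    have hVcomm : ∀ Z, (Z = 1 ∨ Z = d ∨ Z = c ∨ Z = c * d) → U * Z = Z * U := by
      rintro Z (rfl | rfl | rfl | rfl)
      · simp
      · exact hUd
      · exact hUc
      · rw [← mul_assoc, hUc, mul_assoc, hUd, ← mul_assoc]
    have hU : U = 1 := by
      have hexp : (k2 * F) ^ 3 = k2 * cn F k2 * cn F (cn F k2) * F ^ 3 := by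
        simp only [cn, pow_succ, pow_zero, one_mul]; group
      rw [hexp, hF3, mul_one, hk2Y, cn_map_mul, hFU, cn_map_mul, hFU] at hcube
      have hmem : ∀ Z, (Z = 1 ∨ Z = d ∨ Z = c ∨ Z = c * d) →
          (cn F Z = 1 ∨ cn F Z = d ∨ cn F Z = c ∨ cn F Z = c * d) ∧
            Z * cn F Z * cn F (cn F Z) = 1 := by
        rintro Z (rfl | rfl | rfl | rfl)
        · exact ⟨Or.inl (cn_one F), by simp [cn_one]⟩
        · refine ⟨Or.inr (Or.inr (Or.inr hFd)), ?_⟩
          rw [hFd, hFdc, ← mul_assoc, hdc, mul_assoc c d d, hd2, mul_one, hc2]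
        · refine ⟨Or.inr (Or.inl hFc), ?_⟩
          rw [hFc, hFd, mul_assoc c d, ← mul_assoc d c d, hdc, mul_assoc c d d, hd2, mul_one, hc2]
        · refine ⟨Or.inr (Or.inr (Or.inl hFdc)), ?_⟩
          rw [hFdc, hFc, mul_assoc c d c, hdc, ← mul_assoc, hc2, one_mul, hd2]
      obtain ⟨h1, h1'⟩ := hmem Y hY
      obtain ⟨h2, -⟩ := hmem _ h1
      have hre : Y * U * (cn F Y * U) * (cn F (cn F Y) * U)
          = Y * cn F Y * cn F (cn F Y) * (U * U * U) := by
        calc Y * U * (cn F Y * U) * (cn F (cn F Y) * U)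
            = Y * (U * cn F Y) * (U * cn F (cn F Y)) * U := by group
          _ = Y * cn F Y * (U * cn F (cn F Y)) * U * U := by
            rw [hVcomm _ h1, hVcomm _ h2]
            calc Y * (cn F Y * U) * (cn F (cn F Y) * U) * U
                = Y * cn F Y * (U * cn F (cn F Y)) * U * U := by group
              _ = _ := by rw [hVcomm _ h2]
          _ = _ := by rw [hVcomm _ h2]; group
      rw [hre, h1', one_mul, hU2, one_mul] at hcube
      exact hcube
    rw [hU, mul_one] at hk2Y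
    have hYfix : cn e2 Y = Y := by
      have h1 : (Y * e2) * (Y * e2) = 1 := by
        rw [← hk2Y, hk2, show cn s e2 * e2 * e2 = cn s e2 * (e2 * e2) by group, he2i, mul_one,
          ← cn_map_mul, he2i, cn_one]
      have h2 : Y * Y = 1 := by
        rcases hY with rfl | rfl | rfl | rfl
        · simp
        · exact hd2
        · exact hc2
        · rw [mul_assoc, ← mul_assoc d, hdc, mul_assoc c d, hd2, mul_one, hc2]
      calc cn e2 Y = e2 * Y * e2 := by rw [cn, inv_eq_of_mul_eq_one_right he2i]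
        _ = (Y * Y) * (e2 * Y * e2) := by rw [h2, one_mul]
        _ = Y * ((Y * e2) * (Y * e2)) := by group
        _ = Y := by rw [h1, mul_one]
    have hse : cn s e2 = Y * e2 := by
      rw [← hk2Y, hk2, mul_assoc, he2i, mul_one]
    rcases hY with rfl | rfl | rfl | rfl
    · rw [hse, one_mul]
    · exfalso; rw [he2d] at hYfix; exact hc1ne (mul_eq_right.1 hYfix)
    · -- the exceptional twist
      exfalso
      set d' := D.ρ (W.em (tp i k)) with hd'
      set c' := D.ρ (W.em (j • tp i k)) * s with hc'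
      have hse2 : cn e2 s = c * s := by
        rw [cn, inv_eq_of_mul_eq_one_right he2i]
        have h' : s * e2 * s = c * e2 := by rw [← he2', hse]
        have h2 : e2 * s = s * (c * e2) := by rw [← h', ← mul_assoc, ← mul_assoc, hs2, one_mul]
        rw [h2, mul_assoc s, mul_assoc c e2 e2, he2i, mul_one]
        exact cn_eq_iff.1 hsc
      have he2d' : cn e2 d' = d' := D.cn_fix_rest π he2p
        (by simp [tp, δ_apply, hia.symm, hka.symm]) (by simp [tp, δ_apply, hib.symm, hkb.symm])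
      have hd'c : d' * c = c * d' := by
        rw [hd', show tp i k = δ i + δ k from rfl, W.em_add, map_mul, mul_assoc, hδcomm k hka hkb,
          ← mul_assoc, hδcomm i hia hib, mul_assoc]
      have he2c' : cn e2 c' = c * c' := by
        rw [hc', cn_map_mul, hse2]
        rcases zmod_two j with hj | hj <;> rw [hj]
        · simp [z_smul, W.em_zero, cn_one]
        · rw [o_smul, ← hd', he2d', ← mul_assoc, ← mul_assoc, hd'c]
      set τ' : Perm ι := Equiv.swap π.a i * Equiv.swap π.b k with hτ'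
      set T := D.ρ (W.pm τ') with hT
      have ht1 : τ' π.a = i := by
        simp [hτ', Equiv.swap_apply_of_ne_of_ne π.hab hka.symm]
      have ht2 : τ' π.b = k := by
        simp [hτ', Equiv.swap_apply_of_ne_of_ne hka hik.symm]
      have ht3 : τ' i = π.a := by
        simp [hτ', Equiv.swap_apply_of_ne_of_ne hib hik]
      have ht4 : τ' k = π.b := by
        simp [hτ', Equiv.swap_apply_of_ne_of_ne π.hab.symm hib.symm]
      have hτ'2 : τ' * τ' = 1 := Equiv.ext fun m => by
        rw [Equiv.Perm.mul_apply, Equiv.Perm.one_apply]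
        rcases eq_or_ne m π.a with rfl | h1
        · rw [ht1, ht3]
        rcases eq_or_ne m π.b with rfl | h2
        · rw [ht2, ht4]
        rcases eq_or_ne m i with rfl | h3
        · rw [ht3, ht1]
        rcases eq_or_ne m k with rfl | h4
        · rw [ht4, ht2]
        simp [hτ', Equiv.swap_apply_of_ne_of_ne h1 h3, Equiv.swap_apply_of_ne_of_ne h2 h4]
      have hT2 : T * T = 1 := by
        rw [hT, ← map_mul, ← W.pm_mul, hτ'2, show W.pm (1 : Perm ι) = 1 from rfl, map_one]
      have hTem : ∀ m, cn T (D.ρ (W.em (δ m))) = D.ρ (W.em (δ (τ' m))) := fun m => by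
        rw [hT, cn, ← map_inv, ← map_mul, ← map_mul, W.conj_em, W.pm_perm, δ_comp]
      have hTd : cn T d = d' := by
        rw [hd, dd, show tp π.a π.b = δ π.a + δ π.b from rfl, W.em_add, map_mul, cn_map_mul, hTem,
          hTem, ht1, ht2, ← map_mul, ← W.em_add]
        rfl
      have hTc : cn T c = c' := by
        rw [← hc1gen, map_mul, cn_map_mul, hc']
        congr 1
        · rcases zmod_two j with hj | hj <;> rw [hj]
          · simp [z_smul, W.em_zero, cn_one]
          · rw [o_smul, o_smul]; exact hTd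
        · rw [hT, cn, ← map_inv, ← map_mul, ← map_mul, W.pm_inv, ← W.pm_mul, ← W.pm_mul, Pair.τ,
            ← Equiv.swap_apply_apply, ht1, ht2]
      set e3 := cn T e2 with he3
      have he3cn : ∀ y, cn e3 y = cn T (cn e2 (cn T y)) := fun y => by
        rw [he3]
        show cn (T * e2 * T⁻¹) y = _
        rw [inv_eq_of_mul_eq_one_right hT2, cn_mul, cn_mul]
      have hTd' : cn T d' = d := cn_invol hT2 hTd
      have hTc' : cn T c' = c := cn_invol hT2 hTc
      have h3c : cn e3 c = c' * c := by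
        rw [he3cn, hTc, he2c', cn_map_mul, hTc, hTc']
      have h3d' : cn e3 d' = c' * d' := by
        rw [he3cn, hTd', he2d, cn_map_mul, hTc, hTd]
      have h3d : cn e3 d = d := by rw [he3cn, hTd, he2d', hTd']
      have hcc' : c * c' = c' * c := by
        rw [hc', ← mul_assoc]
        rcases zmod_two j with hj | hj <;> rw [hj]
        · simp only [z_smul, W.em_zero, map_one, mul_one, one_mul]
          exact (cn_eq_iff.1 hsc).symm
        · rw [o_smul, ← hd', ← hd'c, mul_assoc, ← cn_eq_iff.1 hsc, ← mul_assoc]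
      have hc'2 : c' * c' = 1 := by
        calc c' * c' = cn T (c * c) := by rw [cn_map_mul, hTc]
          _ = 1 := by rw [hc2, cn_one]
      set R : ι → ZMod 2 := (fun _ => 1) + tp π.a π.b + tp i k with hR
      have hRab : R π.a = 0 ∧ R π.b = 0 := by
        simp [hR, π.tp_apply_a, π.tp_apply_b, tp, δ_apply, π.hab, π.hab.symm, hia.symm, hka.symm,
          hib.symm, hkb.symm, CharTwo.add_self_eq_zero]
      have h2R : cn e2 (D.ρ (W.em R)) = D.ρ (W.em R) :=
        D.cn_fix_rest π he2p hRab.1 hRab.2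
      have hTR : cn T (D.ρ (W.em R)) = D.ρ (W.em R) := by
        rw [hT, cn, ← map_inv, ← map_mul, ← map_mul, W.conj_em, W.pm_perm]
        congr 2
        rw [hR, show ((fun _ => (1 : ZMod 2)) + tp π.a π.b + tp i k) ∘ τ'.symm =
          (fun _ => (1 : ZMod 2)) + (δ π.a ∘ τ'.symm + δ π.b ∘ τ'.symm) +
            (δ i ∘ τ'.symm + δ k ∘ τ'.symm) from rfl, δ_comp, δ_comp, δ_comp, δ_comp, ht1, ht2,
          ht3, ht4]
        simp only [tp]; abel
      have h3R : cn e3 (D.ρ (W.em R)) = D.ρ (W.em R) := by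
        rw [he3cn, hTR, h2R, hTR]
      have htdec : D.t = d * d' * D.ρ (W.em R) := by
        rw [← D.ρ_t, hd, dd, hd', ← map_mul, ← map_mul, ← W.em_add, ← W.em_add, hR]
        congr 2
        calc (fun _ : ι => (1 : ZMod 2))
            = (fun _ => 1) + (tp π.a π.b + tp π.a π.b) + (tp i k + tp i k) := by
              rw [add_self, add_self, add_zero, add_zero]
          _ = _ := by abel
      set g := e2 * e3 * e2
      have h23 : ∀ y, cn g y = cn e2 (cn e3 (cn e2 y)) := fun y => by rw [cn_mul, cn_mul]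
      have hgt : g * D.t = D.t * g := by
        refine cn_eq_iff.1 ?_
        rw [htdec, h23, cn_map_mul e2, cn_map_mul e2, he2d, he2d', h2R, cn_map_mul e3,
          cn_map_mul e3, cn_map_mul e3, h3c, h3d, h3d', h3R]
        have hmid : c' * c * d * (c' * d') = c * d * d' := by
          have hdc' : d * c' = c' * d := by
            rw [hc', ← mul_assoc]
            rcases zmod_two j with hj | hj <;> rw [hj]
            · simp only [z_smul, W.em_zero, map_one, mul_one, one_mul]
              exact (cn_eq_iff.1 hsd).symm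
            · rw [o_smul, hd, dd, ← map_mul, ← W.em_add, add_comm, W.em_add, map_mul,
                show D.ρ (W.em (tp π.a π.b)) = d from rfl, mul_assoc, ← cn_eq_iff.1 hsd,
                ← mul_assoc]
          calc c' * c * d * (c' * d') = c' * c * (d * c') * d' := by group
            _ = c' * (c * c') * d * d' := by rw [hdc']; group
            _ = c * d * d' := by rw [hcc', ← mul_assoc c' c', hc'2, one_mul]
        rw [hmid, cn_map_mul, cn_map_mul, cn_map_mul, he2c, he2d, he2d', h2R, ← mul_assoc c c d,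
          hc2, one_mul]
      have hgd : cn g d = c' * c * d := by
        rw [h23, he2d, cn_map_mul e3, h3c, h3d, cn_map_mul, cn_map_mul, he2c', he2c, he2d]
        calc c * c' * c * (c * d) = c * c' * (c * c) * d := by group
          _ = _ := by rw [hc2, mul_one, hcc']
      have hperm := D.range_eq_conj hgt (x := W.em (tp π.a π.b))
        (y := W.em (j • tp i k) * W.pm σ * c1 * W.em (tp π.a π.b)) rfl (by
          rw [show D.ρ (W.em (tp π.a π.b)) = d from rfl, hgd, hc', hs, hc, hd, dd, map_mul,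
            map_mul, map_mul])
      simp only [W.mul_perm, W.em_perm, W.pm_perm, one_mul, mul_one, hc1p] at hperm
      have h5 := congrArg (fun p : Perm ι => p π.a) hperm
      simp only [Equiv.Perm.mul_apply, Equiv.Perm.one_apply, Pair.τ, Equiv.swap_apply_left] at h5
      rw [hσb] at h5
      exact π.hab h5.symm
    · exfalso
      rw [cn_map_mul, he2c, he2d, ← mul_assoc, hc2, one_mul] at hYfix
      exact hc1ne (mul_eq_right.1 hYfix.symm)
  have hswF : ∀ i k, i ≠ π.a → i ≠ π.b → k ≠ π.a → k ≠ π.b → i ≠ k →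
      cn F (D.ρ (W.pm (Equiv.swap i k))) = D.ρ (W.pm (Equiv.swap i k)) := by
    intro i k hia hib hka hkb hik
    refine cn_eq_iff.2 ?_
    have h1 := cn_eq_iff.1 (hsw i k hia hib hka hkb hik)
    have h2 : D.ρ (W.pm (Equiv.swap i k)) * ε = ε * D.ρ (W.pm (Equiv.swap i k)) := by
      simp only [ε, ee]
      rw [← map_mul, ← map_mul, mul_inv_eq_iff_eq_mul.1 (W.conj_em (W.pm (Equiv.swap i k)) (δ π.a))]
      rw [W.pm_perm, δ_comp, Equiv.swap_apply_of_ne_of_ne hia.symm hka.symm]
    simp only [F]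
    rw [mul_assoc, ← h2, ← mul_assoc, ← h1, mul_assoc]
  refine ⟨F, c1 * W.em (tp π.a π.b), by simp [hc1p], ?_, fun i hia hib => ?_, ?_, fun x hxa hxb hva hvb => ?_⟩
  · simp [hc1p, Pair.τ, π.tp_apply_a, π.tp_apply_b, hjb, j]
  · simp [hc1p, hc1v i hia hib, π.τ_fix hia hib, π.tp_apply hia hib,
      show π.τ.symm i = i by rw [Equiv.symm_apply_eq, π.τ_fix hia hib]]
  · rw [map_mul, ← hc, show D.ρ (W.em (tp π.a π.b)) = d from rfl, hFd]
  · have hperm : ∀ m, ∀ σ : Perm ι, σ.support.card = m → σ π.a = π.a → σ π.b = π.b →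
        cn F (D.ρ (W.pm σ)) = D.ρ (W.pm σ) := by
      intro m
      induction m using Nat.strong_induction_on with
      | _ m ih =>
        intro σ hm ha hb
        by_cases h1 : σ = 1
        · subst h1; rw [show W.pm (1 : Perm ι) = 1 from rfl, map_one, cn_one]
        obtain ⟨i, hi⟩ : ∃ i, σ i ≠ i := by
          by_contra h; push Not at h; exact h1 (Equiv.ext h)
        have hia : i ≠ π.a := fun e => hi (e ▸ ha)
        have hib : i ≠ π.b := fun e => hi (e ▸ hb)
        have hσia : σ i ≠ π.a := fun e => hia (σ.injective (e.trans ha.symm))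
        have hσib : σ i ≠ π.b := fun e => hib (σ.injective (e.trans hb.symm))
        have hlt := Equiv.Perm.card_support_swap_mul hi
        have hrest := ih _ (hm ▸ hlt) (Equiv.swap i (σ i) * σ) rfl
          (by rw [Equiv.Perm.mul_apply, ha, Equiv.swap_apply_of_ne_of_ne hia.symm hσia.symm])
          (by rw [Equiv.Perm.mul_apply, hb, Equiv.swap_apply_of_ne_of_ne hib.symm hσib.symm])
        rw [show σ = Equiv.swap i (σ i) * (Equiv.swap i (σ i) * σ) by
          rw [← mul_assoc, Equiv.swap_mul_self, one_mul], W.pm_mul, map_mul, cn_map_mul, hrest,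
          hswF i (σ i) hia hib hσia hσib (Ne.symm hi)]
    rw [W.eq_em_mul_pm x, map_mul, cn_map_mul, D.cn_fix_rest π hFp hva hvb,
      hperm _ x.perm rfl hxa hxb]

end Setup

end Cfsg.Kondo67
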