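import Cfsg.Agent.Kondo67.Setup
import Mathlib.Tactic.LinearCombination

/-!
# The normaliser of the base acts as `S_{2n}` or `S_{2n+1}`
-/

set_option autoImplicit false

namespace Cfsg.Kondo67

open Subgroup Finset Equiv

variable {G : Type*} [Group G] {ι : Type} [Fintype ι] [DecidableEq ι]

omit [Fintype ι] [DecidableEq ι] in
theorem z_smul (v : ι → ZMod 2) : (0 : ZMod 2) • v = 0 := funext fun _ => zero_mul _

omit [Fintype ι] [DecidableEq ι] in
theorem o_smul (v : ι → ZMod 2) : (1 : ZMod 2) • v = v := funext fun _ => one_mul _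

/-- The vector of a pair. -/
def tp (a b : ι) : ι → ZMod 2 := δ a + δ b

theorem comp_swap (e : ι → ZMod 2) (a b : ι) :
    e ∘ (Equiv.swap a b) = e + dot (tp a b) e • tp a b := by
  ext i
  rw [tp, add_dot, δ_dot, δ_dot]
  simp only [Function.comp_apply, Pi.add_apply, Pi.smul_apply, smul_eq_mul, δ_apply]
  by_cases ha : i = a
  · subst ha
    rw [Equiv.swap_apply_left]
    by_cases hb : i = b
    · subst hb; simp [CharTwo.add_self_eq_zero]
    · simp [hb, ← add_assoc, CharTwo.add_self_eq_zero]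
  · by_cases hb : i = b
    · subst hb
      rw [Equiv.swap_apply_right]
      simp [ha, add_left_comm (e i), CharTwo.add_self_eq_zero]
    · rw [Equiv.swap_apply_of_ne_of_ne ha hb]
      simp [ha, hb]

theorem tp_ne_zero {a b : ι} (h : a ≠ b) : tp a b ≠ 0 := fun h0 => by
  simpa [tp, δ_apply, h] using congrFun h0 a

theorem dot_tp (f : ι → ZMod 2) (a b : ι) : dot f (tp a b) = f a + f b := by
  rw [tp, dot_add, dot_δ, dot_δ]

theorem tp_dot (e : ι → ZMod 2) (a b : ι) : dot (tp a b) e = e a + e b := by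
  rw [dot_comm, dot_tp]

theorem dot_tp_self {a b : ι} (h : a ≠ b) : dot (tp a b) (tp a b) = 0 := by
  rw [dot_tp]
  simp [tp, δ_apply, h, h.symm, CharTwo.add_self_eq_zero]

omit [DecidableEq ι] in
theorem dot_one (f : ι → ZMod 2) : dot f (fun _ => 1) = ∑ i, f i := by simp [dot]

omit [DecidableEq ι] in
theorem one_dot (f : ι → ZMod 2) : dot (fun _ => 1) f = ∑ i, f i := by simp [dot]

omit [DecidableEq ι] in
theorem dot_self (f : ι → ZMod 2) : dot f f = ∑ i, f i :=
  Finset.sum_congr rfl fun i _ => by rcases zmod_two (f i) with h | h <;> simp [h]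

theorem tp_one (a b : ι) : dot (tp a b) (fun _ => 1) = 0 := by
  rw [tp_dot]; exact CharTwo.add_self_eq_zero _

/-- The support weight. -/
def wt (e : ι → ZMod 2) : ℕ := (Finset.univ.filter fun i => e i ≠ 0).card

/-- The weight in the even subsets of a set with one more point. -/
def w (e : ι → ZMod 2) : ℕ := wt e + wt e % 2

omit [DecidableEq ι] in
theorem wt_add (x y : ι → ZMod 2) : wt (x + y) + 2 *
    (Finset.univ.filter fun i => x i ≠ 0 ∧ y i ≠ 0).card = wt x + wt y := by
  simp only [wt, Finset.card_filter, Finset.mul_sum, ← Finset.sum_add_distrib]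
  refine Finset.sum_congr rfl fun i _ => ?_
  rcases zmod_two (x i) with h | h <;> rcases zmod_two (y i) with h' | h' <;>
    simp [h, h', CharTwo.add_self_eq_zero]

omit [DecidableEq ι] in
theorem w_add_le (x y : ι → ZMod 2) : w (x + y) ≤ w x + w y := by
  have := wt_add x y
  unfold w
  omega

omit [DecidableEq ι] in
theorem wt_eq_zero {x : ι → ZMod 2} (h : wt x = 0) : x = 0 := by
  ext i
  simp only [wt, Finset.card_eq_zero, Finset.filter_eq_empty_iff] at h
  simpa using @h i (Finset.mem_univ _)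

theorem wt_δ (a : ι) : wt (δ a) = 1 := by
  rw [wt, Finset.card_eq_one]
  exact ⟨a, by ext; simp [δ_apply]⟩

theorem wt_tp {a b : ι} (h : a ≠ b) : wt (tp a b) = 2 := by
  rw [wt, Finset.card_eq_two]
  refine ⟨a, b, h, ?_⟩
  ext i
  by_cases ha : i = a
  · subst ha; simp [tp, δ_apply, h]
  · simp [tp, δ_apply, ha]

omit [DecidableEq ι] in
theorem sum_eq_wt (x : ι → ZMod 2) : ∑ i, x i = (wt x : ZMod 2) := by
  rw [wt, Finset.card_filter, Nat.cast_sum]
  refine Finset.sum_congr rfl fun i _ => ?_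
  rcases zmod_two (x i) with h | h <;> simp [h]

omit [DecidableEq ι] in
theorem sum_eq_one_iff (x : ι → ZMod 2) : ∑ i, x i = 1 ↔ wt x % 2 = 1 := by
  rw [sum_eq_wt, ZMod.natCast_eq_one_iff_odd, Nat.odd_iff]

omit [DecidableEq ι] in
theorem wt_one : wt (fun _ : ι => (1 : ZMod 2)) = Fintype.card ι := by simp [wt]

omit [DecidableEq ι] in
theorem wt_eq_card {x : ι → ZMod 2} (h : wt x = Fintype.card ι) : x = fun _ => 1 := by
  ext i
  rcases zmod_two (x i) with hi | hi
  · exfalso
    have hlt : wt x < Fintype.card ι :=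
      Finset.card_lt_univ_of_notMem (x := i) (by simp [hi])
    omega
  · exact hi

theorem wt_compl (x : ι → ZMod 2) : wt ((fun _ => 1) + x) + wt x = Fintype.card ι := by
  simp only [wt, Finset.card_filter, ← Finset.sum_add_distrib]
  rw [Finset.sum_congr rfl (g := fun _ => 1) fun i _ => ?_, Finset.sum_const, Finset.card_univ,
    smul_eq_mul, mul_one]
  rcases zmod_two (x i) with h | h <;> simp [h, CharTwo.add_self_eq_zero]

theorem eq_δ_of_wt {x : ι → ZMod 2} (h : wt x = 1) : ∃ a, x = δ a := by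
  obtain ⟨a, ha⟩ := Finset.card_eq_one.1 h
  refine ⟨a, funext fun i => ?_⟩
  have hi : x i ≠ 0 ↔ i = a := by simpa using Finset.ext_iff.1 ha i
  rcases zmod_two (x i) with h' | h'
  · rw [δ_apply, if_neg (fun hh => hi.2 hh h'), h']
  · rw [δ_apply, if_pos (hi.1 (by simp [h'])), h']

theorem eq_compl_of_wt {x : ι → ZMod 2} (h : wt x + 1 = Fintype.card ι) :
    ∃ a, x = (fun _ => 1) + δ a := by
  obtain ⟨a, ha⟩ := eq_δ_of_wt (x := (fun _ => 1) + x) (by have := wt_compl x; omega)
  exact ⟨a, by rw [← ha, ← add_assoc, add_self, zero_add]⟩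

namespace Setup

variable (D : Setup G ι)

/-- Transvections induced on the base. -/
def IsTv (c f : ι → ZMod 2) : Prop :=
  c ≠ 0 ∧ f ≠ 0 ∧ dot f c = 0 ∧ ∃ g ∈ D.N, ∀ e, D.act g e = e + dot f e • c

theorem tv_swap {a b : ι} (h : a ≠ b) : D.IsTv (tp a b) (tp a b) :=
  ⟨tp_ne_zero h, tp_ne_zero h, dot_tp_self h, _, D.ρ_mem_N (W.pm (Equiv.swap a b)), fun e => by
    rw [D.act_ρ, W.pm_perm, Equiv.symm_swap, comp_swap]⟩

/-- The contragredient action. -/
noncomputable def adj (g : G) (f : ι → ZMod 2) : ι → ZMod 2 := fun i => dot f (D.act g⁻¹ (δ i))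

theorem dot_adj {g : G} (hg : g ∈ D.N) (f e : ι → ZMod 2) :
    dot (D.adj g f) e = dot f (D.act g⁻¹ e) := by
  conv_rhs => rw [vec_decomp e, D.act_sum (inv_mem hg)]
  simp only [D.act_smul (inv_mem hg)]
  simp only [dot, adj, Finset.sum_apply, Pi.smul_apply, smul_eq_mul, Finset.mul_sum,
    Finset.sum_mul]
  rw [Finset.sum_comm]
  exact Finset.sum_congr rfl fun i _ => Finset.sum_congr rfl fun j _ => by ring

theorem tv_conj {g : G} (hg : g ∈ D.N) {c f : ι → ZMod 2} (h : D.IsTv c f) :
    D.IsTv (D.act g c) (D.adj g f) := by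
  obtain ⟨hc, hf, hfc, x, hx, hact⟩ := h
  refine ⟨fun h0 => hc ?_, fun h0 => hf ?_, ?_, g * x * g⁻¹,
    mul_mem (mul_mem hg hx) (inv_mem hg), fun e => ?_⟩
  · rw [← D.act_inv_act hg c, h0, D.act_zero (inv_mem hg)]
  · ext i
    have := D.dot_adj hg f (D.act g (δ i))
    rw [h0, D.act_inv_act hg, dot_δ] at this
    simpa [dot] using this.symm
  · rw [D.dot_adj hg, D.act_inv_act hg, hfc]
  · rw [D.act_mul (mul_mem hg hx) (inv_mem hg), D.act_mul hg hx, hact, D.act_add hg,
      D.act_smul hg, D.act_act_inv hg, D.dot_adj hg]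

theorem tv_invol {g : G} {c f : ι → ZMod 2} (hfc : dot f c = 0)
    (hact : ∀ e, D.act g e = e + dot f e • c) (e : ι → ZMod 2) : D.act g (D.act g e) = e := by
  rw [hact, hact, dot_add, dot_smul, hfc, mul_zero, add_zero, add_assoc, add_self, add_zero]

theorem tv_conj_tv {c f c' f' : ι → ZMod 2} (h : D.IsTv c f) (h' : D.IsTv c' f') :
    D.IsTv (c' + dot f c' • c) (f' + dot f' c • f) := by
  obtain ⟨-, -, hfc, x, hx, hact⟩ := h
  have := D.tv_conj hx h'
  rw [hact] at this
  convert this using 2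
  ext i
  have hinv : D.act x⁻¹ (δ i) = D.act x (δ i) := by
    conv_lhs => rw [← D.tv_invol hfc hact (δ i)]
    rw [D.act_inv_act hx]
  simp only [adj, hinv, hact, dot_add, dot_smul, dot_δ, Pi.add_apply, Pi.smul_apply,
    smul_eq_mul]
  ring

theorem tv_fixed {c f : ι → ZMod 2} (h : D.IsTv c f) (hf : dot f (fun _ => 1) = 0) :
    ∃ a b, a ≠ b ∧ c = tp a b ∧ f = tp a b := by
  obtain ⟨hc, hf0, -, g, hg, hact⟩ := h
  obtain ⟨x, rfl⟩ := D.exists_ρ ((D.commutes_t_iff hg).2 (by
    rw [hact, hf]; ext; simp)) hg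
  have key : ∀ i, δ (x.perm i) = δ i + f i • c := fun i => by
    rw [← δ_comp, ← D.act_ρ, hact, dot_δ]
  have hmov : ∀ i, f i ≠ 0 ↔ x.perm i ≠ i := by
    intro i
    rcases zmod_two (f i) with h | h
    · refine ⟨fun h' => absurd h h', fun h' => absurd ?_ h'⟩
      have := congrFun (key i) (x.perm i)
      simp only [h, δ_apply, Pi.add_apply, Pi.smul_apply, smul_eq_mul, zero_mul, add_zero,
        if_pos rfl] at this
      by_contra hne
      rw [if_neg hne] at this
      exact one_ne_zero this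
    · refine ⟨fun _ hfix => hc ?_, fun _ => by simp [h]⟩
      have h2 := key i
      rw [hfix, h] at h2
      ext j
      simpa [δ_apply] using congrFun h2 j
  obtain ⟨i, hi⟩ : ∃ i, f i ≠ 0 := Function.ne_iff.1 hf0
  have hπi : x.perm i ≠ i := (hmov i).1 hi
  have hfi : f i = 1 := (zmod_two _).resolve_left hi
  have hceq : c = tp i (x.perm i) := by
    have h2 := key i
    ext j
    have h3 := congrFun h2 j
    simp only [hfi, Pi.add_apply, Pi.smul_apply, smul_eq_mul, one_mul] at h3
    rw [tp, Pi.add_apply, h3, ← add_assoc, CharTwo.add_self_eq_zero, zero_add]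
  refine ⟨i, x.perm i, Ne.symm hπi, hceq, ?_⟩
  ext j
  by_cases hj : x.perm j = j
  · have h0 : f j = 0 := not_not.1 fun h => (hmov j).1 h hj
    have h1 : j ≠ i := fun h => hπi (h ▸ hj)
    have h2 : j ≠ x.perm i := fun h => hπi (x.perm.injective (h ▸ hj))
    simp [h0, tp, δ_apply, h1, h2]
  · have h1 : f j = 1 := (zmod_two _).resolve_left ((hmov j).2 hj)
    have h3 : δ (x.perm j) j = δ j j + c j := by
      have := congrFun (key j) j
      simpa [h1] using this
    simp only [δ_apply, if_pos rfl, if_neg (Ne.symm hj)] at h3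
    rw [h1, ← hceq]
    exact CharTwo.add_eq_zero.1 h3.symm

/-- The axis determines the centre. -/
theorem tv_unique [Finite G] {c c' f : ι → ZMod 2} (h : D.IsTv c f) (h' : D.IsTv c' f) :
    c = c' := by
  obtain ⟨hc, hf0, hfc, g, hg, hact⟩ := id h
  obtain ⟨k, hk, hcomm⟩ := D.exists_conj_commute hg (D.tv_invol hfc hact)
  have hkg : k * g * k⁻¹ ∈ D.N := mul_mem (mul_mem hk hg) (inv_mem hk)
  rw [D.commutes_t_iff hkg, D.act_mul (mul_mem hk hg) (inv_mem hk), D.act_mul hk hg, hact,
    D.act_add hk, D.act_smul hk, D.act_act_inv hk, ← D.dot_adj hk] at hcomm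
  have hfix : dot (D.adj k f) (fun _ => 1) = 0 := by
    rcases zmod_two (dot (D.adj k f) (fun _ => 1)) with h0 | h0
    · exact h0
    exfalso
    rw [h0] at hcomm
    have h1 : D.act k c = 0 := by
      ext i
      simpa using congrFun hcomm i
    exact hc (by rw [← D.act_inv_act hk c, h1, D.act_zero (inv_mem hk)])
  obtain ⟨a, b, -, h1, h2⟩ := D.tv_fixed (D.tv_conj hk h) hfix
  obtain ⟨a', b', -, h1', h2'⟩ := D.tv_fixed (D.tv_conj hk h') hfix
  rw [← D.act_inv_act hk c, ← D.act_inv_act hk c', h1, h1', ← h2, ← h2']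

/-- A transvection moving `t`. -/
theorem tv_moving [Finite G] {c f : ι → ZMod 2} (h : D.IsTv c f)
    (hf : dot f (fun _ => 1) = 1) : f = (fun _ => 1) + c ∧ ∑ i, c i = 1 := by
  have heq : ∀ x y : ι, x ≠ y → dot f (tp x y) = dot (tp x y) c := by
    intro x y hxy
    have hs := D.tv_swap hxy
    rcases zmod_two (dot f (tp x y)) with h1 | h1 <;>
      rcases zmod_two (dot (tp x y) c) with h2 | h2
    · rw [h1, h2]
    · exfalso
      have h3 := D.tv_conj_tv hs h
      rw [h1, h2, z_smul, o_smul, add_zero] at h3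
      exact tp_ne_zero hxy (add_eq_left.1 (D.tv_unique h3 h))
    · exfalso
      have h3 := D.tv_conj_tv h hs
      rw [h1, h2, z_smul, o_smul, add_zero] at h3
      exact h.1 (add_eq_left.1 (D.tv_unique h3 hs))
    · rw [h1, h2]
  obtain ⟨i0⟩ : Nonempty ι := Fintype.card_pos_iff.1 D.card_pos
  have hf' : f = (fun _ => f i0 + c i0) + c := by
    ext j
    simp only [Pi.add_apply]
    by_cases hj : j = i0
    · subst hj; rw [add_assoc, CharTwo.add_self_eq_zero, add_zero]
    · have h1 := heq j i0 hj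
      rw [dot_tp, tp_dot] at h1
      calc f j = (f j + f i0) + f i0 := by
            rw [add_assoc, CharTwo.add_self_eq_zero, add_zero]
        _ = _ := by rw [h1]; ring
  set ε := f i0 + c i0
  have hsum : ∑ i, c i = 1 := by
    rw [dot_one, hf'] at hf
    simp only [Pi.add_apply, Finset.sum_add_distrib, Finset.sum_const, Finset.card_univ] at hf
    obtain ⟨k, hk⟩ := D.card_even
    rw [hk, mul_nsmul, two_nsmul, CharTwo.add_self_eq_zero, nsmul_zero, zero_add] at hf
    exact hf
  have hε : ε = 1 := by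
    have h2 := h.2.2.1
    rw [hf', add_dot, dot_self, hsum] at h2
    have h3 : dot (fun _ => ε) c = ε := by
      simp only [dot, ← Finset.mul_sum, hsum, mul_one]
    rw [h3] at h2
    exact CharTwo.add_eq_zero.1 h2
  exact ⟨by rw [hf', hε], hsum⟩

theorem tv_move [Finite G] {c : ι → ZMod 2} (h : D.IsTv c ((fun _ => 1) + c))
    (hs : ∑ i, c i = 1) {x y : ι} (hx : c x = 1) (hy : c y = 0) :
    D.IsTv (c + tp x y) ((fun _ => 1) + (c + tp x y)) ∧ ∑ i, (c + tp x y) i = 1 := by
  have hxy : x ≠ y := fun e => one_ne_zero ((e ▸ hx).symm.trans hy)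
  have h3 := D.tv_conj_tv (D.tv_swap hxy) h
  have h4 : dot (tp x y) c = 1 := by rw [tp_dot, hx, hy, add_zero]
  have h5 : dot ((fun _ => 1) + c) (tp x y) = 1 := by
    rw [dot_tp]; simp [hx, hy, CharTwo.add_self_eq_zero]
  rw [h4, h5, o_smul] at h3
  refine ⟨by rw [← add_assoc]; exact h3, ?_⟩
  simp only [Pi.add_apply, Finset.sum_add_distrib, hs]
  have : ∑ i, tp x y i = 0 := by rw [← dot_one]; exact tp_one x y
  rw [this, add_zero]

theorem tv_moving_weight [Finite G] {c f : ι → ZMod 2} (h : D.IsTv c f)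
    (hf : dot f (fun _ => 1) = 1) : wt c = 1 ∨ wt c + 1 = Fintype.card ι := by
  obtain ⟨hf', hsum⟩ := D.tv_moving h hf
  subst hf'
  by_contra hbad
  have hodd := (sum_eq_one_iff c).1 hsum
  obtain ⟨k, hk⟩ := D.card_even
  have hle := wt_compl c
  have h1 : 3 ≤ wt c := by omega
  have h2 : 3 ≤ wt ((fun _ => 1) + c) := by omega
  obtain ⟨s, hs, hsc⟩ := Finset.exists_subset_card_eq h1
  obtain ⟨s', hs', hsc'⟩ := Finset.exists_subset_card_eq h2
  obtain ⟨x1, x2, x3, x12, x13, x23, rfl⟩ := Finset.card_eq_three.1 hsc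
  obtain ⟨y1, y2, y3, y12, y13, y23, rfl⟩ := Finset.card_eq_three.1 hsc'
  simp only [Finset.insert_subset_iff, Finset.singleton_subset_iff, Finset.mem_filter,
    Finset.mem_univ, true_and] at hs hs'
  have hX : ∀ {x}, c x ≠ 0 → c x = 1 := fun h => (zmod_two _).resolve_left h
  have hY : ∀ {y}, ((fun _ => 1) + c : ι → ZMod 2) y ≠ 0 → c y = 0 := by
    intro y hy
    rcases zmod_two (c y) with h | h
    · exact h
    · exact absurd (by simp [h, CharTwo.add_self_eq_zero]) hy
  have a1 := hX hs.1; have a2 := hX hs.2.1; have a3 := hX hs.2.2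
  have b1 := hY hs'.1; have b2 := hY hs'.2.1; have b3 := hY hs'.2.2
  have ne : ∀ {x y}, c x = 1 → c y = 0 → x ≠ y := fun hx hy e =>
    one_ne_zero ((e ▸ hx).symm.trans hy)
  have n11 := ne a1 b1; have n12 := ne a1 b2; have n13 := ne a1 b3
  have n21 := ne a2 b1; have n22 := ne a2 b2; have n23 := ne a2 b3
  have n31 := ne a3 b1; have n32 := ne a3 b2; have n33 := ne a3 b3
  obtain ⟨q1, r1⟩ := D.tv_move h hsum a1 b1
  obtain ⟨q2, r2⟩ := D.tv_move q1 r1 (x := x2) (y := y2)
    (by simp [tp, δ_apply, a2, x12.symm, n21]) (by simp [tp, δ_apply, b2, n12.symm, y12.symm])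
  obtain ⟨q3, r3⟩ := D.tv_move q2 r2 (x := x3) (y := y3)
    (by simp [tp, δ_apply, a3, x13.symm, x23.symm, n31, n32])
    (by simp [tp, δ_apply, b3, n13.symm, n23.symm, y13.symm, y23.symm])
  set v := tp x1 y1 + tp x2 y2 + tp x3 y3 with hv
  rw [show c + tp x1 y1 + tp x2 y2 + tp x3 y3 = c + v by rw [hv]; simp only [add_assoc]] at q3 r3
  have hvx : dot ((fun _ => 1) + c) v = 1 := by
    rw [hv]; simp only [dot_add, dot_tp]
    simp [a1, a2, a3, b1, b2, b3, CharTwo.add_self_eq_zero]
  have hvx' : dot ((fun _ => 1) + (c + v)) c = 1 := by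
    rw [← add_assoc, add_dot, add_dot, dot_self, one_dot, hsum, CharTwo.add_self_eq_zero, zero_add]
    rw [hv]; simp only [add_dot, tp_dot]
    simp [a1, a2, a3, b1, b2, b3, CharTwo.add_self_eq_zero]
  have h0 : dot ((fun _ => 1) + c) c = 0 := h.2.2.1
  have h4 := D.tv_conj_tv h q3
  rw [dot_add, h0, zero_add, hvx, hvx', o_smul, o_smul] at h4
  rw [show c + v + c = v by rw [add_comm c v, add_assoc, add_self, add_zero],
    show (fun _ => 1) + (c + v) + ((fun _ => 1) + c) = v by
      ext i; simp only [Pi.add_apply]; have := CharTwo.add_self_eq_zero (R := ZMod 2)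
      linear_combination this 1 + this (c i)] at h4
  have hv1 : dot v (fun _ => 1) = 0 := by rw [hv]; simp [add_dot, tp_one]
  obtain ⟨a, b, -, hab, -⟩ := D.tv_fixed h4 hv1
  have hval : ∀ i, i = x1 ∨ i = x2 ∨ i = x3 → i = a ∨ i = b := by
    intro i hi
    by_contra hne
    push Not at hne
    have := congrFun hab i
    rcases hi with rfl | rfl | rfl <;>
      simp [hv, tp, δ_apply, hne.1, hne.2, x12, x13, x23, x12.symm, x13.symm, x23.symm, n11, n12,
        n13, n21, n22, n23, n31, n32, n33] at this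
  rcases hval x1 (Or.inl rfl) with e1 | e1 <;> rcases hval x2 (Or.inr (Or.inl rfl)) with e2 | e2 <;>
    rcases hval x3 (Or.inr (Or.inr rfl)) with e3 | e3 <;>
      first
      | exact x12 (e1.trans e2.symm)
      | exact x13 (e1.trans e3.symm)
      | exact x23 (e2.trans e3.symm)

/-- Some element of the normaliser moves `t`. -/
def Moves : Prop := ∃ g ∈ D.N, g * D.t ≠ D.t * g

/-- All transvections induced by transpositions of one more point are present. -/
def Normal : Prop := ∀ a, D.IsTv (δ a) ((fun _ => 1) + δ a)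

theorem exists_moving [Finite G] (hm : D.Moves) :
    ∃ c f, D.IsTv c f ∧ dot f (fun _ => 1) = 1 := by
  by_contra hno
  push Not at hno
  obtain ⟨g, hg, hgt⟩ := hm
  apply hgt
  rw [D.commutes_t_iff hg]
  set x := D.act g fun _ => 1
  have hx : ∀ a b, x a = x b := by
    intro a b
    by_cases hab : a = b
    · rw [hab]
    have h1 := D.tv_conj (inv_mem hg) (D.tv_swap hab)
    have h0 := (zmod_two _).resolve_right (hno _ _ h1)
    rw [D.dot_adj (inv_mem hg), inv_inv, tp_dot] at h0
    exact CharTwo.add_eq_zero.1 h0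
  obtain ⟨i0⟩ : Nonempty ι := Fintype.card_pos_iff.1 D.card_pos
  rcases zmod_two (x i0) with h | h
  · exfalso
    have hx0 : x = 0 := funext fun i => (hx i i0).trans h
    have := D.act_inv_act hg (fun _ => 1)
    rw [show D.act g (fun _ => 1) = 0 from hx0, D.act_zero (inv_mem hg)] at this
    exact zero_ne_one (congrFun this i0)
  · exact funext fun i => (hx i i0).trans h

theorem normal_of_δ [Finite G] {a : ι} {f : ι → ZMod 2} (h : D.IsTv (δ a) f)
    (hf : dot f (fun _ => 1) = 1) : D.Normal := by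
  intro b
  obtain ⟨rfl, hsum⟩ := D.tv_moving h hf
  by_cases hba : b = a
  · subst hba; exact h
  have := (D.tv_move h hsum (x := a) (y := b) (by simp [δ_apply]) (by simp [δ_apply, hba])).1
  have e : δ a + tp a b = δ b := by rw [tp, ← add_assoc, add_self, zero_add]
  rwa [e] at this

theorem normal_centre [Finite G] (hN : D.Normal) {c f : ι → ZMod 2} (h : D.IsTv c f) :
    w c ≤ 2 := by
  rcases zmod_two (dot f (fun _ => 1)) with hf | hf
  · obtain ⟨a, b, hab, rfl, -⟩ := D.tv_fixed h hf
    simp [w, wt_tp hab]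
  · rcases D.tv_moving_weight h hf with h1 | h1
    · simp [w, h1]
    · obtain ⟨b, rfl⟩ := eq_compl_of_wt h1
      by_cases hm : Fintype.card ι = 2
      · simp [w, show wt ((fun _ => 1) + δ b) = 1 by omega]
      exfalso
      obtain ⟨rfl, -⟩ := D.tv_moving h hf
      rw [← add_assoc, add_self, zero_add] at h
      have h3 := D.tv_conj_tv (hN b) h
      obtain ⟨k, hk⟩ := D.card_even
      have hcard : dot (fun _ : ι => 1) (fun _ : ι => (1 : ZMod 2)) = 0 := by
        rw [dot_self, sum_eq_wt, wt_one, hk, Nat.cast_mul,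
          show ((2 : ℕ) : ZMod 2) = 0 from rfl, zero_mul]
      have hd : dot ((fun _ => 1) + δ b) ((fun _ => 1) + δ b) = 1 := by
        rw [dot_self, sum_eq_one_iff]
        have := wt_compl (δ b)
        have := wt_δ b
        have := D.card_pos
        omega
      rw [hd, dot_δ, δ_apply, if_pos rfl, o_smul, o_smul] at h3
      rw [add_assoc, add_self, add_zero, show δ b + ((fun _ => 1) + δ b) = fun _ => 1 by
        rw [add_comm, add_assoc, add_self, add_zero]] at h3
      obtain ⟨a, a', haa, h4, -⟩ := D.tv_fixed h3 hcard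
      have := congrArg wt h4
      rw [wt_one, wt_tp haa] at this
      exact hm this

/-- The twisting automorphism fixing `t`. -/
def theta (ι : Type) [Fintype ι] [DecidableEq ι] (hev : 2 ∣ Fintype.card ι) : W ι ≃* W ι where
  toFun x := ⟨x.vec + (fun _ => ∑ i, x.vec i), x.perm⟩
  invFun x := ⟨x.vec + (fun _ => ∑ i, x.vec i), x.perm⟩
  left_inv x := by
    obtain ⟨k, hk⟩ := hev
    ext i
    · simp only [Pi.add_apply, Finset.sum_add_distrib, Finset.sum_const, Finset.card_univ, hk,
        mul_nsmul, two_nsmul, CharTwo.add_self_eq_zero, nsmul_zero, add_zero]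
      rw [add_assoc, CharTwo.add_self_eq_zero, add_zero]
    · rfl
  right_inv x := by
    obtain ⟨k, hk⟩ := hev
    ext i
    · simp only [Pi.add_apply, Finset.sum_add_distrib, Finset.sum_const, Finset.card_univ, hk,
        mul_nsmul, two_nsmul, CharTwo.add_self_eq_zero, nsmul_zero, add_zero]
      rw [add_assoc, CharTwo.add_self_eq_zero, add_zero]
    · rfl
  map_mul' x y := by
    ext i
    · have : ∑ j, y.vec (x.perm.symm j) = ∑ j, y.vec j := Equiv.sum_comp x.perm.symm y.vec
      simp only [W.mul_vec, Pi.add_apply, Function.comp_apply, Finset.sum_add_distrib, this]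
      ring
    · rfl

/-- The twisted setup. -/
def twistTheta : Setup G ι :=
  D.twist (theta ι D.card_even) (fun e => rfl) (by
    obtain ⟨k, hk⟩ := D.card_even
    ext i
    · simp [theta, hk, show (2 : ZMod 2) = 0 from rfl]
    · rfl)
    (fun e => by
      obtain ⟨k, hk⟩ := D.card_even
      simp [theta, Finset.sum_add_distrib, hk, show (2 : ZMod 2) = 0 from rfl])

/-- The map on vectors induced by the twist. -/
def th (e : ι → ZMod 2) : ι → ZMod 2 := e + fun _ => ∑ i, e i

theorem twistTheta_ρ (e : ι → ZMod 2) : D.twistTheta.ρ (W.em e) = D.ρ (W.em (th e)) := rfl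

include D in
theorem th_th (e : ι → ZMod 2) : th (th e) = e :=
  congrArg W.vec ((theta ι D.card_even).left_inv (W.em e))

theorem twistTheta_E : D.twistTheta.E = D.E := by
  ext g
  rw [Setup.mem_E, Setup.mem_E]
  constructor
  · rintro ⟨e, rfl⟩; exact ⟨th e, rfl⟩
  · rintro ⟨e, rfl⟩; exact ⟨th e, by rw [twistTheta_ρ, D.th_th]⟩

theorem twistTheta_N : D.twistTheta.N = D.N := by rw [Setup.N, D.twistTheta_E, Setup.N]

theorem twistTheta_act {g : G} (hg : g ∈ D.N) (e : ι → ZMod 2) :
    D.twistTheta.act g e = th (D.act g (th e)) :=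
  D.twistTheta.act_eq (D.twistTheta_N.symm ▸ hg) (by
    rw [twistTheta_ρ, twistTheta_ρ, D.th_th, D.act_spec hg])

theorem twistTheta_range : D.twistTheta.ρ.range = D.ρ.range := by
  ext g
  constructor
  · rintro ⟨x, rfl⟩; exact ⟨_, rfl⟩
  · rintro ⟨x, rfl⟩
    exact ⟨(theta ι D.card_even).symm x, congrArg D.ρ ((theta ι D.card_even).apply_symm_apply x)⟩

/-- Either `D` or its twist is normal. -/
theorem normal_or_twist [Finite G] (hm : D.Moves) : D.Normal ∨ D.twistTheta.Normal := by
  obtain ⟨c, f, h, hf⟩ := D.exists_moving hm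
  rcases D.tv_moving_weight h hf with hw | hw
  · obtain ⟨a, rfl⟩ := eq_δ_of_wt hw
    exact Or.inl (D.normal_of_δ h hf)
  · obtain ⟨a, rfl⟩ := eq_compl_of_wt hw
    obtain ⟨rfl, hsum⟩ := D.tv_moving h hf
    rw [← add_assoc, add_self, zero_add] at h hf
    obtain ⟨-, -, h0, g, hg, hact⟩ := h
    refine Or.inr (D.twistTheta.normal_of_δ (a := a) (f := (fun _ => 1) + δ a) ?_ ?_)
    · refine ⟨fun e => by simpa [δ_apply] using congrFun e a, ?_, ?_, g,
        D.twistTheta_N.symm ▸ hg, fun e => ?_⟩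
      · intro e
        have h1 := congrArg (fun v => ∑ i, v i) e
        simp only [Pi.zero_apply, Finset.sum_const_zero] at h1
        rw [hsum] at h1
        exact one_ne_zero h1
      · rw [dot_δ]; simp [δ_apply, CharTwo.add_self_eq_zero]
      · rw [D.twistTheta_act hg, hact]
        have h1 : dot (δ a) (th e) = dot ((fun _ => 1) + δ a) e := by
          rw [δ_dot, add_dot, one_dot, δ_dot, th, Pi.add_apply, add_comm]
        ext i
        simp only [th, Pi.add_apply, Pi.smul_apply, smul_eq_mul, Finset.sum_add_distrib,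
          ← Finset.mul_sum, Finset.sum_const, Finset.card_univ]
        have hs' : ∑ x, ((1 : ZMod 2) + δ a x) = 1 := hsum
        rw [Finset.sum_add_distrib] at hs'
        obtain ⟨k, hk⟩ := D.card_even
        simp only [Finset.sum_const, Finset.card_univ, hk, mul_nsmul, two_nsmul,
          CharTwo.add_self_eq_zero, nsmul_zero, zero_add] at hs' ⊢
        rw [hs']
        rw [th] at h1
        rw [h1]
        have h2 := CharTwo.add_self_eq_zero (R := ZMod 2)
        linear_combination h2 (∑ x, e x) + h2 (dot ((fun _ => 1) + δ a) e)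
    · rw [dot_one]; exact hsum

theorem w_act_le [Finite G] (hN : D.Normal) {g : G} (hg : g ∈ D.N) :
    ∀ n, ∀ e : ι → ZMod 2, wt e = n → w (D.act g e) ≤ w e := by
  intro n
  induction n using Nat.strong_induction_on with
  | _ n ih =>
    intro e he
    rcases Nat.lt_or_ge n 1 with h0 | h0
    · rw [wt_eq_zero (show wt e = 0 by omega), D.act_zero hg]
    rcases Nat.lt_or_ge n 2 with h1 | h1
    · obtain ⟨a, rfl⟩ := eq_δ_of_wt (show wt e = 1 by omega)
      exact (D.normal_centre hN (D.tv_conj hg (hN a))).trans (by simp [w, wt_δ])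
    obtain ⟨s, hs, hsc⟩ := Finset.exists_subset_card_eq (show 2 ≤ wt e by omega)
    obtain ⟨x, y, hxy, rfl⟩ := Finset.card_eq_two.1 hsc
    simp only [Finset.insert_subset_iff, Finset.singleton_subset_iff, Finset.mem_filter,
      Finset.mem_univ, true_and] at hs
    have hwe : wt (e + tp x y) + 2 * 2 = wt e + 2 := by
      have h := wt_add e (tp x y)
      rw [wt_tp hxy] at h
      have hint : (Finset.univ.filter fun i => e i ≠ 0 ∧ tp x y i ≠ 0).card = 2 := by
        rw [Finset.card_eq_two]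
        refine ⟨x, y, hxy, ?_⟩
        ext i
        by_cases hix : i = x
        · subst hix; simp [tp, δ_apply, hxy, hs.1]
        · by_cases hiy : i = y
          · subst hiy; simp [tp, δ_apply, hix, hs.2]
          · simp [tp, δ_apply, hix, hiy]
      rwa [hint] at h
    calc w (D.act g e) = w (D.act g (e + tp x y) + D.act g (tp x y)) := by
          rw [← D.act_add hg, add_assoc, add_self, add_zero]
      _ ≤ w (D.act g (e + tp x y)) + w (D.act g (tp x y)) := w_add_le _ _
      _ ≤ w (e + tp x y) + 2 := Nat.add_le_add (ih _ (by omega) _ rfl)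
          (D.normal_centre hN (D.tv_conj hg (D.tv_swap hxy)))
      _ = w e := by unfold w; omega

theorem w_act [Finite G] (hN : D.Normal) {g : G} (hg : g ∈ D.N) (e : ι → ZMod 2) :
    w (D.act g e) = w e := by
  refine le_antisymm (D.w_act_le hN hg _ e rfl) ?_
  have := D.w_act_le hN (inv_mem hg) _ (D.act g e) rfl
  rwa [D.act_inv_act hg] at this

theorem exists_act [Finite G] (hN : D.Normal) {e e' : ι → ZMod 2} (h : w e = w e') :
    ∃ g ∈ D.N, D.act g e = e' := by
  have even : ∀ u : ι → ZMod 2, ∃ g ∈ D.N, wt (D.act g u) = w u := by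
    intro u
    rcases Nat.mod_two_eq_zero_or_one (wt u) with h1 | h1
    · exact ⟨1, one_mem _, by rw [D.act_one, w, h1, add_zero]⟩
    obtain ⟨a, ha⟩ : ∃ a, u a = 0 := by
      by_contra hno
      push Not at hno
      have : u = fun _ => 1 := funext fun i => (zmod_two _).resolve_left (hno i)
      rw [this, wt_one] at h1
      obtain ⟨k, hk⟩ := D.card_even
      omega
    obtain ⟨-, -, -, g, hg, hact⟩ := hN a
    refine ⟨g, hg, ?_⟩
    rw [hact, add_dot, one_dot, δ_dot, ha, add_zero, (sum_eq_one_iff u).2 h1]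
    have h2 := wt_add u (δ a)
    rw [wt_δ, show (Finset.univ.filter fun i => u i ≠ 0 ∧ δ a i ≠ 0).card = 0 by
      rw [Finset.card_eq_zero, Finset.filter_eq_empty_iff]
      intro i _ hi
      by_cases hia : i = a
      · exact hi.1 (hia ▸ ha)
      · exact hi.2 (by simp [δ_apply, hia])] at h2
    rw [show u + (1 : ZMod 2) • δ a = u + δ a from congrArg (u + ·) (funext fun i => one_mul _), w, h1]
    omega
  obtain ⟨g, hg, hge⟩ := even e
  obtain ⟨g', hg', hge'⟩ := even e'
  set u := D.act g e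
  set u' := D.act g' e'
  have hc : (Finset.univ.filter fun i => u i ≠ 0).card =
      (Finset.univ.filter fun i => u' i ≠ 0).card := by
    change wt u = wt u'; rw [hge, hge', h]
  let eqv : {i // u i ≠ 0} ≃ {i // u' i ≠ 0} := Fintype.equivOfCardEq (by
    simpa [Fintype.card_subtype] using hc)
  let σ : Equiv.Perm ι := eqv.extendSubtype
  have hσ : D.act (D.ρ (W.pm σ)) u = u' := by
    rw [D.act_ρ]
    ext j
    obtain ⟨i, rfl⟩ := σ.surjective j
    simp only [W.pm_perm, Function.comp_apply, Equiv.symm_apply_apply]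
    by_cases hi : u i ≠ 0
    · have := eqv.extendSubtype_mem i hi
      rw [(zmod_two _).resolve_left hi, (zmod_two _).resolve_left this]
    · have := eqv.extendSubtype_not_mem i hi
      rw [not_not.1 hi, not_not.1 this]
  refine ⟨g'⁻¹ * D.ρ (W.pm σ) * g, mul_mem (mul_mem (inv_mem hg') (D.ρ_mem_N _)) hg, ?_⟩
  rw [D.act_mul (mul_mem (inv_mem hg') (D.ρ_mem_N _)) hg, D.act_mul (inv_mem hg') (D.ρ_mem_N _),
    hσ, D.act_inv_act hg']

/-- The orbit of `t`. -/
theorem t_orbit [Finite G] {g : G} (hg : g ∈ D.N) :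
    D.act g (fun _ => 1) = (fun _ => 1) ∨
      ∃ a, D.act g (fun _ => 1) = δ a ∨ D.act g (fun _ => 1) = (fun _ => 1) + δ a := by
  by_cases hgt : g * D.t = D.t * g
  · exact Or.inl ((D.commutes_t_iff hg).1 hgt)
  obtain ⟨k, hk⟩ := D.card_even
  have hw1 : w (fun _ : ι => (1 : ZMod 2)) = Fintype.card ι := by
    rw [w, wt_one]; omega
  have key : ∀ x : ι → ZMod 2, w x = Fintype.card ι →
      x = (fun _ => 1) ∨ ∃ a, x = (fun _ => 1) + δ a := by
    intro x hx
    unfold w at hx
    rcases Nat.mod_two_eq_zero_or_one (wt x) with h | h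
    · exact Or.inl (wt_eq_card (by omega))
    · exact Or.inr (eq_compl_of_wt (by omega))
  rcases D.normal_or_twist ⟨g, hg, hgt⟩ with hN | hN
  · rcases key _ ((D.w_act hN hg _).trans hw1) with h | ⟨a, h⟩
    · exact Or.inl h
    · exact Or.inr ⟨a, Or.inr h⟩
  · have h2 := D.twistTheta.w_act hN (D.twistTheta_N.symm ▸ hg : g ∈ D.twistTheta.N) (fun _ => 1)
    have hth : th (fun _ : ι => (1 : ZMod 2)) = fun _ => 1 := by
      ext i; simp [th, hk, show (2 : ZMod 2) = 0 from rfl]
    rw [D.twistTheta_act hg, hth] at h2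
    rcases key _ (h2.trans hw1) with h | ⟨a, h⟩
    · refine Or.inl ?_
      rw [← D.th_th (D.act g fun _ => 1), h, hth]
    · refine Or.inr ⟨a, Or.inl ?_⟩
      rw [← D.th_th (D.act g fun _ => 1), h]
      ext i
      simp only [th, Pi.add_apply, Finset.sum_add_distrib, Finset.sum_const, Finset.card_univ, hk,
        mul_nsmul, two_nsmul, CharTwo.add_self_eq_zero, nsmul_zero, zero_add]
      rw [show ∑ j, δ a j = 1 by simp [δ_apply], add_comm (1 : ZMod 2) (δ a i), add_assoc,
        CharTwo.add_self_eq_zero, add_zero]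

end Setup

end Cfsg.Kondo67
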