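import Cfsg.Agent.Kondo67.Transvection

/-!
# The base is weakly closed
-/

set_option autoImplicit false

namespace Cfsg.Kondo67

open Subgroup Finset Equiv

variable {G : Type*} [Group G] {ι : Type} [Fintype ι] [DecidableEq ι]

/-- Conjugate subgroup. -/
def cj (g : G) (H : Subgroup G) : Subgroup G := H.map (MulAut.conj g).toMonoidHom

theorem mem_cj {g : G} {H : Subgroup G} {x : G} : x ∈ cj g H ↔ g⁻¹ * x * g ∈ H := by
  constructor
  · rintro ⟨y, hy, rfl⟩; simpa [mul_assoc] using hy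
  · exact fun h => ⟨_, h, by simp [mul_assoc]⟩

theorem cj_mul (g h : G) (H : Subgroup G) : cj (g * h) H = cj g (cj h H) := by
  ext x; simp [mem_cj, mul_assoc]

theorem cj_one (H : Subgroup G) : cj 1 H = H := by
  ext x; simp [mem_cj]

theorem cj_inv_eq {g : G} {H K : Subgroup G} (h : cj g H = K) : cj g⁻¹ K = H := by
  rw [← h, ← cj_mul, inv_mul_cancel, cj_one]

theorem card_cj (g : G) (H : Subgroup G) : Nat.card (cj g H) = Nat.card H :=
  Subgroup.card_map_of_injective (MulAut.conj g).injective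

theorem cj_inf (g : G) (H K : Subgroup G) : cj g (H ⊓ K) = cj g H ⊓ cj g K :=
  Subgroup.map_inf _ _ _ (MulAut.conj g).injective

theorem mem_normalizer_iff_cj {g : G} {H : Subgroup G} :
    g ∈ normalizer (H : Set G) ↔ cj g H = H := by
  rw [Subgroup.mem_normalizer_iff]
  constructor
  · intro h
    ext x
    rw [mem_cj, h]
    simp [mul_assoc]
  · intro h x
    nth_rewrite 2 [← h]
    rw [mem_cj]
    simp [mul_assoc]

/-- The stabiliser of an unordered pair of subgroups. -/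
def pairStab (A B : Subgroup G) : Subgroup G where
  carrier := {g | (cj g A = A ∧ cj g B = B) ∨ (cj g A = B ∧ cj g B = A)}
  one_mem' := Or.inl ⟨cj_one A, cj_one B⟩
  mul_mem' {g h} hg hh := by
    simp only [Set.mem_setOf_eq, cj_mul] at *
    rcases hh with ⟨h1, h2⟩ | ⟨h1, h2⟩ <;> rw [h1, h2]
    · exact hg
    · rcases hg with ⟨g1, g2⟩ | ⟨g1, g2⟩
      · exact Or.inr ⟨g2, g1⟩
      · exact Or.inl ⟨g2, g1⟩
  inv_mem' {g} hg := by
    rcases hg with ⟨h1, h2⟩ | ⟨h1, h2⟩
    · exact Or.inl ⟨cj_inv_eq h1, cj_inv_eq h2⟩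
    · exact Or.inr ⟨cj_inv_eq h2, cj_inv_eq h1⟩

namespace W

omit [Fintype ι] [DecidableEq ι] in
/-- Permutations commuting with `κ` normalise `tw κ`. -/
theorem conj_mem_tw {κ : Perm ι} {hκ : κ * κ = 1} {x y : W ι} (hx : x.perm * κ = κ * x.perm)
    (hy : y ∈ tw κ hκ) : x * y * x⁻¹ ∈ tw κ hκ := by
  have hc : ∀ i, x.perm (κ i) = κ (x.perm i) := fun i => by
    rw [← Equiv.Perm.mul_apply, hx, Equiv.Perm.mul_apply]
  have hκ' : ∀ i, κ (κ i) = i := fun i => by
    rw [← Equiv.Perm.mul_apply, hκ, Equiv.Perm.one_apply]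
  have hperm : ∀ i, (x * y * x⁻¹).perm i = i ∨ (x * y * x⁻¹).perm i = κ i := by
    intro i
    simp only [mul_perm, inv_perm, Equiv.Perm.mul_apply]
    have hi : x.perm (x.perm⁻¹ i) = i := by
      rw [← Equiv.Perm.mul_apply, mul_inv_cancel, Equiv.Perm.one_apply]
    rcases hy.2 (x.perm⁻¹ i) with h | h <;> rw [h]
    · exact Or.inl hi
    · rw [hc, hi]; exact Or.inr rfl
  refine ⟨fun i => ?_, hperm⟩
  obtain ⟨z, rfl⟩ : ∃ z, i = x.perm z := ⟨x.perm⁻¹ i, by
    rw [← Equiv.Perm.mul_apply, mul_inv_cancel, Equiv.Perm.one_apply]⟩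
  have hsy : ∀ j, y.perm.symm j = y.perm j := fun j => by
    rw [Equiv.symm_apply_eq, tw_perm_invol hy]
  have hev : ∀ j, (x * y * x⁻¹).vec (x.perm j) =
      x.vec (x.perm j) + y.vec j + x.vec (x.perm (y.perm j)) := by
    intro j
    simp only [mul_vec, inv_vec, Pi.add_apply, Function.comp_apply, mul_perm,
      Equiv.symm_apply_apply]
    congr 2
    rw [← hsy j]
    congr 1
    simp [Equiv.Perm.mul_def, Equiv.symm_trans_apply]
  rw [← hc, hev, hev, hy.1]
  rcases hy.2 z with h | h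
  · have h' : y.perm (κ z) = κ z := by
      rcases hy.2 (κ z) with h' | h'
      · exact h'
      · rw [hκ'] at h'
        have : κ z = z := y.perm.injective (h'.trans h.symm)
        rw [h', this]
    rw [h, h']
    linear_combination (CharTwo.add_self_eq_zero (x.vec (x.perm (κ z))) : _ = (0 : ZMod 2))
      - (CharTwo.add_self_eq_zero (x.vec (x.perm z)) : _ = (0 : ZMod 2))
  · have h' : y.perm (κ z) = z := by rw [← h, tw_perm_invol hy]
    rw [h, h']
    ring

theorem commute_of_normalises {κ : Perm ι} {hκ : κ * κ = 1} {x : W ι}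
    (h : x * pm κ * x⁻¹ ∈ tw κ hκ) : x.perm * κ = κ * x.perm := by
  set σ := x.perm * κ * x.perm⁻¹ with hσ
  have h2 : ∀ i, σ i = i ∨ σ i = κ i := fun i => h.2 i
  have hsub : σ.support ⊆ κ.support := by
    intro i hi
    rw [Equiv.Perm.mem_support] at hi ⊢
    rcases h2 i with h' | h'
    · exact absurd h' hi
    · rwa [← h']
  have heq : σ.support = κ.support :=
    Finset.eq_of_subset_of_card_le hsub (by rw [hσ, Equiv.Perm.card_support_conj])
  have hσκ : σ = κ := Equiv.ext fun i => by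
    rcases h2 i with h' | h'
    · rw [h']
      have : i ∉ σ.support := by rwa [Equiv.Perm.notMem_support]
      rw [heq, Equiv.Perm.notMem_support] at this
      exact this.symm
    · exact h'
  calc x.perm * κ = σ * x.perm := by rw [hσ]; group
    _ = κ * x.perm := by rw [hσκ]

end W

/-- The fixed points of an involution commuting group form one orbit of even size. -/
theorem exists_move_fix {κ : Perm ι} (hev : 2 ∣ Fintype.card ι) (hκ : κ * κ = 1)
    {T : Subgroup (Perm ι)} (hT : T ≤ centralizer ({κ} : Set (Perm ι)))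
    (hodd : ¬2 ∣ T.relIndex (centralizer ({κ} : Set (Perm ι)))) {a : ι} (ha : κ a = a) :
    ∃ σ ∈ T, σ a ≠ a := by
  refine exists_move hT hodd a κ.supportᶜ (fun y => ?_) ?_
  · rw [Finset.mem_compl, Equiv.Perm.notMem_support]
    constructor
    · intro hy
      refine ⟨Equiv.swap a y, mem_centralizer_singleton_iff.2 (Equiv.ext fun i => ?_),
        Equiv.swap_apply_left _ _⟩
      simp only [Equiv.Perm.mul_apply]
      by_cases hia : i = a
      · subst hia; rw [ha, Equiv.swap_apply_left, hy]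
      by_cases hiy : i = y
      · subst hiy; rw [hy, Equiv.swap_apply_right, ha]
      have hκi : ∀ z, κ z = z → i ≠ z → κ i ≠ z := fun z hz hne e =>
        hne (κ.injective (e.trans hz.symm))
      rw [Equiv.swap_apply_of_ne_of_ne (hκi a ha hia) (hκi y hy hiy),
        Equiv.swap_apply_of_ne_of_ne hia hiy]
    · rintro ⟨σ, hσ, rfl⟩
      have h := mem_centralizer_singleton_iff.1 hσ
      rw [← Equiv.Perm.mul_apply, ← h, Equiv.Perm.mul_apply, ha]
  · rw [Finset.card_compl]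
    exact Nat.dvd_sub hev (Equiv.Perm.two_dvd_card_support (by rw [sq, hκ]))

namespace Setup

variable (D : Setup G ι)

/-- The image of `tw κ`. -/
def B (κ : Perm ι) (hκ : κ * κ = 1) : Subgroup G := (W.tw κ hκ).map D.ρ

theorem t_mem_B (κ : Perm ι) (hκ : κ * κ = 1) : D.t ∈ D.B κ hκ :=
  ⟨_, W.em_mem_tw.2 fun _ => rfl, D.ρ_t⟩

theorem mem_N_iff {g : G} : g ∈ D.N ↔ cj g D.E = D.E := mem_normalizer_iff_cj

theorem ρ_mem_B {κ : Perm ι} {hκ : κ * κ = 1} {x : W ι} :
    D.ρ x ∈ D.B κ hκ ↔ x ∈ W.tw κ hκ :=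
  ⟨fun ⟨y, hy, h⟩ => D.ρ_injective h ▸ hy, fun h => ⟨x, h, rfl⟩⟩

theorem B_le_range (κ : Perm ι) (hκ : κ * κ = 1) : D.B κ hκ ≤ D.ρ.range := map_le_range _ _

theorem E_le_range : D.E ≤ D.ρ.range := map_le_range _ _

/-- The projection of a conjugation in `C(t)`. -/
theorem q_conj {g : G} (hg : g * D.t = D.t * g) {x y : W ι}
    (h : g * D.ρ x * g⁻¹ = D.ρ y) :
    D.q ⟨g, D.mem_cent hg⟩ * x * (D.q ⟨g, D.mem_cent hg⟩)⁻¹ = y := by
  have h2 := congrArg D.q (show (⟨g, D.mem_cent hg⟩ : ↥(centralizer ({D.t} : Set G))) *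
    ⟨D.ρ x, D.ρ_mem x⟩ * ⟨g, D.mem_cent hg⟩⁻¹ = ⟨D.ρ y, D.ρ_mem y⟩ from Subtype.ext h)
  rwa [map_mul, map_mul, map_inv, D.q_ρ, D.q_ρ] at h2

theorem no_swap {κ : Perm ι} {hκ : κ * κ = 1} (hne : κ ≠ 1) {g : G} (hg : g * D.t = D.t * g)
    (h : cj g D.E = D.B κ hκ) : False := by
  apply hne
  have hmem : D.ρ (W.pm κ) ∈ cj g D.E := h.symm ▸ D.ρ_mem_B.2 (W.pm_mem_tw κ hκ)
  obtain ⟨e, he⟩ := D.mem_E.1 (mem_cj.1 hmem)
  have h3 := D.q_conj hg (x := W.em e) (y := W.pm κ) (by rw [he]; group)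
  rw [W.conj_em] at h3
  exact (congrArg W.perm h3).symm

theorem not_swapped [Finite G] {κ : Perm ι} {hκ : κ * κ = 1} (hne : κ ≠ 1) {r : G}
    (hE : cj r D.E = D.B κ hκ) (hB : cj r (D.B κ hκ) = D.E)
    (hr2 : r * r * D.t = D.t * (r * r)) : False := by
  classical
  have hrt : ¬ r * D.t = D.t * r := fun h => D.no_swap hne h hE
  have htB : r * D.t * r⁻¹ ∈ D.E := hB ▸ mem_cj.2 (by simpa [mul_assoc] using D.t_mem_B κ hκ)
  obtain ⟨x, hx⟩ := D.mem_E.1 htB
  have hxB : W.em x ∈ W.tw κ hκ := by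
    rw [← D.ρ_mem_B, ← hE, mem_cj, hx]
    simpa [mul_assoc] using D.t_mem_E
  have hxκ := W.em_mem_tw.1 hxB
  have hx1 : x ≠ fun _ => 1 := by
    intro h
    rw [h, D.ρ_t] at hx
    exact hrt (mul_inv_eq_iff_eq_mul.1 hx.symm)
  have hrx : r * D.ρ (W.em x) * r⁻¹ = D.t := by
    have h := mul_inv_eq_iff_eq_mul.2 hr2
    rw [hx]
    conv_rhs => rw [← h]
    group
  have hmemB : ∀ e, r * D.ρ (W.em e) * r⁻¹ ∈ D.B κ hκ := fun e =>
    hE ▸ mem_cj.2 (by simpa [mul_assoc] using D.em_mem_E e)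
  have hmemE : ∀ y ∈ W.tw κ hκ, r * D.ρ y * r⁻¹ ∈ D.E := fun y hy =>
    hB ▸ mem_cj.2 (by simpa [mul_assoc] using D.ρ_mem_B.2 hy)
  -- the stabiliser of `x` is mapped into itself and normalises `tw κ`
  let C0 : Subgroup (W ι) := centralizer ({W.em x} : Set (W ι))
  have hC0 : ∀ c : W ι, c ∈ C0 ↔ x ∘ c.perm.symm = x := by
    intro c
    rw [mem_centralizer_singleton_iff, ← mul_inv_eq_iff_eq_mul, W.conj_em]
    exact ⟨fun h => W.em_injective h, congrArg _⟩
  have hct : ∀ c : C0, (r * D.ρ c * r⁻¹) * D.t = D.t * (r * D.ρ c * r⁻¹) := by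
    intro c
    have h := congrArg D.ρ (mem_centralizer_singleton_iff.1 c.2)
    rw [map_mul, map_mul] at h
    rw [← hrx]
    calc r * D.ρ c * r⁻¹ * (r * D.ρ (W.em x) * r⁻¹) = r * (D.ρ c * D.ρ (W.em x)) * r⁻¹ := by group
      _ = _ := by rw [h]; group
  let f : C0 → W ι := fun c => D.q ⟨_, D.mem_cent (hct c)⟩
  have hfB : ∀ (c : C0) (y : W ι), y ∈ W.tw κ hκ → f c * y * (f c)⁻¹ ∈ W.tw κ hκ := by
    intro c y hy
    obtain ⟨e, he⟩ := D.mem_E.1 (show r⁻¹ * D.ρ y * r ∈ D.E from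
      mem_cj.1 (hE.symm ▸ D.ρ_mem_B.2 hy))
    obtain ⟨z, hz, hz'⟩ := hmemB (e ∘ (c : W ι).perm.symm)
    have h := D.q_conj (hct c) (x := y) (y := z) (by
      rw [hz', ← W.conj_em, map_mul, map_mul, map_inv, he]; group)
    rwa [h]
  have hfmem : ∀ c : C0, f c ∈ C0 := by
    intro c
    rw [hC0]
    have hcomm : r * D.ρ (c : W ι) * r⁻¹ * D.ρ (W.em x) * (r * D.ρ (c : W ι) * r⁻¹)⁻¹
        = D.ρ (W.em x) := by
      rw [hx]
      calc _ = r * (D.ρ (c : W ι) * D.t) * (D.ρ (c : W ι))⁻¹ * r⁻¹ := by group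
        _ = _ := by rw [D.comm_t]; group
    have h := D.q_conj (hct c) hcomm
    rw [W.conj_em] at h
    exact W.em_injective h
  have hfinj : Function.Injective f := by
    intro c d hcd
    apply Subtype.ext
    apply D.ρ_injective
    let z : ↥(centralizer ({D.t} : Set G)) := ⟨_, D.mem_cent (hct d)⟩⁻¹ * ⟨_, D.mem_cent (hct c)⟩
    have hz : D.q z = 1 := by
      simp only [z, map_mul, map_inv]
      exact inv_mul_eq_one.2 hcd.symm
    have hzv : (z : G) = r * D.ρ (((d : W ι))⁻¹ * (c : W ι)) * r⁻¹ := by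
      simp only [z, Subgroup.coe_mul, Subgroup.coe_inv, map_mul, map_inv]; group
    have hcent : D.ρ ((d : W ι)⁻¹ * (c : W ι)) ∈ D.E := by
      refine D.cent_E fun e => ?_
      obtain ⟨w0, hw0, hw0'⟩ := hmemB e
      obtain ⟨w1, hw1, hw1'⟩ := hmemB (e ∘ ((d : W ι)⁻¹ * (c : W ι)).perm.symm)
      rw [← W.conj_em, map_mul, map_mul, map_inv] at hw1'
      have hmz : (z : G) * D.t = D.t * (z : G) := mem_centralizer_singleton_iff.1 z.2
      have heq : (z : G) * D.ρ w0 * (z : G)⁻¹ = D.ρ w1 := by rw [hzv, hw0', hw1']; group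
      have h := D.q_conj hmz heq
      rw [show D.q ⟨(z : G), D.mem_cent hmz⟩ = 1 from hz, one_mul, inv_one, mul_one] at h
      rw [← h, hw0'] at hw1'
      rw [← mul_inv_eq_iff_eq_mul]
      have := congrArg (fun u => r⁻¹ * u * r) hw1'
      simpa [mul_assoc] using this.symm
    obtain ⟨e, he⟩ := D.mem_E.1 hcent
    obtain ⟨w0, hw0, hw0'⟩ := hmemB e
    have hz' : z = ⟨D.ρ w0, D.ρ_mem w0⟩ := Subtype.ext (by
      show (z : G) = D.ρ w0
      rw [hw0', hzv, he])
    have hz'' := congrArg D.q hz'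
    rw [D.q_ρ, hz] at hz''
    rw [← hz'', map_one] at hw0'
    have : D.ρ ((d : W ι)⁻¹ * (c : W ι)) = 1 := by
      rw [← he]
      have h := congrArg (fun u => r⁻¹ * u * r) hw0'
      simpa [mul_assoc] using h.symm
    rw [map_mul, map_inv] at this
    exact (inv_mul_eq_one.1 this).symm
  have hcomm : ∀ π : Perm ι, x ∘ π.symm = x → π * κ = κ * π := by
    intro π hπ
    haveI : Finite (W ι) := W.finite
    let f' : C0 → C0 := fun c => ⟨f c, hfmem c⟩
    have hs : Function.Surjective f' := Finite.injective_iff_surjective.1 fun a b h =>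
      hfinj (congrArg Subtype.val h)
    obtain ⟨c, hc⟩ := hs ⟨W.pm π, (hC0 _).2 hπ⟩
    have h2 := hfB c (W.pm κ) (W.pm_mem_tw κ hκ)
    rw [show f c = W.pm π from congrArg Subtype.val hc] at h2
    exact W.commute_of_normalises h2
  have hκ' : ∀ i, κ (κ i) = i := fun i => by
    rw [← Equiv.Perm.mul_apply, hκ, Equiv.Perm.one_apply]
  -- a moved pair is a full level set of `x`
  have hlevel : ∀ a, κ a ≠ a → ∀ i, x i = x a → i = a ∨ i = κ a := by
    intro a ha i hi
    by_contra hbad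
    push Not at hbad
    have h := hcomm (Equiv.swap (κ a) i) (by
      ext j
      simp only [Function.comp_apply, Equiv.symm_swap]
      by_cases h1 : j = κ a
      · subst h1; rw [Equiv.swap_apply_left, hi, hxκ]
      by_cases h2 : j = i
      · subst h2; rw [Equiv.swap_apply_right, hxκ, hi]
      rw [Equiv.swap_apply_of_ne_of_ne h1 h2])
    have h3 := congrArg (fun p : Perm ι => p a) h
    simp only [Equiv.Perm.mul_apply, Equiv.swap_apply_left,
      Equiv.swap_apply_of_ne_of_ne (Ne.symm ha) (Ne.symm hbad.1)] at h3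
    exact hbad.2 h3
  -- no moved point has value one
  have hzero : ∀ a, κ a ≠ a → x a = 0 := by
    intro a ha
    refine (zmod_two _).resolve_right fun hxa => ?_
    have hx_eq : x = tp a (κ a) := by
      ext i
      by_cases hi : i = a
      · subst hi; simp [tp, δ_apply, hxa, Ne.symm ha]
      by_cases hi' : i = κ a
      · subst hi'; simp [tp, δ_apply, ha, hxκ, hxa]
      rcases zmod_two (x i) with h | h
      · simp [tp, δ_apply, hi, hi', h]
      · rcases hlevel a ha i (h.trans hxa.symm) with h' | h'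
        · exact absurd h' hi
        · exact absurd h' hi'
    obtain ⟨α, hα, hα'⟩ := hmemB (δ a)
    -- commutators with `α` lie in `{0, 1}`
    have hcom : ∀ e : ι → ZMod 2, e + e ∘ α.perm.symm = 0 ∨
        e + e ∘ α.perm.symm = fun _ => 1 := by
      intro e
      obtain ⟨y, hy, hy'⟩ : r⁻¹ * D.ρ (W.em e) * r ∈ D.B κ hκ :=
        mem_cj.1 (hB.symm ▸ D.em_mem_E e)
      have h1 : r * D.ρ (W.em (δ a) * y * (W.em (δ a))⁻¹ * y⁻¹) * r⁻¹
          = D.ρ (α * W.em e * α⁻¹ * (W.em e)⁻¹) := by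
        simp only [map_mul, map_inv]
        rw [hα', hy']; group
      have h2 : W.em (δ a) * y * (W.em (δ a))⁻¹ * y⁻¹ = W.em (δ a + δ (y.perm a)) := by
        rw [mul_assoc (W.em (δ a)) y, mul_assoc (W.em (δ a)) (y * _), W.em_inv, W.conj_em,
          δ_comp, ← W.em_add]
      have h3 : α * W.em e * α⁻¹ * (W.em e)⁻¹ = W.em (e ∘ α.perm.symm + e) := by
        rw [W.conj_em, W.em_inv, ← W.em_add]
      rw [h2, h3, add_comm (e ∘ _)] at h1
      rcases hy.2 a with h | h <;> rw [h] at h1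
      · rw [add_self, W.em_zero, map_one] at h1
        left
        have h4 : D.ρ (W.em (e + e ∘ α.perm.symm)) = D.ρ (W.em 0) := by
          rw [W.em_zero, map_one, ← h1]; group
        exact W.em_injective (D.ρ_injective h4)
      · rw [show δ a + δ (κ a) = x from hx_eq.symm, hrx, ← D.ρ_t] at h1
        exact Or.inr (W.em_injective (D.ρ_injective h1)).symm
    have hα1 : α.perm ≠ 1 := by
      intro h
      obtain ⟨e, he⟩ := D.mem_E.1 (hmemE _ (W.pm_mem_tw κ hκ))
      have h1 : r * D.ρ (W.em (δ a) * W.pm κ * (W.em (δ a))⁻¹ * (W.pm κ)⁻¹) * r⁻¹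
          = D.ρ (α * W.em e * α⁻¹ * (W.em e)⁻¹) := by
        simp only [map_mul, map_inv]
        rw [hα', he]; group
      rw [mul_assoc (W.em (δ a)) (W.pm κ), mul_assoc (W.em (δ a)) (W.pm κ * _), W.em_inv,
        W.conj_em, δ_comp, ← W.em_add, W.pm_perm, show δ a + δ (κ a) = x from hx_eq.symm,
        W.conj_em, W.em_inv, ← W.em_add, h, hrx, ← D.ρ_t] at h1
      have h2 := congrFun (W.em_injective (D.ρ_injective h1)) a
      simp [Equiv.Perm.one_def, CharTwo.add_self_eq_zero] at h2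
    obtain ⟨i, hi⟩ : ∃ i, α.perm i ≠ i := by
      by_contra hno
      push Not at hno
      exact hα1 (Equiv.ext hno)
    rcases hcom (δ i) with h | h <;> rw [δ_comp] at h
    · exact tp_ne_zero (Ne.symm hi) h
    · have := congrArg wt h
      rw [show δ i + δ (α.perm i) = tp i (α.perm i) from rfl, wt_tp (Ne.symm hi), wt_one] at this
      refine hx1 (wt_eq_card ?_)
      rw [hx_eq, wt_tp (Ne.symm ha), ← this]
  obtain ⟨a, ha⟩ : ∃ a, κ a ≠ a := by
    by_contra hno
    push Not at hno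
    exact hne (Equiv.ext hno)
  have hout : ∀ i, i ≠ a → i ≠ κ a → x i = 1 ∧ κ i = i := by
    intro i h1 h2
    have hi1 : x i = 1 := by
      refine (zmod_two _).resolve_left fun h => ?_
      rcases hlevel a ha i (h.trans (hzero a ha).symm) with h' | h'
      · exact h1 h'
      · exact h2 h'
    refine ⟨hi1, ?_⟩
    by_contra hmv
    exact one_ne_zero (hi1.symm.trans (hzero i hmv))
  have hxsum : x = ∑ c ∈ Finset.univ \ {a, κ a}, δ c := by
    ext i
    rw [Finset.sum_apply]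
    simp only [δ_apply, Finset.sum_ite_eq, Finset.mem_sdiff, Finset.mem_univ, true_and,
      Finset.mem_insert, Finset.mem_singleton]
    by_cases h1 : i = a
    · subst h1; simp [hzero i ha]
    by_cases h2 : i = κ a
    · subst h2; simp [hxκ, hzero a ha]
    simp [h1, h2, (hout i h1 h2).1]
  obtain ⟨c0, hc0⟩ : ∃ c, c ∈ Finset.univ \ ({a, κ a} : Finset ι) := by
    by_contra hno
    push Not at hno
    rw [Finset.eq_empty_of_forall_notMem hno, Finset.sum_empty] at hxsum
    rw [hxsum, W.em_zero, map_one] at hrx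
    have ht1 : D.t = 1 := by rw [← hrx]; group
    exact hrt (by rw [ht1]; group)
  have heven : 2 ∣ (Finset.univ \ ({a, κ a} : Finset ι)).card := by
    rw [Finset.card_univ_sdiff, Finset.card_pair (Ne.symm ha)]
    exact Nat.dvd_sub D.card_even (dvd_refl 2)
  -- the functional vanishing on commutators
  let f0 : (ι → ZMod 2) → ZMod 2 := fun v =>
    if h : ∃ u, D.ρ (W.em u) = r * D.ρ (W.em v) * r⁻¹ then h.choose a else 0
  have hf0 : ∀ v u, D.ρ (W.em u) = r * D.ρ (W.em v) * r⁻¹ → f0 v = u a := by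
    intro v u hu
    have h : ∃ u, D.ρ (W.em u) = r * D.ρ (W.em v) * r⁻¹ := ⟨u, hu⟩
    simp only [f0, dif_pos h]
    rw [W.em_injective (D.ρ_injective (h.choose_spec.trans hu.symm))]
  have himg : ∀ v, (∀ i, v (κ i) = v i) →
      ∃ u, D.ρ (W.em u) = r * D.ρ (W.em v) * r⁻¹ ∧ u (κ a) = u a := by
    intro v hv
    obtain ⟨u, hu⟩ := D.mem_E.1 (hmemE _ (W.em_mem_tw.2 hv))
    obtain ⟨y, hy, hy'⟩ := hmemB v
    rw [← hu] at hy'
    exact ⟨u, hu, W.em_mem_tw.1 (D.ρ_injective hy' ▸ hy) a⟩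
  have hgen : ∀ c ∈ Finset.univ \ ({a, κ a} : Finset ι), f0 (δ c + δ c0) = 0 ∧
      ∃ u, D.ρ (W.em u) = r * D.ρ (W.em (δ c + δ c0)) * r⁻¹ := by
    intro c hc
    simp only [Finset.mem_sdiff, Finset.mem_univ, true_and, Finset.mem_insert,
      Finset.mem_singleton, not_or] at hc hc0
    have hinv : ∀ i, δ c (κ i) = δ c i := by
      intro i
      have hcf : κ c = c := (hout c hc.1 hc.2).2
      have : κ i = c ↔ i = c :=
        ⟨fun h => κ.injective (h.trans hcf.symm), fun h => h ▸ hcf⟩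
      simp [δ_apply, this]
    obtain ⟨u, hu, hua⟩ := himg _ hinv
    have hmem : W.pm (Equiv.swap c c0) ∈ C0 := (hC0 _).2 (by
      ext j
      simp only [W.pm_perm, Function.comp_apply, Equiv.symm_swap]
      by_cases h1 : j = c
      · subst h1; rw [Equiv.swap_apply_left, (hout c0 hc0.1 hc0.2).1, (hout j hc.1 hc.2).1]
      by_cases h2 : j = c0
      · subst h2; rw [Equiv.swap_apply_right, (hout c hc.1 hc.2).1, (hout j hc0.1 hc0.2).1]
      rw [Equiv.swap_apply_of_ne_of_ne h1 h2])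
    set σ : C0 := ⟨_, hmem⟩
    obtain ⟨u', hu', -⟩ := himg (δ c0) (by
      intro i
      have hcf : κ c0 = c0 := (hout c0 hc0.1 hc0.2).2
      have : κ i = c0 ↔ i = c0 :=
        ⟨fun h => κ.injective (h.trans hcf.symm), fun h => h ▸ hcf⟩
      simp [δ_apply, this])
    have hq := D.q_conj (hct σ) (x := W.em u) (y := W.em u') (by
      rw [hu, hu']
      have e : W.em (δ c0) = W.pm (Equiv.swap c c0) * W.em (δ c) * (W.pm (Equiv.swap c c0))⁻¹ := by
        rw [W.conj_em, W.pm_perm, δ_comp, Equiv.swap_apply_left]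
      rw [e, map_mul, map_mul, map_inv]
      have : ((σ : C0) : W ι) = W.pm (Equiv.swap c c0) := rfl
      rw [this]
      group)
    rw [W.conj_em] at hq
    have hu'eq := W.em_injective hq
    have hfix : x ((f σ).perm.symm a) = x a := congrFun ((hC0 _).1 (hfmem σ)) a
    have hsum' : D.ρ (W.em (u + u')) = r * D.ρ (W.em (δ c + δ c0)) * r⁻¹ := by
      rw [W.em_add, W.em_add, map_mul, map_mul, hu, hu']; group
    refine ⟨?_, _, hsum'⟩
    rw [hf0 _ _ hsum', ← hu'eq]
    simp only [Pi.add_apply, Function.comp_apply]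
    change u a + u ((f σ).perm.symm a) = 0
    rcases hlevel a ha _ hfix with h | h <;> rw [h]
    · exact CharTwo.add_self_eq_zero _
    · rw [hua]; exact CharTwo.add_self_eq_zero _
  have hfinal : ∀ s ⊆ Finset.univ \ ({a, κ a} : Finset ι), f0 (∑ c ∈ s, (δ c + δ c0)) = 0 ∧
      ∃ u, D.ρ (W.em u) = r * D.ρ (W.em (∑ c ∈ s, (δ c + δ c0))) * r⁻¹ := by
    intro s
    induction s using Finset.induction_on with
    | empty =>
      intro _
      have h0 : D.ρ (W.em 0) = r * D.ρ (W.em (∑ c ∈ (∅ : Finset ι), (δ c + δ c0))) * r⁻¹ := by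
        rw [Finset.sum_empty, W.em_zero, map_one]; group
      exact ⟨by rw [hf0 _ _ h0]; rfl, _, h0⟩
    | insert c s hcs ih =>
      intro hsub
      rw [Finset.insert_subset_iff] at hsub
      obtain ⟨h1, u1, hu1⟩ := hgen c hsub.1
      obtain ⟨h2, u2, hu2⟩ := ih hsub.2
      have hsum' : D.ρ (W.em (u1 + u2)) =
          r * D.ρ (W.em (∑ c ∈ insert c s, (δ c + δ c0))) * r⁻¹ := by
        rw [Finset.sum_insert hcs, W.em_add, W.em_add, map_mul, map_mul, hu1, hu2]; group
      refine ⟨?_, _, hsum'⟩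
      have a1 := (hf0 _ _ hu1).symm.trans h1
      have a2 := (hf0 _ _ hu2).symm.trans h2
      rw [hf0 _ _ hsum', Pi.add_apply, a1, a2, add_zero]
  obtain ⟨k, hk⟩ := heven
  have h := (hfinal _ subset_rfl).1
  rw [Finset.sum_add_distrib, ← hxsum, Finset.sum_const, hk, mul_nsmul, two_nsmul, add_self,
    nsmul_zero, add_zero, hf0 x (fun _ => 1) (by rw [D.ρ_t, hrx])] at h
  exact one_ne_zero h

/-- The base is weakly closed. -/
theorem weaklyClosed [Finite G] : D.WeaklyClosed := by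
  intro g hg
  classical
  have hle : cj g D.E ≤ D.ρ.range := by
    intro x hx
    obtain ⟨e, he⟩ := D.mem_E.1 (mem_cj.1 hx)
    have := hg e
    rw [he] at this
    simpa [mul_assoc] using this
  set A := (cj g D.E).comap D.ρ
  have hAE : ∀ x ∈ A, x * x = 1 := by
    intro x hx
    obtain ⟨e, he⟩ := D.mem_E.1 (mem_cj.1 (mem_comap.1 hx))
    apply D.ρ_injective
    have h : D.ρ (W.em e) * D.ρ (W.em e) = 1 := by
      rw [← map_mul, ← W.em_add, add_self, W.em_zero, map_one]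
    rw [he] at h
    rw [map_mul, map_one]
    have h2 := congrArg (fun u => g * u * g⁻¹) h
    simpa [mul_assoc] using h2
  have hAmap : A.map D.ρ = cj g D.E := map_comap_eq_self hle
  have hAc : Nat.card A = 2 ^ Fintype.card ι := by
    rw [← Subgroup.card_map_of_injective (K := A) D.ρ_injective, hAmap, card_cj,
      Setup.E, Subgroup.card_map_of_injective D.ρ_injective, W.card_base]
  obtain ⟨κ, hκ, hAκ⟩ := W.eq_tw A (W.isEA_of_sq hAE) hAc
  have hgB : cj g D.E = D.B κ hκ := by rw [← hAmap, hAκ, Setup.B]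
  by_cases hne : κ = 1
  · subst hne
    refine D.mem_N_iff.2 ?_
    rw [hgB, Setup.B, Setup.E, W.base_eq_tw]
  exfalso
  obtain ⟨T, -, hTC, hT2, hTodd⟩ :=
    exists_two_sylow (bot_le : (⊥ : Subgroup (Perm ι)) ≤ centralizer ({κ} : Set (Perm ι)))
      IsPGroup.of_bot
  set PW : Subgroup (W ι) := T.comap W.permHom
  have hPW : IsPGroup 2 PW :=
    hT2.comap_of_ker_isPGroup _ (IsPGroup.of_card W.card_base)
  set P : Subgroup G := PW.map D.ρ
  have hP : IsPGroup 2 P := hPW.map _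
  have hPB : ∀ y ∈ P, cj y (D.B κ hκ) = D.B κ hκ := by
    rintro _ ⟨x, hx, rfl⟩
    refine mem_normalizer_iff_cj.1 (Subgroup.mem_normalizer_iff.2 fun z => ?_)
    have key : ∀ x ∈ PW, ∀ z ∈ D.B κ hκ, D.ρ x * z * (D.ρ x)⁻¹ ∈ D.B κ hκ := by
      rintro x hx _ ⟨y, hy, rfl⟩
      exact ⟨x * y * x⁻¹, W.conj_mem_tw (mem_centralizer_singleton_iff.1 (hTC hx)) hy,
        by rw [map_mul, map_mul, map_inv]⟩
    refine ⟨key x hx z, fun h => ?_⟩
    have := key x⁻¹ (inv_mem hx) _ h
    simpa [mul_assoc] using this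
  have hEP : D.E ≤ P := Subgroup.map_mono fun x hx => by
    show W.permHom x ∈ T
    rw [show W.permHom x = 1 from hx]; exact one_mem _
  have hPN : ∀ y ∈ P, cj y D.E = D.E := fun y hy =>
    D.mem_N_iff.1 (D.range_le_N (map_le_range _ _ hy))
  obtain ⟨S0, -, -, -, hS0⟩ := D.exists_S
  have hSN : S0.map D.ρ ≤ D.N := (map_le_range _ _).trans D.range_le_N
  obtain ⟨k, hk, hkP⟩ := exists_conj_le (K := D.N) (Q := cj g⁻¹ P) (T := S0.map D.ρ)
    (fun x hx => by
      rw [mem_cj, inv_inv] at hx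
      refine D.mem_N_iff.2 ?_
      have h := hPB _ hx
      rw [show x = g⁻¹ * (g * x * g⁻¹) * g by group, cj_mul, cj_mul, hgB, h, cj_inv_eq hgB])
    hSN (hP.map _) (fun h => hS0 (h.trans (Dvd.intro _ (Subgroup.relIndex_mul_index hSN))))
  set h := k * g⁻¹
  have hhB : cj h (D.B κ hκ) = D.E := by
    rw [cj_mul, cj_inv_eq hgB, D.mem_N_iff.1 hk]
  have hhE : cj h D.E ≤ D.ρ.range := by
    intro x hx
    have hy : h⁻¹ * x * h ∈ P := hEP (mem_cj.1 hx)
    have h1 : g⁻¹ * (h⁻¹ * x * h) * g ∈ cj g⁻¹ P := mem_cj.2 (by simpa [mul_assoc] using hy)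
    have h2 := map_le_range _ _ (hkP _ h1)
    simpa [h, mul_assoc] using h2
  set A' := (cj h D.E).comap D.ρ
  have hA'map : A'.map D.ρ = cj h D.E := map_comap_eq_self hhE
  have hA'E : ∀ x ∈ A', x * x = 1 := by
    intro x hx
    obtain ⟨e, he⟩ := D.mem_E.1 (mem_cj.1 (mem_comap.1 hx))
    apply D.ρ_injective
    have h' : D.ρ (W.em e) * D.ρ (W.em e) = 1 := by
      rw [← map_mul, ← W.em_add, add_self, W.em_zero, map_one]
    rw [he] at h'
    rw [map_mul, map_one]
    have h2 := congrArg (fun u => h * u * h⁻¹) h'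
    simpa [mul_assoc] using h2
  have hA'c : Nat.card A' = 2 ^ Fintype.card ι := by
    rw [← Subgroup.card_map_of_injective (K := A') D.ρ_injective, hA'map, card_cj,
      Setup.E, Subgroup.card_map_of_injective D.ρ_injective, W.card_base]
  obtain ⟨κ', hκ', hA'κ⟩ := W.eq_tw A' (W.isEA_of_sq hA'E) hA'c
  have hhE' : cj h D.E = D.B κ' hκ' := by rw [← hA'map, hA'κ, Setup.B]
  have hint : Nat.card ↥(W.tw κ' hκ' ⊓ W.base) = Nat.card ↥(W.tw κ hκ ⊓ W.base) := by
    rw [← Subgroup.card_map_of_injective (K := W.tw κ' hκ' ⊓ W.base) D.ρ_injective,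
      ← Subgroup.card_map_of_injective (K := W.tw κ hκ ⊓ W.base) D.ρ_injective,
      Subgroup.map_inf _ _ _ D.ρ_injective, Subgroup.map_inf _ _ _ D.ρ_injective,
      show (W.tw κ hκ).map D.ρ ⊓ W.base.map D.ρ = D.E ⊓ D.B κ hκ from inf_comm _ _,
      ← card_cj h (D.E ⊓ D.B κ hκ), cj_inf, hhB, hhE']
    rfl
  obtain ⟨-, hq⟩ := (W.card_orbits _ (W.isEA_tw κ hκ)).1 (hAκ ▸ hAc).ge
  have hs := W.card_support_of_card κ hκ (hAκ ▸ hAc) _ hq
  have hs' := W.card_support_of_card κ' hκ' (hA'κ ▸ hA'c) _ (hint.trans hq)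
  have hconj : IsConj κ' κ := by
    rw [Equiv.Perm.isConj_iff_cycleType_eq]
    have hrep : ∀ π : Perm ι, π * π = 1 →
        π.cycleType = Multiset.replicate (π.support.card / 2) 2 := by
      intro π hπ
      have hall : ∀ n ∈ π.cycleType, n = 2 := by
        intro n hn
        exact le_antisymm (Nat.le_of_dvd two_pos ((Equiv.Perm.dvd_of_mem_cycleType hn).trans
          (orderOf_dvd_of_pow_eq_one (by rw [sq, hπ])))) (Equiv.Perm.two_le_of_mem_cycleType hn)
      have h1 := Multiset.eq_replicate_card.2 hall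
      have h2 := π.sum_cycleType
      rw [h1, Multiset.sum_replicate, smul_eq_mul] at h2
      rw [← h2, Nat.mul_div_cancel _ two_pos]
      exact h1
    rw [hrep κ' hκ', hrep κ hκ, hs, hs']
  obtain ⟨σ, hσ⟩ := isConj_iff.1 hconj
  set y := D.ρ (W.pm σ)
  have hyB : cj y (D.B κ' hκ') = D.B κ hκ := by
    have hsub : cj y (D.B κ' hκ') ≤ D.B κ hκ := by
      intro x hx
      obtain ⟨z, hz, hz'⟩ := mem_cj.1 hx
      refine ⟨W.pm σ * z * (W.pm σ)⁻¹, ?_, by
        rw [map_mul, map_mul, map_inv, hz', show D.ρ (W.pm σ) = y from rfl]; group⟩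
      have hσ' : σ * κ' = κ * σ := by rw [← hσ]; group
      refine ⟨fun i => ?_, fun i => ?_⟩
      · obtain ⟨j, rfl⟩ : ∃ j, σ j = i := σ.surjective i
        rw [← Equiv.Perm.mul_apply κ σ, ← hσ', Equiv.Perm.mul_apply]
        simp only [W.mul_vec, W.inv_vec, W.pm_vec, Pi.add_apply, Function.comp_apply, W.pm_perm,
          Equiv.symm_apply_apply, hz.1, Pi.zero_apply, zero_add, add_zero]
      · obtain ⟨j, rfl⟩ : ∃ j, σ j = i := σ.surjective i
        simp only [W.mul_perm, W.inv_perm, W.pm_perm, Equiv.Perm.mul_apply]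
        rw [show σ⁻¹ (σ j) = j from σ.symm_apply_apply j, ← Equiv.Perm.mul_apply κ σ, ← hσ',
          Equiv.Perm.mul_apply]
        exact (hz.2 j).imp (congrArg σ) (congrArg σ)
    refine Subgroup.eq_of_le_of_card_ge hsub (le_of_eq ?_)
    rw [card_cj, Setup.B, Setup.B, Subgroup.card_map_of_injective D.ρ_injective,
      Subgroup.card_map_of_injective D.ρ_injective, ← hAκ, ← hA'κ, hAc, hA'c]
  set s := y * h
  have hsE : cj s D.E = D.B κ hκ := by rw [cj_mul, hhE', hyB]
  have hsB : cj s (D.B κ hκ) = D.E := by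
    rw [cj_mul, hhB, D.mem_N_iff.1 (D.ρ_mem_N _)]
  have hEB : D.E ≠ D.B κ hκ := by
    intro e
    apply D.no_swap hne (g := 1) (by group)
    rw [cj_one]; exact e
  set U := pairStab D.E (D.B κ hκ)
  have hsU : s ∈ U := Or.inr ⟨hsE, hsB⟩
  obtain ⟨e2, o, ho, hord⟩ :=
    Nat.exists_eq_pow_mul_and_not_dvd (orderOf_pos s).ne' 2 (by norm_num)
  have hswap : cj (s ^ o) D.E = D.B κ hκ := by
    have : ∀ n : ℕ, cj (s ^ (2 * n + 1)) D.E = D.B κ hκ := by
      intro n
      induction n with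
      | zero => simpa using hsE
      | succ n ih =>
        rw [show 2 * (n + 1) + 1 = 2 + (2 * n + 1) by ring, pow_add, sq, cj_mul, cj_mul, ih, hsB,
          hsE]
    obtain ⟨n, rfl⟩ : ∃ n, o = 2 * n + 1 := ⟨o / 2, by omega⟩
    exact this n
  have hs2U : s ^ o ∈ U := pow_mem hsU _
  have hQ : IsPGroup 2 ↥(zpowers (s ^ o)) := by
    refine IsPGroup.of_card (n := e2) ?_
    rw [Nat.card_zpowers, orderOf_pow, hord, Nat.gcd_eq_right (dvd_mul_left o _),
      Nat.mul_div_cancel _ (by omega)]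
  have hPU : P ≤ U := fun x hx => Or.inl ⟨hPN x hx, hPB x hx⟩
  obtain ⟨R, hPR, hRU, hR2, hRodd⟩ := exists_two_sylow hPU hP
  have hPRne : P ≠ R := by
    rintro rfl
    obtain ⟨u, hu, huP⟩ := exists_conj_le ((zpowers_le).2 hs2U) hPU hQ hRodd
    have hc := huP _ (mem_zpowers _)
    have hfix : cj (u * s ^ o * u⁻¹) D.E = D.E := hPN _ hc
    have hfix2 : cj (u * s ^ o * u⁻¹) (D.B κ hκ) = D.B κ hκ := hPB _ hc
    rcases hu with ⟨h1, h2⟩ | ⟨h1, h2⟩
    · rw [cj_mul, cj_mul, cj_inv_eq h1, hswap, h2] at hfix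
      exact hEB hfix.symm
    · rw [cj_mul, cj_mul, cj_inv_eq h1, hswap, h2] at hfix2
      exact hEB hfix2
  obtain ⟨r, hrR, hrP, hr2, hrn⟩ := exists_sq_mem hR2 hPR hPRne
  have hr2t : r * r * D.t = D.t * (r * r) := by
    obtain ⟨x, -, hx⟩ := hr2
    rw [← hx]; exact D.comm_t x
  rcases hRU hrR with ⟨hrE, hrB⟩ | ⟨hrE, hrB⟩
  · have hrN : r ∈ D.N := D.mem_N_iff.2 hrE
    by_cases hrt : r * D.t = D.t * r
    · obtain ⟨x, rfl⟩ := D.exists_ρ hrt hrN
      have hxc : x.perm * κ = κ * x.perm := by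
        refine W.commute_of_normalises (hκ := hκ) (D.ρ_mem_B.1 ?_)
        rw [← hrB, mem_cj, map_mul, map_mul, map_inv]
        simpa [mul_assoc] using D.ρ_mem_B.2 (W.pm_mem_tw κ hκ)
      let K1 : Subgroup G := ((centralizer ({κ} : Set (Perm ι))).comap W.permHom).map D.ρ
      let P' : Subgroup G := P ⊔ zpowers (D.ρ x)
      have hP'K : P' ≤ K1 := sup_le (map_mono (comap_mono hTC))
        ((zpowers_le).2 ⟨x, mem_centralizer_singleton_iff.2 hxc, rfl⟩)
      have hP'2 : IsPGroup 2 P' := hR2.to_le (sup_le hPR ((zpowers_le).2 hrR))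
      have hidx : ¬2 ∣ P.relIndex K1 := by
        rw [Subgroup.relIndex_map_map_of_injective _ _ D.ρ_injective, relIndex_comap,
          map_comap_eq_self_of_surjective (fun π => ⟨W.pm π, rfl⟩)]
        exact hTodd
      obtain ⟨k', -, hk'⟩ := exists_conj_le hP'K (map_mono (comap_mono hTC)) hP'2 hidx
      have hle' : cj k' P' ≤ P := by
        intro z hz
        have h2 := hk' _ (mem_cj.1 hz)
        rwa [show k' * (k'⁻¹ * z * k') * k'⁻¹ = z by group] at h2
      have hcard : Nat.card P' ≤ Nat.card P := by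
        rw [← card_cj k' P']; exact Nat.card_le_card_of_injective _ (Subgroup.inclusion_injective hle')
      have hPP : P = P' := Subgroup.eq_of_le_of_card_ge le_sup_left hcard
      exact hrP (hPP ▸ (le_sup_right : zpowers (D.ρ x) ≤ P') (mem_zpowers _))
    · have hfixT : ∀ σ ∈ T, D.act r (fun _ => 1) ∘ σ.symm = D.act r (fun _ => 1) := by
        intro σ hσT
        have hmem : D.ρ (W.pm σ) ∈ P := ⟨_, hσT, rfl⟩
        have hmem' : r⁻¹ * D.ρ (W.pm σ) * r ∈ P := (hrn _).2 (by simpa [mul_assoc] using hmem)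
        obtain ⟨z, -, hz⟩ := hmem'
        have hz2 : D.ρ (W.pm σ) = r * D.ρ z * r⁻¹ := by rw [hz]; group
        show D.act r (fun _ => 1) ∘ (W.pm σ).perm.symm = _
        rw [← D.act_ρ (W.pm σ) (D.act r fun _ => 1), ← D.act_mul (D.ρ_mem_N _) hrN, hz2,
          show r * D.ρ z * r⁻¹ * r = r * D.ρ z by group, D.act_mul hrN (D.ρ_mem_N _),
          D.act_ρ]
        rfl
      have hxκ : ∀ i, D.act r (fun _ => 1) (κ i) = D.act r (fun _ => 1) i := by
        refine (W.em_mem_tw (hκ := hκ)).1 (D.ρ_mem_B.1 ?_)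
        rw [← D.act_spec hrN, D.ρ_t, ← hrB, mem_cj]
        simpa [mul_assoc] using D.t_mem_B κ hκ
      rcases D.t_orbit hrN with h' | ⟨a, h'⟩
      · exact hrt ((D.commutes_t_iff hrN).2 h')
      · have hfx : ∀ π : Perm ι, (∀ j, D.act r (fun _ => 1) (π j) = D.act r (fun _ => 1) j) →
            π a = a := by
          intro π hπ
          have := hπ a
          by_contra hπa
          rcases h' with h' | h' <;> rw [h'] at this <;>
            simp [δ_apply, hπa, CharTwo.add_self_eq_zero] at this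
        obtain ⟨σ, hσT, hσ'⟩ := exists_move_fix D.card_even hκ hTC hTodd (hfx κ hxκ)
        exact hσ' (hfx σ fun j => by
          have := congrFun (hfixT σ hσT) (σ j)
          simpa using this.symm)
  · exact D.not_swapped hne hrE hrB hr2t

end Setup

end Cfsg.Kondo67
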