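import Mathlib.GroupTheory.Perm.Cycle.Type
import Mathlib.GroupTheory.Sylow
import Mathlib.Algebra.CharP.Two
import Mathlib.GroupTheory.SpecificGroups.Cyclic

/-!
# The wreath product `Z₂ ≀ Perm ι` and its elementary abelian subgroups of maximal order
-/

set_option autoImplicit false

namespace Cfsg.Kondo67

open Equiv Finset

variable {ι : Type} [Fintype ι] [DecidableEq ι]

/-- Monomial wreath product. -/
@[ext]
structure W (ι : Type) where
  vec : ι → ZMod 2
  perm : Perm ι

namespace W

instance : Mul (W ι) := ⟨fun x y => ⟨x.vec + y.vec ∘ x.perm.symm, x.perm * y.perm⟩⟩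
instance : One (W ι) := ⟨⟨0, 1⟩⟩
instance : Inv (W ι) := ⟨fun x => ⟨x.vec ∘ x.perm, x.perm⁻¹⟩⟩

omit [Fintype ι] [DecidableEq ι] in
@[simp] theorem mul_vec (x y : W ι) : (x * y).vec = x.vec + y.vec ∘ x.perm.symm := rfl
omit [Fintype ι] [DecidableEq ι] in
@[simp] theorem mul_perm (x y : W ι) : (x * y).perm = x.perm * y.perm := rfl
omit [Fintype ι] [DecidableEq ι] in
@[simp] theorem one_vec : (1 : W ι).vec = 0 := rfl
omit [Fintype ι] [DecidableEq ι] in
@[simp] theorem one_perm : (1 : W ι).perm = 1 := rfl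
omit [Fintype ι] [DecidableEq ι] in
@[simp] theorem inv_vec (x : W ι) : x⁻¹.vec = x.vec ∘ x.perm := rfl
omit [Fintype ι] [DecidableEq ι] in
@[simp] theorem inv_perm (x : W ι) : x⁻¹.perm = x.perm⁻¹ := rfl

instance : Group (W ι) where
  mul_assoc x y z := by
    ext i
    · simp [add_assoc, Equiv.Perm.mul_def]
    · simp [mul_assoc]
  one_mul x := by ext i <;> simp [Equiv.Perm.one_def]
  mul_one x := by ext i <;> simp
  inv_mul_cancel x := by
    ext i
    · simp [CharTwo.add_self_eq_zero, Equiv.Perm.inv_def]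
    · simp

noncomputable instance : Fintype (W ι) :=
  Fintype.ofEquiv ((ι → ZMod 2) × Perm ι)
    { toFun := fun p => ⟨p.1, p.2⟩
      invFun := fun x => (x.vec, x.perm)
      left_inv := fun _ => rfl
      right_inv := fun _ => rfl }

omit [DecidableEq ι] in
theorem finite : Finite (W ι) := by classical exact Finite.of_fintype _

/-- Vectors. -/
def em (e : ι → ZMod 2) : W ι := ⟨e, 1⟩

/-- Permutations. -/
def pm (σ : Perm ι) : W ι := ⟨0, σ⟩

omit [Fintype ι] [DecidableEq ι] in
@[simp] theorem em_vec (e : ι → ZMod 2) : (em e).vec = e := rfl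
omit [Fintype ι] [DecidableEq ι] in
@[simp] theorem em_perm (e : ι → ZMod 2) : (em e).perm = 1 := rfl
omit [Fintype ι] [DecidableEq ι] in
@[simp] theorem pm_vec (σ : Perm ι) : (pm σ).vec = 0 := rfl
omit [Fintype ι] [DecidableEq ι] in
@[simp] theorem pm_perm (σ : Perm ι) : (pm σ).perm = σ := rfl

omit [Fintype ι] [DecidableEq ι] in
theorem em_add (e f : ι → ZMod 2) : em (e + f) = em e * em f := by
  ext i <;> simp [Equiv.Perm.one_def]

omit [Fintype ι] [DecidableEq ι] in
theorem em_zero : em (0 : ι → ZMod 2) = 1 := rfl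

omit [Fintype ι] [DecidableEq ι] in
theorem em_injective : Function.Injective (em : (ι → ZMod 2) → W ι) :=
  fun _ _ h => congrArg W.vec h

omit [Fintype ι] [DecidableEq ι] in
theorem em_inv (e : ι → ZMod 2) : (em e)⁻¹ = em e := by
  ext i <;> simp

omit [Fintype ι] [DecidableEq ι] in
theorem eq_em_mul_pm (x : W ι) : x = em x.vec * pm x.perm := by
  ext i <;> simp

omit [Fintype ι] [DecidableEq ι] in
theorem eq_em {x : W ι} (h : x.perm = 1) : x = em x.vec := by
  ext i <;> simp [h]

omit [Fintype ι] [DecidableEq ι] in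
theorem conj_em (x : W ι) (e : ι → ZMod 2) : x * em e * x⁻¹ = em (e ∘ x.perm.symm) := by
  ext i
  · have h : ∀ j, x.perm ((x.perm * 1).symm j) = j := fun j => by
      rw [mul_one, Equiv.apply_symm_apply]
    simp only [mul_vec, em_vec, mul_perm, em_perm, inv_vec, Pi.add_apply, Function.comp_apply, h]
    rw [add_assoc, add_comm (e _), ← add_assoc, CharTwo.add_self_eq_zero, zero_add]
  · simp

omit [Fintype ι] [DecidableEq ι] in
theorem pm_mul (σ τ : Perm ι) : pm (σ * τ) = pm σ * pm τ := by
  ext i <;> simp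

/-- The permutation part. -/
def permHom : W ι →* Perm ι where
  toFun x := x.perm
  map_one' := rfl
  map_mul' _ _ := rfl

/-- The base group. -/
def base : Subgroup (W ι) := (permHom : W ι →* Perm ι).ker

omit [Fintype ι] [DecidableEq ι] in
theorem mem_base {x : W ι} : x ∈ base ↔ x.perm = 1 := Iff.rfl

omit [Fintype ι] [DecidableEq ι] in
theorem em_mem_base (e : ι → ZMod 2) : em e ∈ base := rfl

omit [Fintype ι] [DecidableEq ι] in
theorem sq_vec {x : W ι} (h : x * x = 1) (i : ι) : x.vec (x.perm i) = x.vec i := by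
  have := congrFun (congrArg W.vec h) (x.perm i)
  simp only [mul_vec, one_vec, Pi.add_apply, Function.comp_apply, Equiv.symm_apply_apply,
    Pi.zero_apply] at this
  exact CharTwo.add_eq_zero.1 this

/-- The subgroup attached to an involutory permutation. -/
def tw (κ : Perm ι) (hκ : κ * κ = 1) : Subgroup (W ι) where
  carrier := {x | (∀ i, x.vec (κ i) = x.vec i) ∧ ∀ i, x.perm i = i ∨ x.perm i = κ i}
  one_mem' := ⟨fun _ => rfl, fun _ => Or.inl rfl⟩
  mul_mem' {x y} hx hy := by
    have hκ' : ∀ i, κ (κ i) = i := fun i => by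
      rw [← Equiv.Perm.mul_apply, hκ, Equiv.Perm.one_apply]
    have hsymm : ∀ i, y.vec (x.perm.symm i) = y.vec i := by
      intro i
      rcases hx.2 (x.perm.symm i) with h | h
      · rw [Equiv.apply_symm_apply] at h
        rw [← h]
      · rw [Equiv.apply_symm_apply] at h
        conv_rhs => rw [h, hy.1]
    refine ⟨fun i => ?_, fun i => ?_⟩
    · simp only [mul_vec, Pi.add_apply, Function.comp_apply, hsymm, hx.1, hy.1]
    · rw [mul_perm, Equiv.Perm.mul_apply]
      rcases hy.2 i with h | h <;> rw [h]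
      · exact hx.2 i
      · rcases hx.2 (κ i) with h' | h'
        · exact Or.inr h'
        · exact Or.inl (h'.trans (hκ' i))
  inv_mem' {x} hx := by
    have hκ' : ∀ i, κ (κ i) = i := fun i => by
      rw [← Equiv.Perm.mul_apply, hκ, Equiv.Perm.one_apply]
    refine ⟨fun i => ?_, fun i => ?_⟩
    · have h1 : ∀ j, x.vec (x.perm j) = x.vec j := by
        intro j
        rcases hx.2 j with h | h <;> rw [h]
        exact hx.1 j
      simp only [inv_vec, Function.comp_apply, h1, hx.1]
    · rw [inv_perm]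
      rcases hx.2 (x.perm⁻¹ i) with h | h
      · rw [← Equiv.Perm.mul_apply, mul_inv_cancel, Equiv.Perm.one_apply] at h
        exact Or.inl h.symm
      · rw [← Equiv.Perm.mul_apply, mul_inv_cancel, Equiv.Perm.one_apply] at h
        refine Or.inr ?_
        conv_rhs => rw [h, hκ']

omit [Fintype ι] [DecidableEq ι] in
theorem mem_tw {κ : Perm ι} {hκ : κ * κ = 1} {x : W ι} :
    x ∈ tw κ hκ ↔ (∀ i, x.vec (κ i) = x.vec i) ∧ ∀ i, x.perm i = i ∨ x.perm i = κ i := Iff.rfl

omit [Fintype ι] [DecidableEq ι] in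
theorem em_mem_tw {κ : Perm ι} {hκ : κ * κ = 1} {e : ι → ZMod 2} :
    em e ∈ tw κ hκ ↔ ∀ i, e (κ i) = e i :=
  ⟨fun h => h.1, fun h => ⟨h, fun _ => Or.inl rfl⟩⟩

omit [Fintype ι] [DecidableEq ι] in
theorem pm_mem_tw (κ : Perm ι) (hκ : κ * κ = 1) : pm κ ∈ tw κ hκ :=
  ⟨fun _ => rfl, fun _ => Or.inr rfl⟩

omit [Fintype ι] in
theorem swap_pm_mem_tw (κ : Perm ι) (hκ : κ * κ = 1) (a : ι) :
    pm (Equiv.swap a (κ a)) ∈ tw κ hκ := by
  have hκ' : ∀ i, κ (κ i) = i := fun i => by
    rw [← Equiv.Perm.mul_apply, hκ, Equiv.Perm.one_apply]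
  refine ⟨fun _ => rfl, fun i => ?_⟩
  rw [pm_perm]
  by_cases h1 : i = a
  · subst h1; exact Or.inr (Equiv.swap_apply_left _ _)
  by_cases h2 : i = κ a
  · subst h2; exact Or.inr (by rw [Equiv.swap_apply_right, hκ'])
  exact Or.inl (Equiv.swap_apply_of_ne_of_ne h1 h2)

omit [Fintype ι] [DecidableEq ι] in
theorem tw_perm_invol {κ : Perm ι} {hκ : κ * κ = 1} {x : W ι} (hx : x ∈ tw κ hκ) (i : ι) :
    x.perm (x.perm i) = i := by
  have hκ' : κ (κ i) = i := by rw [← Equiv.Perm.mul_apply, hκ, Equiv.Perm.one_apply]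
  rcases hx.2 i with h | h
  · rw [h, h]
  · rw [h]
    rcases hx.2 (κ i) with h' | h'
    · have : κ i = i := x.perm.injective (h'.trans h.symm)
      rw [h', this]
    · rw [h', hκ']

omit [Fintype ι] [DecidableEq ι] in
theorem tw_mul_self {κ : Perm ι} {hκ : κ * κ = 1} {x : W ι} (hx : x ∈ tw κ hκ) : x * x = 1 := by
  ext i
  · have h : x.perm.symm i = x.perm i :=
      (Equiv.symm_apply_eq _).2 (tw_perm_invol hx i).symm
    simp only [mul_vec, Pi.add_apply, Function.comp_apply, h, one_vec, Pi.zero_apply]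
    rcases hx.2 i with h' | h' <;> rw [h']
    · exact CharTwo.add_self_eq_zero _
    · rw [hx.1]; exact CharTwo.add_self_eq_zero _
  · simp [tw_perm_invol hx i]

/-- An elementary abelian 2-subgroup. -/
structure IsEA {G : Type*} [Group G] (A : Subgroup G) : Prop where
  comm : ∀ x ∈ A, ∀ y ∈ A, x * y = y * x
  sq : ∀ x ∈ A, x * x = 1

omit [Fintype ι] [DecidableEq ι] in
theorem isEA_of_sq {G : Type*} [Group G] {A : Subgroup G} (h : ∀ x ∈ A, x * x = 1) : IsEA A := by
  refine ⟨fun x hx y hy => ?_, h⟩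
  have hinv : ∀ z ∈ A, z⁻¹ = z := fun z hz => inv_eq_of_mul_eq_one_right (h z hz)
  have := hinv _ (mul_mem hx hy)
  rw [mul_inv_rev, hinv x hx, hinv y hy] at this
  exact this.symm

omit [Fintype ι] [DecidableEq ι] in
theorem isEA_tw (κ : Perm ι) (hκ : κ * κ = 1) : IsEA (tw κ hκ) := isEA_of_sq fun _ => tw_mul_self

omit [Fintype ι] [DecidableEq ι] in
theorem base_eq_tw : (base : Subgroup (W ι)) = tw 1 (mul_one 1) := by
  ext x
  refine ⟨fun h => ⟨fun _ => rfl, fun i => Or.inl ?_⟩, fun h => ?_⟩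
  · rw [mem_base.1 h, Equiv.Perm.one_apply]
  · refine mem_base.2 (Equiv.ext fun i => ?_)
    rcases h.2 i with h' | h' <;> simpa using h'

omit [DecidableEq ι] in
theorem card_base : Nat.card (base : Subgroup (W ι)) = 2 ^ Fintype.card ι := by
  classical
  have e : (base : Subgroup (W ι)) ≃ (ι → ZMod 2) :=
    { toFun := fun x => x.1.vec
      invFun := fun v => ⟨em v, em_mem_base v⟩
      left_inv := fun x => Subtype.ext (eq_em (mem_base.1 x.2)).symm
      right_inv := fun _ => rfl }
  rw [Nat.card_congr e, Nat.card_eq_fintype_card, Fintype.card_fun, ZMod.card]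

theorem two_mul_le_two_pow : ∀ k : ℕ, 1 ≤ k → 2 * k ≤ 2 ^ k
  | 0, h => by omega
  | 1, _ => le_refl _
  | k + 2, _ => by
    have := two_mul_le_two_pow (k + 1) (by omega)
    rw [pow_succ]; omega

theorem two_mul_lt_two_pow : ∀ k : ℕ, 3 ≤ k → 2 * k < 2 ^ k
  | 0, h => by omega
  | 1, h => by omega
  | 2, h => by omega
  | 3, _ => by norm_num
  | k + 4, _ => by
    have := two_mul_lt_two_pow (k + 3) (by omega)
    rw [pow_succ]; omega

/-- The orbit relation of an elementary abelian subgroup. -/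
def orbSetoid (A : Subgroup (W ι)) : Setoid ι where
  r i j := ∃ a ∈ A, a.perm i = j
  iseqv :=
    { refl := fun i => ⟨1, A.one_mem, rfl⟩
      symm := fun {i j} ⟨a, ha, h⟩ => ⟨a⁻¹, A.inv_mem ha, by simp [← h]⟩
      trans := fun {i j k} ⟨a, ha, h⟩ ⟨b, hb, h'⟩ => ⟨b * a, A.mul_mem hb ha, by simp [h, h']⟩ }

omit [DecidableEq ι] in
theorem card_orbits (A : Subgroup (W ι)) (hA : IsEA A) :
    (2 ^ Fintype.card ι ≤ Nat.card A →
      (∀ i j k, (orbSetoid A).r i j → (orbSetoid A).r i k → i = j ∨ i = k ∨ j = k) ∧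
        Nat.card ↥(A ⊓ base) = 2 ^ Nat.card (Quotient (orbSetoid A))) ∧
      Nat.card A ≤ 2 ^ Fintype.card ι := by
  classical
  haveI : Finite (W ι) := finite
  letI s := orbSetoid A
  set Q := Quotient s
  haveI : Fintype Q := Fintype.ofFinite _
  let F : Q → Finset ι := fun q => Finset.univ.filter fun i => ⟦i⟧ = q
  have hF : ∀ q, 1 ≤ (F q).card := fun q =>
    Finset.card_pos.2 ⟨q.out, by simp [F]⟩
  have hsum : ∑ q, (F q).card = Fintype.card ι :=
    (Finset.card_eq_sum_card_fiberwise (f := fun i => (⟦i⟧ : Q)) (t := Finset.univ)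
      (fun _ _ => Finset.mem_univ _)).symm.trans Finset.card_univ
  have hker : Nat.card ↥(A ⊓ base) ≤ 2 ^ Nat.card Q := by
    let f : ↥(A ⊓ base) → (Q → ZMod 2) := fun x q => x.1.vec q.out
    have hf : Function.Injective f := by
      intro x y h
      apply Subtype.ext
      rw [eq_em (mem_base.1 x.2.2), eq_em (mem_base.1 y.2.2)]
      congr 1
      funext i
      obtain ⟨a, ha, hai⟩ : (orbSetoid A).r (⟦i⟧ : Q).out i := Quotient.mk_out i
      have hval : ∀ z : ↥(A ⊓ base), z.1.vec i = z.1.vec (⟦i⟧ : Q).out := by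
        intro z
        have hc := hA.comm _ ha _ z.2.1
        have hz : z.1 = em z.1.vec := eq_em (mem_base.1 z.2.2)
        have : em (z.1.vec ∘ a.perm.symm) = z.1 := by
          rw [← conj_em, ← hz, hc, mul_inv_cancel_right]
        have := congrFun (congrArg W.vec this) i
        simp only [em_vec, Function.comp_apply] at this
        rw [(Equiv.symm_apply_eq _).2 hai.symm] at this
        exact this.symm
      rw [hval x, hval y]
      exact congrFun h (⟦i⟧ : Q)
    calc Nat.card ↥(A ⊓ base) ≤ Nat.card (Q → ZMod 2) := Nat.card_le_card_of_injective f hf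
      _ = 2 ^ Nat.card Q := by
        rw [Nat.card_fun, Nat.card_eq_fintype_card (α := ZMod 2), ZMod.card]
  let φ : ↥A →* Perm ι := (permHom : W ι →* Perm ι).comp A.subtype
  have hran : Nat.card φ.range ≤ ∏ q, (F q).card := by
    let f : φ.range → ((q : Q) → ↥(F q)) := fun σ q => ⟨σ.1 q.out, by
      obtain ⟨a, ha⟩ := σ.2
      simp only [F, Finset.mem_filter, Finset.mem_univ, true_and]
      conv_rhs => rw [← Quotient.out_eq q]
      exact Quotient.sound (Setoid.symm ⟨a.1, a.2, by rw [← ha]; rfl⟩)⟩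
    have hf : Function.Injective f := by
      rintro ⟨σ, ⟨x, hx⟩⟩ ⟨σ', ⟨y, hy⟩⟩ h
      apply Subtype.ext
      apply Equiv.ext
      intro i
      obtain ⟨a, ha, hai⟩ : (orbSetoid A).r (⟦i⟧ : Q).out i := Quotient.mk_out i
      have hh : σ (⟦i⟧ : Q).out = σ' (⟦i⟧ : Q).out := congrArg Subtype.val (congrFun h (⟦i⟧ : Q))
      have hcomm : ∀ (z : ↥A) (τ : Perm ι), φ z = τ → τ i = a.perm (τ (⟦i⟧ : Q).out) := by
        intro z τ hz
        have := congrArg W.perm (hA.comm _ z.2 _ ha)
        simp only [mul_perm] at this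
        have := congrFun (congrArg DFunLike.coe this) (⟦i⟧ : Q).out
        simp only [Equiv.Perm.mul_apply, hai] at this
        rw [← hz]
        exact this
      show σ i = σ' i
      rw [hcomm x σ hx, hcomm y σ' hy, hh]
    have h2 := Nat.card_le_card_of_injective f hf
    rwa [Nat.card_pi, Finset.prod_congr rfl fun q _ => Nat.card_eq_finsetCard (F q)] at h2
  have hmul : Nat.card A = Nat.card ↥(A ⊓ base) * Nat.card φ.range := by
    rw [Subgroup.card_eq_card_quotient_mul_card_subgroup φ.ker,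
      Nat.card_congr (QuotientGroup.quotientKerEquivRange φ).toEquiv, mul_comm]
    congr 1
    exact Nat.card_congr
      { toFun := fun x => ⟨x.1.1, x.1.2, x.2⟩
        invFun := fun x => ⟨⟨x.1, x.2.1⟩, x.2.2⟩
        left_inv := fun _ => rfl
        right_inv := fun _ => rfl }
  have hprod : 2 ^ Nat.card Q * ∏ q, (F q).card = ∏ q, 2 * (F q).card := by
    rw [Finset.prod_mul_distrib, Finset.prod_const, Finset.card_univ, Nat.card_eq_fintype_card]
  have hpow : ∏ q, 2 ^ (F q).card = 2 ^ Fintype.card ι := by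
    rw [Finset.prod_pow_eq_pow_sum, hsum]
  have hle : ∏ q, 2 * (F q).card ≤ 2 ^ Fintype.card ι := by
    rw [← hpow]; exact Finset.prod_le_prod' fun q _ => two_mul_le_two_pow _ (hF q)
  have hub : Nat.card A ≤ 2 ^ Nat.card Q * ∏ q, (F q).card := by
    rw [hmul]; exact Nat.mul_le_mul hker hran
  refine ⟨fun hbig => ?_, hub.trans (hprod ▸ hle)⟩
  have heq : ∏ q, 2 * (F q).card = ∏ q, 2 ^ (F q).card := by
    rw [hpow]; exact le_antisymm hle (hbig.trans (hub.trans hprod.le))
  have hsmall : ∀ q, (F q).card ≤ 2 := by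
    intro q
    by_contra hq
    exact (Finset.prod_lt_prod (fun q _ => by have := hF q; omega)
      (fun q _ => two_mul_le_two_pow _ (hF q))
      ⟨q, Finset.mem_univ _, two_mul_lt_two_pow _ (by omega)⟩).ne heq
  refine ⟨fun i j k hij hik => ?_, le_antisymm hker ?_⟩
  · by_contra h
    push Not at h
    have hsub : ({i, j, k} : Finset ι) ⊆ F ⟦i⟧ := by
      intro x hx
      simp only [Finset.mem_insert, Finset.mem_singleton] at hx
      simp only [F, Finset.mem_filter, Finset.mem_univ, true_and]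
      rcases hx with rfl | rfl | rfl
      · rfl
      · exact (Quotient.sound hij).symm
      · exact (Quotient.sound hik).symm
    have := (Finset.card_le_card hsub).trans (hsmall _)
    rw [Finset.card_eq_three.2 ⟨i, j, k, h.1, h.2.1, h.2.2, rfl⟩] at this
    omega
  · have hPpos : 0 < ∏ q, (F q).card := Finset.prod_pos fun q _ => hF q
    have : 2 ^ Nat.card Q * ∏ q, (F q).card ≤ Nat.card ↥(A ⊓ base) * ∏ q, (F q).card := by
      calc 2 ^ Nat.card Q * ∏ q, (F q).card ≤ Nat.card A := by rw [hprod, heq, hpow]; exact hbig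
        _ ≤ _ := by rw [hmul]; exact Nat.mul_le_mul_left _ hran
    exact Nat.le_of_mul_le_mul_right this hPpos

omit [DecidableEq ι] in
/-- Elementary abelian subgroups of maximal order. -/
theorem eq_tw (A : Subgroup (W ι)) (hA : IsEA A) (hc : Nat.card A = 2 ^ Fintype.card ι) :
    ∃ (κ : Perm ι) (hκ : κ * κ = 1), A = tw κ hκ := by
  classical
  haveI : Finite (W ι) := finite
  obtain ⟨h3, -⟩ := (card_orbits A hA).1 hc.ge
  let k : ι → ι := fun i =>
    if h : ∃ j, (orbSetoid A).r i j ∧ j ≠ i then h.choose else i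
  have hk : ∀ i, (orbSetoid A).r i (k i) := by
    intro i
    by_cases h : ∃ j, (orbSetoid A).r i j ∧ j ≠ i
    · simp only [k, dif_pos h]; exact h.choose_spec.1
    · simp only [k, dif_neg h]; exact (orbSetoid A).iseqv.refl i
  have hk2 : ∀ i j, (orbSetoid A).r i j → j ≠ i → k i = j := by
    intro i j hij hne
    have h : ∃ j, (orbSetoid A).r i j ∧ j ≠ i := ⟨j, hij, hne⟩
    have hki : k i ≠ i := by simp only [k, dif_pos h]; exact h.choose_spec.2
    rcases h3 i j (k i) hij (hk i) with h' | h' | h'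
    · exact absurd h'.symm hne
    · exact absurd h'.symm hki
    · exact h'.symm
  have hkk : ∀ i, k (k i) = i := by
    intro i
    by_cases hki : k i = i
    · rw [hki, hki]
    · exact hk2 _ _ ((orbSetoid A).iseqv.symm (hk i)) (Ne.symm hki)
  let κ : Perm ι := ⟨k, k, hkk, hkk⟩
  have hκ : κ * κ = 1 := Equiv.ext hkk
  refine ⟨κ, hκ, ?_⟩
  have hle : A ≤ tw κ hκ := by
    intro x hx
    have hmove : ∀ i, x.perm i = i ∨ x.perm i = κ i := fun i =>
      (_root_.em (x.perm i = i)).imp id fun h => (hk2 i _ ⟨x, hx, rfl⟩ h).symm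
    refine ⟨fun i => ?_, hmove⟩
    show x.vec (k i) = x.vec i
    by_cases hki : k i = i
    · rw [hki]
    by_cases hxi : x.perm i = i
    · obtain ⟨b, hb, hbi⟩ := hk i
      have hc := congrFun (congrArg W.vec (hA.comm _ hx _ hb)) (k i)
      have hsx : x.perm.symm (k i) = k i := by
        rw [Equiv.symm_apply_eq]
        have := congrArg (fun z : W ι => z.perm i) (hA.comm _ hx _ hb)
        simp only [mul_perm, Equiv.Perm.mul_apply, hxi, hbi] at this
        exact this.symm
      have hsb : b.perm.symm (k i) = i := by rw [Equiv.symm_apply_eq, hbi]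
      simp only [mul_vec, Pi.add_apply, Function.comp_apply, hsx, hsb] at hc
      rw [add_comm] at hc
      exact add_left_cancel hc
    · have := sq_vec (hA.sq x hx) i
      rwa [← hk2 i _ ⟨x, hx, rfl⟩ hxi] at this
  refine Subgroup.eq_of_le_of_card_ge hle ?_
  rw [hc]
  exact (card_orbits _ (isEA_tw κ hκ)).2

omit [Fintype ι] [DecidableEq ι] in
theorem orbSetoid_tw {κ : Perm ι} {hκ : κ * κ = 1} {i j : ι} :
    (orbSetoid (tw κ hκ)).r i j ↔ j = i ∨ j = κ i := by
  constructor
  · rintro ⟨a, ha, rfl⟩; exact ha.2 i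
  · rintro (rfl | rfl)
    · exact (orbSetoid _).iseqv.refl _
    · exact ⟨pm κ, pm_mem_tw κ hκ, rfl⟩

theorem card_support_of_card (κ : Perm ι) (hκ : κ * κ = 1)
    (hc : Nat.card ↥(tw κ hκ) = 2 ^ Fintype.card ι) (c : ℕ)
    (hci : Nat.card ↥(tw κ hκ ⊓ base) = 2 ^ c) : κ.support.card = 2 * (Fintype.card ι - c) := by
  classical
  obtain ⟨-, h2⟩ := (card_orbits _ (isEA_tw κ hκ)).1 hc.ge
  rw [hci] at h2
  have hcQ : c = Nat.card (Quotient (orbSetoid (tw κ hκ))) :=
    Nat.pow_right_injective (le_refl 2) h2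
  let s := orbSetoid (tw κ hκ)
  letI : Fintype (Quotient s) := Fintype.ofFinite _
  let F : Quotient s → Finset ι := fun q => Finset.univ.filter fun i => Quotient.mk s i = q
  have hsum : ∑ q, (F q).card = Fintype.card ι :=
    (Finset.card_eq_sum_card_fiberwise (f := fun i => Quotient.mk s i) (t := Finset.univ)
      (fun _ _ => Finset.mem_univ _)).symm.trans Finset.card_univ
  have hfix : ∀ q, (F q).card + ((F q).filter fun i => κ i = i).card = 2 := by
    intro q
    induction q using Quotient.inductionOn with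
    | _ i =>
      have hF : F (Quotient.mk s i) = {i, κ i} := by
        ext j
        simp only [F, Finset.mem_filter, Finset.mem_univ, true_and, Finset.mem_insert,
          Finset.mem_singleton]
        rw [eq_comm, Quotient.eq]
        exact orbSetoid_tw
      rw [hF]
      have hκi : κ (κ i) = i := by rw [← Equiv.Perm.mul_apply, hκ, Equiv.Perm.one_apply]
      by_cases h : κ i = i
      · simp [h, Finset.filter_singleton]
      · rw [Finset.card_pair (Ne.symm h), Finset.filter_false_of_mem, Finset.card_empty]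
        intro x hx
        simp only [Finset.mem_insert, Finset.mem_singleton] at hx
        rcases hx with rfl | rfl
        · exact h
        · rw [hκi]; exact Ne.symm h
  have htot := Finset.sum_congr (s₁ := (Finset.univ : Finset (Quotient s))) rfl fun q _ => hfix q
  rw [Finset.sum_add_distrib, hsum, Finset.sum_const, Finset.card_univ, smul_eq_mul] at htot
  have hfixsum : ∑ q, ((F q).filter fun i => κ i = i).card
      = (Finset.univ.filter fun i => κ i = i).card := by
    rw [Finset.card_eq_sum_card_fiberwise (f := fun i => Quotient.mk s i) (t := Finset.univ)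
      (fun _ _ => Finset.mem_univ _)]
    refine Finset.sum_congr rfl fun q _ => ?_
    congr 1
    ext x
    simp [F, and_comm]
  rw [hfixsum] at htot
  have hsupp : κ.support.card + (Finset.univ.filter fun i => κ i = i).card = Fintype.card ι := by
    have h1 : (Finset.univ.filter fun i => κ i = i) = κ.supportᶜ := by ext x; simp
    rw [h1, Finset.card_add_card_compl]
  have hQ : c = Fintype.card (Quotient s) := hcQ.trans Nat.card_eq_fintype_card
  omega

end W

/-- In a finite permutation group a subgroup of odd index moves every point with an orbit of even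
size. -/
theorem exists_move {H : Subgroup (Perm ι)} {T : Subgroup (Perm ι)} (hTH : T ≤ H)
    (hT : ¬2 ∣ T.relIndex H) (x : ι) (O : Finset ι) (hO : ∀ y, y ∈ O ↔ ∃ σ ∈ H, σ x = y)
    (heven : 2 ∣ O.card) : ∃ σ ∈ T, σ x ≠ x := by
  classical
  by_contra hfix
  push Not at hfix
  have hle : T.subgroupOf H ≤ MulAction.stabilizer H x := fun σ hσ => hfix σ.1 hσ
  have hidx : (MulAction.stabilizer H x).index = O.card := by
    rw [MulAction.index_stabilizer, ← Nat.card_eq_finsetCard, ← Nat.card_coe_set_eq]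
    refine Nat.card_congr (Equiv.subtypeEquivRight fun y => ?_)
    rw [hO, MulAction.mem_orbit_iff]
    exact ⟨fun ⟨σ, h⟩ => ⟨σ.1, σ.2, h⟩, fun ⟨σ, hσ, h⟩ => ⟨⟨σ, hσ⟩, h⟩⟩
  apply hT
  calc 2 ∣ O.card := heven
    _ = (MulAction.stabilizer H x).index := hidx.symm
    _ ∣ (T.subgroupOf H).index := Subgroup.index_dvd_of_le hle

end Cfsg.Kondo67
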